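import Groth.Agent.CohqA.FinLocal
import Groth.Agent.CohqB.FiniteType2
import Groth.Agent.Ega1.QAlgFP
import Groth.Agent.Desc.FinLocFreeSections
import Groth.Agent.Dcoh.FTFP
import Mathlib.Algebra.Category.ModuleCat.Sheaf.LocallyFree

/-!
# Mathlib's locally free sheaves of modules on schemes

`isLocallyFree_iff`: locally isomorphic to free modules; `locFree_finType_iff`: locally free of finite type iff finite
locally free (`FlatMod.IsFinLocFree`).
-/

set_option autoImplicit false

universe u

open CategoryTheory CategoryTheory.Limits AlgebraicGeometry Opposite TopologicalSpace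
open AlgebraicGeometry.Scheme.Modules
open Groth.Agent.CohqA.FinLocal

namespace K799.LFree

variable {X Y : Scheme.{u}}

/-- `M` is globally free. -/
def GFree (M : X.Modules) : Prop :=
  ∃ G : SheafOfModules.GeneratingSections M, IsIso G.π

theorem GFree.of_iso {M N : X.Modules} (e : M ≅ N) (h : GFree M) : GFree N := by
  obtain ⟨G, hG⟩ := h
  refine ⟨SheafOfModules.GeneratingSections.ofEpi (R := X.ringCatSheaf) G e.hom, ?_⟩
  rw [SheafOfModules.GeneratingSections.ofEpi_π]
  exact IsIso.comp_isIso' hG inferInstance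

set_option backward.isDefEq.respectTransparency false in
theorem GFree.restrict {M : X.Modules} (h : GFree M) (f : Y ⟶ X) [IsOpenImmersion f] :
    GFree (M.restrict f) := by
  obtain ⟨G, hG⟩ := h
  have : PreservesColimitsOfSize.{u, u} (Scheme.Modules.restrictFunctor f) := inferInstance
  exact ⟨G.map (restrictFunctor f) (restrictUnitIso f).symm, inferInstance⟩

set_option backward.isDefEq.respectTransparency false in
theorem gfree_restrict_of_over {M : X.Modules} {U : X.Opens}
    (G : (SheafOfModules.over.{u} M U).GeneratingSections) (hG : IsIso G.π) :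
    GFree (M.restrict U.ι) := by
  let F := (overEquiv U).functor
  let G' := G.map F (Iso.refl _)
  have : IsIso G'.π := inferInstance
  refine ⟨G'.ofEpi ((overFunctorEquiv U).app M).hom, ?_⟩
  rw [SheafOfModules.GeneratingSections.ofEpi_π]
  infer_instance

set_option backward.isDefEq.respectTransparency false in
theorem over_of_gfree_restrict {M : X.Modules} {U : X.Opens} (h : GFree (M.restrict U.ι)) :
    ∃ G : (SheafOfModules.over.{u} M U).GeneratingSections, IsIso G.π := by
  obtain ⟨G, hG⟩ := h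
  let F := (overEquiv U).inverse
  have : PreservesColimitsOfSize.{u, u} F := inferInstance
  have h1 : IsIso (G.ofEpi ((overFunctorEquiv U).app M).inv).π := by
    rw [SheafOfModules.GeneratingSections.ofEpi_π]
    infer_instance
  let G' : SheafOfModules.GeneratingSections (F.obj ((overEquiv U).functor.obj
    (SheafOfModules.over.{u} M U))) :=
    (G.ofEpi ((overFunctorEquiv U).app M).inv).map F ((overEquiv U).unitIso.app _)
  have : IsIso G'.π := inferInstance
  refine ⟨G'.ofEpi ((overEquiv U).unitIso.app _).inv, ?_⟩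
  rw [SheafOfModules.GeneratingSections.ofEpi_π]
  infer_instance

set_option backward.isDefEq.respectTransparency false in
/-- Locally free iff locally globally free. -/
theorem isLocallyFree_iff (M : X.Modules) :
    SheafOfModules.IsLocallyFree (R := X.ringCatSheaf) M ↔
      ∀ x : X, ∃ U : X.Opens, x ∈ U ∧ GFree (M.restrict U.ι) := by
  constructor
  · intro h x
    obtain ⟨σ, hσ⟩ := h.exists_isLocallyFreeData
    have hc := σ.coversTop
    rw [Opens.coversTop_iff, IsOpenCover] at hc
    have hx : x ∈ ⨆ i, σ.X i := by rw [hc]; trivial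
    rw [Opens.mem_iSup] at hx
    obtain ⟨i, hi⟩ := hx
    exact ⟨σ.X i, hi, gfree_restrict_of_over (σ.generators i) (hσ.isIso i)⟩
  · intro h
    choose U hU hG using h
    choose G hG' using fun x => over_of_gfree_restrict (hG x)
    have hc : (Opens.grothendieckTopology X).CoversTop U := by
      rw [Opens.coversTop_iff, IsOpenCover]
      exact eq_top_iff.mpr fun x _ => Opens.mem_iSup.mpr ⟨x, hU x⟩
    let σ := SheafOfModules.LocalGeneratorsData.mk.{u, u, u, u} (I := ↥X) U hc G
    have hσ : σ.IsLocallyFreeData :=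
      SheafOfModules.LocalGeneratorsData.IsLocallyFreeData.mk.{u, u, u, u} hG'
    exact SheafOfModules.IsLocallyFree.mk.{u, u, u} ⟨σ, hσ⟩

/-- A family with dual functionals in a finite module over a non-zero ring is finite. -/
theorem finite_of_dual {R : Type*} [CommRing R] [Nontrivial R] {N : Type*} [AddCommGroup N] [Module R N]
    [Module.Finite R N] {I : Type*} [DecidableEq I] (p : I → N →ₗ[R] R) (s : I → N)
    (h : ∀ i j, p i (s j) = if j = i then 1 else 0) : Finite I := by
  have hli : LinearIndependent R s := by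
    rw [linearIndependent_iff]
    intro f hf
    ext i
    have h1 := congrArg (p i) hf
    rw [map_zero, Finsupp.linearCombination_apply, Finsupp.sum, map_sum] at h1
    have h2 : ∀ j, p i (f j • s j) = if j = i then f j else 0 := by
      intro j
      rw [(p i).map_smul, h, smul_eq_mul, mul_ite, mul_one, mul_zero]
    rw [Finset.sum_congr rfl (fun j _ => h2 j), Finset.sum_ite_eq' f.support i (fun j => f j)] at h1
    by_cases hi : i ∈ f.support
    · rw [if_pos hi] at h1
      exact h1
    · simpa using hi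
  exact hli.finite

/-- Linear map on sections over `U`. -/
noncomputable def apₗ {M N : X.Modules} (φ : M ⟶ N) (U : X.Opens) : Γ(M, U) →ₗ[Γ(X, U)] Γ(N, U) where
  toFun m := φ.app U m
  map_add' a b := map_add (φ.app U).hom a b
  map_smul' a m := Scheme.Modules.Hom.app_smul φ a m

theorem finite_of_split {N : Y.Modules} (U : Y.Opens) [Nontrivial Γ(Y, U)] [Module.Finite Γ(Y, U) Γ(N, U)]
    {I : Type*} [DecidableEq I] (p : I → (N ⟶ Coh.structureModule Y)) (s : I → (Coh.structureModule Y ⟶ N))
    (h : ∀ i j, s j ≫ p i = if j = i then 𝟙 _ else 0) : Finite I := by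
  let one : Γ(Coh.structureModule Y, U) := (1 : Γ(Y, U))
  refine finite_of_dual (R := Γ(Y, U)) (N := Γ(N, U)) (I := I)
    (fun i => (show Γ(N, U) →ₗ[Γ(Y, U)] Γ(Y, U) from apₗ (p i) U)) (fun j => (s j).app U one) ?_
  intro i j
  have h1 : (p i).app U ((s j).app U one) = (s j ≫ p i).app U one := rfl
  refine Eq.trans h1 ?_
  rw [h]
  split_ifs
  · rfl
  · rfl

theorem finite_of_gfree {N : Y.Modules} (U : Y.Opens) [Nontrivial Γ(Y, U)] [Module.Finite Γ(Y, U) Γ(N, U)]
    (G : SheafOfModules.GeneratingSections (R := Y.ringCatSheaf) N) (hG : IsIso G.π) : Finite G.I := by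
  classical
  refine finite_of_split (N := N) (I := G.I) U
    (fun i => (inv G.π ≫ Groth.Agent.Ega1.QAlgFP.freeProj i :
      @Quiver.Hom (SheafOfModules Y.ringCatSheaf) _ N (SheafOfModules.unit Y.ringCatSheaf)))
    (fun i => (SheafOfModules.ιFree i ≫ G.π :
      @Quiver.Hom (SheafOfModules Y.ringCatSheaf) _ (SheafOfModules.unit Y.ringCatSheaf) N)) ?_
  intro i j
  have h3 : (SheafOfModules.ιFree (R := Y.ringCatSheaf) j ≫ G.π) ≫ inv G.π ≫ Groth.Agent.Ega1.QAlgFP.freeProj i =
      if j = i then 𝟙 _ else 0 := by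
    rw [Category.assoc, IsIso.hom_inv_id_assoc, Groth.Agent.Ega1.QAlgFP.ιFree_freeProj]
  exact h3

theorem GFree.mono {M : X.Modules} {U V : X.Opens} (h : V ≤ U) (hU : GFree (M.restrict U.ι)) :
    GFree (M.restrict V.ι) := by
  have h1 : GFree ((M.restrict U.ι).restrict (X.homOfLE h)) := hU.restrict (X.homOfLE h)
  have e1 : M.restrict (X.homOfLE h ≫ U.ι) ≅ (M.restrict U.ι).restrict (X.homOfLE h) :=
    (restrictFunctorComp (X.homOfLE h) U.ι).app M
  have e2 : M.restrict V.ι ≅ M.restrict (X.homOfLE h ≫ U.ι) :=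
    (restrictFunctorCongr (X.homOfLE_ι h).symm).app M
  exact h1.of_iso (e2 ≪≫ e1).symm

theorem gfree_free (I : Type u) : GFree (SheafOfModules.free (R := X.ringCatSheaf) I : X.Modules) :=
  ⟨SheafOfModules.free.generatingSections (R := X.ringCatSheaf) I, inferInstance⟩

theorem isFT_restrict {M : X.Modules} (h : CohB1.IsFT M) (f : Y ⟶ X) [IsOpenImmersion f] :
    CohB1.IsFT (M.restrict f) := by
  rw [CohB1.IsFT, isFT_iff] at h
  rw [Groth.Agent.Dcoh.FTFP.isFT_iff']
  intro y
  obtain ⟨U, hU, hG⟩ := h (f y)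
  refine ⟨(f ⁻¹ᵁ U : Scheme.{u}), (f ⁻¹ᵁ U).ι, inferInstance, by simpa using hU, ?_⟩
  have h1 : GFG ((M.restrict U.ι).restrict (f ∣_ U)) := hG.restrict (f ∣_ U)
  have e1 : M.restrict ((f ∣_ U) ≫ U.ι) ≅ (M.restrict U.ι).restrict (f ∣_ U) :=
    (restrictFunctorComp (f ∣_ U) U.ι).app M
  have e2 : M.restrict ((f ⁻¹ᵁ U).ι ≫ f) ≅ (M.restrict f).restrict (f ⁻¹ᵁ U).ι :=
    (restrictFunctorComp (f ⁻¹ᵁ U).ι f).app M
  have e3 : M.restrict ((f ∣_ U) ≫ U.ι) ≅ M.restrict ((f ⁻¹ᵁ U).ι ≫ f) :=
    (restrictFunctorCongr (morphismRestrict_ι f U)).app M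
  exact h1.of_iso (e1.symm ≪≫ e3 ≪≫ e2)

/-- Locally free of finite type implies finite locally free. -/
theorem isFinLocFree_of {M : X.Modules} (hlf : SheafOfModules.IsLocallyFree (R := X.ringCatSheaf) M)
    (hft : CohB1.IsFT M) : FlatMod.IsFinLocFree M := by
  intro x
  obtain ⟨U, hx, hG⟩ := (isLocallyFree_iff M).1 hlf x
  obtain ⟨V, hV, hxV, hVU⟩ := exists_isAffineOpen_mem_and_subset (x := x) (U := U) hx
  have hq : Coh.IsQCoh M := (inferInstance : SheafOfModules.IsQuasicoherent (R := X.ringCatSheaf) M)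
  have hq' : Coh.IsQCoh (M.restrict V.ι) := inferInstanceAs (Coh.IsQCoh (M.restrict V.ι))
  obtain ⟨G, hG'⟩ := hG.mono hVU
  have hft' : CohB1.IsFT (M.restrict V.ι) := isFT_restrict hft V.ι
  have : IsAffine V := hV
  have hfin : Module.Finite Γ(V, ⊤) Γ(M.restrict V.ι, ⊤) :=
    Groth.Agent.CohqB.FiniteType2.finite_sections_of_isFT _ hft' (isAffineOpen_top V)
  have hne : Nonempty (⊤ : (V : Scheme.{u}).Opens) := ⟨⟨⟨x, hxV⟩, trivial⟩⟩
  have hnt : Nontrivial Γ(V, ⊤) := Scheme.component_nontrivial (V : Scheme.{u}) ⊤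
  have hI : Finite G.I := finite_of_gfree ⊤ G hG'
  obtain ⟨r, ⟨e⟩⟩ : ∃ r, Nonempty ((SheafOfModules.free G.I : (V : Scheme.{u}).Modules) ≅ FlatMod.freeMod V r) := by
    obtain ⟨r, ⟨e⟩⟩ := Finite.exists_equiv_fin G.I
    have h : (∐ fun _ : G.I => Coh.structureModule V) ≅ (∐ fun _ : Fin r => Coh.structureModule V) :=
      Sigma.whiskerEquiv (f := fun _ : G.I => Coh.structureModule V) (g := fun _ : Fin r => Coh.structureModule V) e
        (fun _ => Iso.refl _)
    exact ⟨r, ⟨h⟩⟩
  refine ⟨V, r, hxV, ⟨?_⟩⟩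
  have e' : @Iso (V : Scheme.{u}).Modules _ (SheafOfModules.free G.I) (M.restrict V.ι) :=
    @asIso (V : Scheme.{u}).Modules _ _ _ G.π hG'
  exact e'.symm ≪≫ e

/-- Finite locally free modules are locally free in Mathlib's sense. -/
theorem isLocallyFree_of {M : X.Modules} (h : FlatMod.IsFinLocFree M) :
    SheafOfModules.IsLocallyFree (R := X.ringCatSheaf) M := by
  rw [isLocallyFree_iff]
  intro x
  obtain ⟨U, n, hx, ⟨e⟩⟩ := h x
  have h1 : GFree (SheafOfModules.free (R := (U : Scheme.{u}).ringCatSheaf) (ULift.{u} (Fin n)) : (U : Scheme.{u}).Modules) :=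
    gfree_free _
  exact ⟨U, hx, (h1.of_iso (Groth.Agent.Dcoh.FTFP.freeIso U n)).of_iso e.symm⟩

theorem isFT_of {M : X.Modules} (h : FlatMod.IsFinLocFree M) : CohB1.IsFT M := by
  have h1 : CohB1.IsFP M := Groth.Agent.Desc.FinLocFreeSections.isFP_of_isFinLocFree h
  infer_instance

theorem locFree_finType_iff (M : X.Modules) :
    (SheafOfModules.IsLocallyFree (R := X.ringCatSheaf) M ∧ CohB1.IsFT M) ↔ FlatMod.IsFinLocFree M :=
  ⟨fun h => isFinLocFree_of h.1 h.2, fun h => ⟨isLocallyFree_of h, isFT_of h⟩⟩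

end K799.LFree
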