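import Groth.Agent.TwSh.K799.StM

/-!
# Descent along locally surjective functors: sections and arrows

`Loc j y`: the objects `(x, α : j x ⟶ y)` cover the scheme under `y`, and any two of them are locally dominated by a
third one on the fibre product.  `Vert j F y`: a quasi-coherent module on the scheme under `y` with cartesian compatible
arrows to all `F x`.
-/

set_option autoImplicit false
set_option backward.isDefEq.respectTransparency false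
set_option backward.isDefEq.respectTransparency.types false

universe t v' w' v w u

open CategoryTheory CategoryTheory.Limits AlgebraicGeometry Opposite TopologicalSpace
open Groth.Agent.Desc.QD
open StMod K799.Arr K799.StM

namespace K799.Cover

/-- A jointly surjective family of flat morphisms locally of finite presentation. -/
structure IsCov {ι : Type t} {T : Scheme.{u}} {F : ι → Scheme.{u}} (f : ∀ i, F i ⟶ T) : Prop where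
  fp : ∀ i, FP (f i)
  surj : ∀ x : T, ∃ i, x ∈ Set.range (f i).base

theorem IsCov.mem {ι : Type t} {T : Scheme.{u}} {F : ι → Scheme.{u}} {f : ∀ i, F i ⟶ T} (h : IsCov f) :
    Presieve.ofArrows F f ∈ Scheme.fpqcPrecoverage T := mem_fpqc F f h.fp h.surj

theorem FP.comp {X Y Z : Scheme.{u}} {f : X ⟶ Y} {g : Y ⟶ Z} (hf : FP f) (hg : FP g) : FP (f ≫ g) := by
  obtain ⟨h1, h2⟩ := hf
  obtain ⟨h3, h4⟩ := hg
  exact ⟨inferInstance, inferInstance⟩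

theorem FP.of_isPullback {X Y Z W : Scheme.{u}} {f : X ⟶ Y} {g : Z ⟶ W} {a : X ⟶ Z} {b : Y ⟶ W}
    (h : IsPullback a f g b) (hg : FP g) : FP f := by
  obtain ⟨h3, h4⟩ := hg
  exact ⟨MorphismProperty.of_isPullback h h3, MorphismProperty.of_isPullback h h4⟩

theorem FP.snd {X Y Z : Scheme.{u}} (f : X ⟶ Z) (g : Y ⟶ Z) (hf : FP f) : FP (pullback.snd f g) := by
  obtain ⟨h1, h2⟩ := hf
  exact ⟨inferInstance, inferInstance⟩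

theorem FP.fst {X Y Z : Scheme.{u}} (f : X ⟶ Z) (g : Y ⟶ Z) (hg : FP g) : FP (pullback.fst f g) := by
  obtain ⟨h1, h2⟩ := hg
  exact ⟨inferInstance, inferInstance⟩

end K799.Cover

namespace K799.StM

open K799.Cover

variable {S : Scheme.{u}} {𝒬 : BasedCategory.{v, w} (Over S)} {𝒴 : BasedCategory.{v', w'} (Over S)}

/-- The objects over `y` cover, and are locally dominated on overlaps. -/
structure Loc (j : 𝒬 ⥤ᵇ 𝒴) (y : 𝒴.obj) : Prop where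
  cov : ∃ (x : sch 𝒴 y → 𝒬.obj) (α : ∀ i, j.obj (x i) ⟶ y), IsCov (fun i => bs j (α i))
  loc : ∀ (x x' : 𝒬.obj) (α : j.obj x ⟶ y) (α' : j.obj x' ⟶ y) (W : Scheme.{u}) (f : W ⟶ sch 𝒬 x)
    (f' : W ⟶ sch 𝒬 x'), f ≫ bs j α = f' ≫ bs j α' →
    ∃ (z : W → 𝒬.obj) (q : ∀ i, sch 𝒬 (z i) ⟶ W) (φ : ∀ i, z i ⟶ x) (ψ : ∀ i, z i ⟶ x'), IsCov q ∧
      ∀ i, bmap 𝒬 (φ i) = q i ≫ f ∧ bmap 𝒬 (ψ i) = q i ≫ f' ∧ j.map (φ i) ≫ α = j.map (ψ i) ≫ α'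

/-- A chosen cover by objects over `y`, and its refinement over any object. -/
theorem Loc.exists_refine {j : 𝒬 ⥤ᵇ 𝒴} {y : 𝒴.obj} (h : Loc j y) {ι : Type t} (x : ι → 𝒬.obj)
    (α : ∀ i, j.obj (x i) ⟶ y) (hα : IsCov (fun i => bs j (α i))) {x₀ : 𝒬.obj} (α₀ : j.obj x₀ ⟶ y) :
    ∃ (z : sch 𝒬 x₀ → 𝒬.obj) (φ : ∀ p, z p ⟶ x₀) (i : sch 𝒬 x₀ → ι) (ψ : ∀ p, z p ⟶ x (i p)),
      IsCov (fun p => bmap 𝒬 (φ p)) ∧ ∀ p, j.map (φ p) ≫ α₀ = j.map (ψ p) ≫ α (i p) := by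
  have key : ∀ p : sch 𝒬 x₀, ∃ (z : 𝒬.obj) (φ : z ⟶ x₀) (i : ι) (ψ : z ⟶ x i), FP (bmap 𝒬 φ) ∧
      p ∈ Set.range (bmap 𝒬 φ).base ∧ j.map φ ≫ α₀ = j.map ψ ≫ α i := by
    intro p
    obtain ⟨i, q₀, hq₀⟩ := hα.surj ((bs j α₀).base p)
    obtain ⟨r, hr1, hr2⟩ := Scheme.Pullback.exists_preimage_pullback (f := bs j α₀) (g := bs j (α i)) p q₀ hq₀.symm
    obtain ⟨z, q, φ, ψ, hq, hz⟩ := h.loc x₀ (x i) α₀ (α i) (pullback (bs j α₀) (bs j (α i))) (pullback.fst _ _)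
      (pullback.snd _ _) pullback.condition
    obtain ⟨k, s, hs⟩ := hq.surj r
    refine ⟨z k, φ k, i, ψ k, ?_, ⟨s, ?_⟩, (hz k).2.2⟩
    · rw [(hz k).1]
      exact (hq.fp k).comp (FP.fst _ _ (hα.fp i))
    · rw [(hz k).1, Scheme.Hom.comp_base, TopCat.comp_app, hs]
      exact hr1
  choose z φ i ψ h1 h2 h3 using key
  exact ⟨z, φ, i, ψ, ⟨h1, fun p => ⟨p, h2 p⟩⟩, h3⟩

/-- A module on the scheme under `y` with compatible cartesian arrows to all `F x`. -/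
structure Vert (j : 𝒬 ⥤ᵇ 𝒴) (F : Mod 𝒬) (y : 𝒴.obj) where
  N : (sch 𝒴 y).Modules
  qc : Coh.IsQCoh N
  π : ∀ {x : 𝒬.obj} (α : j.obj x ⟶ y) (g : sch 𝒬 x ⟶ sch 𝒴 y) (_ : bs j α = g), Arr g N (F.obj x)
  cart : ∀ {x : 𝒬.obj} (α : j.obj x ⟶ y) (g : sch 𝒬 x ⟶ sch 𝒴 y) (hg : bs j α = g), IsCart (π α g hg)
  comm : ∀ {x' x : 𝒬.obj} (φ : x' ⟶ x) (α : j.obj x ⟶ y) (g : sch 𝒬 x ⟶ sch 𝒴 y) (hg : bs j α = g)
    (h : sch 𝒬 x' ⟶ sch 𝒬 x) (hh : bmap 𝒬 φ = h) (k : sch 𝒬 x' ⟶ sch 𝒴 y) (w : h ≫ g = k)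
    (e : bs j (j.map φ ≫ α) = k), comp (π α g hg) (F.map φ hh) k w = π (j.map φ ≫ α) k e

namespace Vert

variable {j : 𝒬 ⥤ᵇ 𝒴} {F : Mod 𝒬} {y : 𝒴.obj} (V : Vert j F y)

theorem congr {x : 𝒬.obj} {α α' : j.obj x ⟶ y} (h : α = α') (g : sch 𝒬 x ⟶ sch 𝒴 y) (hg : bs j α = g) :
    V.π α g hg = V.π α' g (h ▸ hg) := by subst h; rfl

include V in
theorem qcF {x : 𝒬.obj} (α : j.obj x ⟶ y) : Coh.IsQCoh (F.obj x) := isQCoh_of_isCart (V.cart α _ rfl) V.qc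

include V in
theorem cartF {x' x : 𝒬.obj} (φ : x' ⟶ x) (α : j.obj x ⟶ y) (h : sch 𝒬 x' ⟶ sch 𝒬 x) (hh : bmap 𝒬 φ = h) :
    IsCart (X := sch 𝒬 x') (Y := sch 𝒬 x) (F.map φ hh) := by
  refine isCart_of_comp (V.cart α _ rfl) (bs j (j.map φ ≫ α)) (by rw [← hh, bmap_comp_bs]) ?_
  rw [V.comm φ α _ rfl h hh _ _ rfl]
  exact V.cart _ _ _

theorem av_congr' {x : 𝒬.obj} {α α' : j.obj x ⟶ y} (h : α = α') (U : (sch 𝒴 y).Opens) (W : (sch 𝒬 x).Opens)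
    (e : W ≤ bs j α ⁻¹ᵁ U) (e' : W ≤ bs j α' ⁻¹ᵁ U) (t : Γ(V.N, U)) :
    av (V.π α _ rfl) e t = av (V.π α' _ rfl) e' t := by subst h; rfl

/-- Sections are determined over a cover. -/
theorem sec_unique (hL : Loc j y) (U : (sch 𝒴 y).Opens) {s s' : Γ(V.N, U)}
    (hs : ∀ (x : 𝒬.obj) (α : j.obj x ⟶ y), av (V.π α _ rfl) (le_refl (bs j α ⁻¹ᵁ U)) s =
      av (V.π α _ rfl) (le_refl (bs j α ⁻¹ᵁ U)) s') : s = s' := by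
  obtain ⟨x, α, hα⟩ := hL.cov
  exact sec_ext' (fun i => bs j (α i)) hα.mem V.qc (fun i => V.π (α i) _ rfl) (fun i => V.cart _ _ _)
    (fun i => hs (x i) (α i))

/-- Arrows into `N` are determined by their composites. -/
theorem arr_unique (hL : Loc j y) {Y : Scheme.{u}} {M : Y.Modules} {h : sch 𝒴 y ⟶ Y} {a b : Arr h M V.N}
    (k : ∀ {x : 𝒬.obj} (_ : j.obj x ⟶ y), sch 𝒬 x ⟶ Y) (w : ∀ {x : 𝒬.obj} (α : j.obj x ⟶ y), bs j α ≫ h = k α)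
    (H : ∀ (x : 𝒬.obj) (α : j.obj x ⟶ y), comp a (V.π α _ rfl) (k α) (w α) = comp b (V.π α _ rfl) (k α) (w α)) :
    a = b := by
  obtain ⟨x, α, hα⟩ := hL.cov
  exact arr_ext' (fun i => bs j (α i)) hα.mem V.qc (fun i => V.π (α i) _ rfl) (fun i => V.cart _ _ _)
    (fun i => k (α i)) (fun i => w (α i)) (fun i => H (x i) (α i))

/-- **Sections of `N` are compatible families of sections.** -/
theorem exists_sec (hL : Loc j y) (U : (sch 𝒴 y).Opens)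
    (s : ∀ {x : 𝒬.obj} (α : j.obj x ⟶ y), Γ(F.obj x, bs j α ⁻¹ᵁ U))
    (hs : ∀ {x' x : 𝒬.obj} (φ : x' ⟶ x) (α : j.obj x ⟶ y) (h : sch 𝒬 x' ⟶ sch 𝒬 x) (hh : bmap 𝒬 φ = h)
      (e : bs j (j.map φ ≫ α) ⁻¹ᵁ U ≤ h ⁻¹ᵁ (bs j α ⁻¹ᵁ U)), av (F.map φ hh) e (s α) = s (j.map φ ≫ α)) :
    ∃ t : Γ(V.N, U), ∀ (x : 𝒬.obj) (α : j.obj x ⟶ y), av (V.π α _ rfl) (le_refl (bs j α ⁻¹ᵁ U)) t = s α := by
  have hcs : ∀ {x : 𝒬.obj} {α α' : j.obj x ⟶ y} (h : α = α') (W : (sch 𝒬 x).Opens) (e : W ≤ bs j α ⁻¹ᵁ U)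
      (e' : W ≤ bs j α' ⁻¹ᵁ U), rs (F.obj x) e (s α) = rs (F.obj x) e' (s α') := by
    intro x α α' h W e e'; subst h; rfl
  obtain ⟨x, α, hα⟩ := hL.cov
  obtain ⟨t, ht, -⟩ := glue_sec_loc (fun i => bs j (α i)) hα.mem V.qc (fun i => V.π (α i) _ rfl) U
    (fun i => s (α i)) (by
      intro i i' Z gi gj c wi wj
      obtain ⟨z, q, φ, ψ, hq, hz⟩ := hL.loc (x i) (x i') (α i) (α i') Z gi gj (wi.trans wj.symm)
      refine ⟨Z, fun p => sch 𝒬 (z p), q, hq.mem, fun p => ⟨F.obj (z p), bmap 𝒬 (φ p), (hz p).1.symm,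
        bmap 𝒬 (ψ p), (hz p).2.1.symm, F.map (φ p) rfl, F.map (ψ p) rfl, bs j (j.map (φ p) ≫ α i),
        bmap_comp_bs _ _ _, ?_, ?_, ?_, ?_⟩⟩
      · rw [(hz p).2.2]; exact bmap_comp_bs _ _ _
      · rw [V.comm (φ p) (α i) _ rfl _ rfl _ _ rfl]
        exact V.cart _ _ _
      · rw [V.comm (φ p) (α i) _ rfl _ rfl _ _ rfl, V.comm (ψ p) (α i') _ rfl _ rfl _ _ (by rw [(hz p).2.2])]
        exact V.congr (hz p).2.2 _ _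
      · intro ea eb
        have h1 := hs (φ p) (α i) _ rfl ea
        have h2 := hs (ψ p) (α i') _ rfl (by rw [← (hz p).2.2]; exact eb)
        rw [h1]
        have h3 : av (F.map (ψ p) rfl) eb (s (α i')) = rs (F.obj (z p)) (by rw [(hz p).2.2])
            (av (F.map (ψ p) rfl) (by rw [← (hz p).2.2]; exact eb) (s (α i'))) := by
          rw [rs_av]
        rw [h3, h2]
        have h4 := hcs (hz p).2.2 (bs j (j.map (φ p) ≫ α i) ⁻¹ᵁ U) le_rfl (by rw [(hz p).2.2])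
        rw [rs_refl] at h4
        exact h4) (fun i => V.cart _ _ _)
  refine ⟨t, fun x₀ α₀ => ?_⟩
  obtain ⟨z, φ, i, ψ, hφ, hz⟩ := hL.exists_refine x α hα α₀
  refine sec_ext' (fun p => bmap 𝒬 (φ p)) hφ.mem (V.qcF α₀) (fun p => F.map (φ p) rfl)
    (fun p => V.cartF (φ p) α₀ _ rfl) fun p => ?_
  have e0 : bs j (j.map (φ p) ≫ α₀) ⁻¹ᵁ U ≤ bmap 𝒬 (φ p) ⁻¹ᵁ (bs j α₀ ⁻¹ᵁ U) :=
    le_pre (bmap_comp_bs j (φ p) α₀) U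
  have e0' : bmap 𝒬 (φ p) ⁻¹ᵁ (bs j α₀ ⁻¹ᵁ U) ≤ bs j (j.map (φ p) ≫ α₀) ⁻¹ᵁ U :=
    pre_le (bmap_comp_bs j (φ p) α₀) U
  have e1 : bs j (j.map (ψ p) ≫ α (i p)) ⁻¹ᵁ U ≤ bmap 𝒬 (ψ p) ⁻¹ᵁ (bs j (α (i p)) ⁻¹ᵁ U) :=
    le_pre (bmap_comp_bs j (ψ p) (α (i p))) U
  have h1 := av_comp (V.π α₀ _ rfl) (F.map (φ p) rfl) (bs j (j.map (φ p) ≫ α₀)) (bmap_comp_bs _ _ _)
    (le_refl (bs j α₀ ⁻¹ᵁ U)) (le_refl (bmap 𝒬 (φ p) ⁻¹ᵁ (bs j α₀ ⁻¹ᵁ U))) e0' t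
  have h2 := av_comp (V.π (α (i p)) _ rfl) (F.map (ψ p) rfl) (bs j (j.map (ψ p) ≫ α (i p))) (bmap_comp_bs _ _ _)
    (le_refl (bs j (α (i p)) ⁻¹ᵁ U)) e1 (le_refl (bs j (j.map (ψ p) ≫ α (i p)) ⁻¹ᵁ U)) t
  rw [V.comm (φ p) α₀ _ rfl _ rfl _ _ rfl] at h1
  rw [V.comm (ψ p) (α (i p)) _ rfl _ rfl _ _ rfl] at h2
  refine h1.symm.trans ?_
  have e2 : bmap 𝒬 (φ p) ⁻¹ᵁ (bs j α₀ ⁻¹ᵁ U) ≤ bs j (j.map (ψ p) ≫ α (i p)) ⁻¹ᵁ U := by rw [← hz p]; exact e0'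
  have h3 := V.av_congr' (hz p) U (bmap 𝒬 (φ p) ⁻¹ᵁ (bs j α₀ ⁻¹ᵁ U)) e0' e2 t
  have h3' := rs_av (V.π (j.map (ψ p) ≫ α (i p)) (bs j (j.map (ψ p) ≫ α (i p))) rfl)
    (le_refl (bs j (j.map (ψ p) ≫ α (i p)) ⁻¹ᵁ U)) e2 t
  refine h3.trans (h3'.symm.trans ?_)
  rw [h2, ht]
  have h4 := hs (ψ p) (α (i p)) _ rfl e1
  have h5 := hs (φ p) α₀ _ rfl e0
  rw [h4]
  have h6 := hcs (hz p).symm (bmap 𝒬 (φ p) ⁻¹ᵁ (bs j α₀ ⁻¹ᵁ U)) e2 e0'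
  rw [h6, ← h5, rs_av]

/-- **Arrows into `N` are compatible families of arrows.** -/
theorem exists_arr (hL : Loc j y) {Y : Scheme.{u}} {M : Y.Modules} (h : sch 𝒴 y ⟶ Y)
    (k : ∀ {x : 𝒬.obj} (_ : j.obj x ⟶ y), sch 𝒬 x ⟶ Y) (w : ∀ {x : 𝒬.obj} (α : j.obj x ⟶ y), bs j α ≫ h = k α)
    (n : ∀ {x : 𝒬.obj} (α : j.obj x ⟶ y), Arr (k α) M (F.obj x))
    (hn : ∀ {x' x : 𝒬.obj} (φ : x' ⟶ x) (α : j.obj x ⟶ y) (h : sch 𝒬 x' ⟶ sch 𝒬 x) (hh : bmap 𝒬 φ = h)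
      (w : h ≫ k α = k (j.map φ ≫ α)), comp (n α) (F.map φ hh) (k (j.map φ ≫ α)) w = n (j.map φ ≫ α)) :
    ∃ a : Arr h M V.N, ∀ (x : 𝒬.obj) (α : j.obj x ⟶ y), comp a (V.π α _ rfl) (k α) (w α) = n α := by
  have hcn : ∀ {x : 𝒬.obj} {α α' : j.obj x ⟶ y} (h : α = α') {x' : 𝒬.obj} (φ : x' ⟶ x) (l : sch 𝒬 x' ⟶ Y)
      (w : bmap 𝒬 φ ≫ k α = l) (w' : bmap 𝒬 φ ≫ k α' = l),
      comp (n α) (F.map φ rfl) l w = comp (n α') (F.map φ rfl) l w' := by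
    intro x α α' h x' φ l w w'; subst h; rfl
  have hw : ∀ {x' x : 𝒬.obj} (φ : x' ⟶ x) (α : j.obj x ⟶ y), bmap 𝒬 φ ≫ k α = k (j.map φ ≫ α) := by
    intro x' x φ α
    rw [← w, ← w, ← Category.assoc, bmap_comp_bs]
  have hcn' : ∀ {x₁ x₂ x' : 𝒬.obj} (φ : x' ⟶ x₁) (ψ : x' ⟶ x₂) (α : j.obj x₁ ⟶ y) (β : j.obj x₂ ⟶ y)
      (_ : j.map φ ≫ α = j.map ψ ≫ β) (l : sch 𝒬 x' ⟶ Y) (w : bmap 𝒬 φ ≫ k α = l) (w' : bmap 𝒬 ψ ≫ k β = l),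
      comp (n α) (F.map φ rfl) l w = comp (n β) (F.map ψ rfl) l w' := by
    intro x₁ x₂ x' φ ψ α β e l w w'
    have gen : ∀ {γ γ' : j.obj x' ⟶ y} (_ : γ = γ') (l : sch 𝒬 x' ⟶ Y) (a : k γ = l) (a' : k γ' = l),
        Arr.congr (n γ) a = Arr.congr (n γ') a' := by
      intro γ γ' h l a a'; subst h; rfl
    have gen2 : ∀ {x : 𝒬.obj} (φ : x' ⟶ x) (α : j.obj x ⟶ y) (l : sch 𝒬 x' ⟶ Y) (w : bmap 𝒬 φ ≫ k α = l)
        (e : k (j.map φ ≫ α) = l), comp (n α) (F.map φ rfl) l w = Arr.congr (n (j.map φ ≫ α)) e := by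
      intro x φ α l w e
      subst e
      exact hn φ α _ rfl w
    rw [gen2 φ α l w ((hw φ α).symm.trans w), gen2 ψ β l w' ((hw ψ β).symm.trans w')]
    exact gen e l _ _
  obtain ⟨x, α, hα⟩ := hL.cov
  obtain ⟨t, ht⟩ := glue_arr_loc (fun i => bs j (α i)) hα.mem V.qc (fun i => V.π (α i) _ rfl) (fun i => k (α i))
    (fun i => w (α i)) (fun i => n (α i)) (by
      intro i i' Z gi gj c wi wj
      obtain ⟨z, q, φ, ψ, hq, hz⟩ := hL.loc (x i) (x i') (α i) (α i') Z gi gj (wi.trans wj.symm)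
      have e1 : ∀ p, bmap 𝒬 (ψ p) ≫ k (α i') = bmap 𝒬 (φ p) ≫ k (α i) := by
        intro p
        rw [hw, hw, (hz p).2.2]
      refine ⟨Z, fun p => sch 𝒬 (z p), q, hq.mem, fun p => ⟨F.obj (z p), bmap 𝒬 (φ p), (hz p).1.symm,
        bmap 𝒬 (ψ p), (hz p).2.1.symm, F.map (φ p) rfl, F.map (ψ p) rfl, bs j (j.map (φ p) ≫ α i),
        bmap_comp_bs _ _ _, ?_, bmap 𝒬 (φ p) ≫ k (α i), rfl, e1 p, ?_, ?_, ?_⟩⟩
      · rw [(hz p).2.2]; exact bmap_comp_bs _ _ _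
      · rw [V.comm (φ p) (α i) _ rfl _ rfl _ _ rfl]
        exact V.cart _ _ _
      · rw [V.comm (φ p) (α i) _ rfl _ rfl _ _ rfl, V.comm (ψ p) (α i') _ rfl _ rfl _ _ (by rw [(hz p).2.2])]
        exact V.congr (hz p).2.2 _ _
      · exact hcn' (φ p) (ψ p) (α i) (α i') (hz p).2.2 _ _ _) (fun i => V.cart _ _ _)
  refine ⟨t, fun x₀ α₀ => ?_⟩
  obtain ⟨z, φ, i, ψ, hφ, hz⟩ := hL.exists_refine x α hα α₀
  refine arr_ext' (fun p => bmap 𝒬 (φ p)) hφ.mem (V.qcF α₀) (fun p => F.map (φ p) rfl)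
    (fun p => V.cartF (φ p) α₀ _ rfl) (fun p => bmap 𝒬 (φ p) ≫ k α₀) (fun p => rfl) fun p => ?_
  have e1 : bmap 𝒬 (ψ p) ≫ k (α (i p)) = bmap 𝒬 (φ p) ≫ k α₀ := by rw [hw, hw, hz p]
  rw [hcn' (φ p) (ψ p) α₀ (α (i p)) (hz p) _ rfl e1, ← ht (i p),
    comp_assoc t (V.π α₀ _ rfl) _ _ _ _ _ (bs j (j.map (φ p) ≫ α₀)) (bmap_comp_bs _ _ _)
      (by rw [w, ← hw]), V.comm (φ p) α₀ _ rfl _ rfl _ _ rfl,
    comp_assoc t (V.π (α (i p)) _ rfl) _ _ _ _ _ (bs j (j.map (φ p) ≫ α₀)) (by rw [hz p]; exact bmap_comp_bs _ _ _)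
      (by rw [w, ← hw]), V.comm (ψ p) (α (i p)) _ rfl _ rfl _ _ (by rw [hz p]), V.congr (hz p)]

end Vert

end K799.StM
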