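import Groth.Agent.TwSh.K799.LFree
import Groth.Agent.TwSh.K799.Vert
import Groth.Agent.PerfB.FlatPull

/-!
# fppf descent of finite type, finite presentation, finite local freeness
-/

set_option autoImplicit false

universe t v u

open CategoryTheory CategoryTheory.Limits AlgebraicGeometry Opposite TopologicalSpace
open scoped TensorProduct
open K799.Cover

namespace K799.DescProp

/-- Around every point of the base of an fppf cover there is a faithfully flat chart. -/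
theorem exists_chart {ι : Type t} {T : Scheme.{u}} {F : ι → Scheme.{u}} {f : ∀ i, F i ⟶ T} (hc : IsCov f) (x : T) :
    ∃ (i : ι) (W : T.Opens) (V : (F i).Opens) (_ : IsAffineOpen W) (_ : IsAffineOpen V) (e : V ≤ f i ⁻¹ᵁ W),
      x ∈ W ∧ ((f i).appLE W V e).hom.FaithfullyFlat := by
  obtain ⟨i, q, hq⟩ := hc.surj x
  have hq' : f i q = x := hq
  obtain ⟨hfl, hfp⟩ := hc.fp i
  obtain ⟨W₀, hW₀, hxW₀, -⟩ := exists_isAffineOpen_mem_and_subset (x := x) (U := ⊤) trivial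
  obtain ⟨V₀, hV₀, hqV₀, hV₀W₀⟩ := exists_isAffineOpen_mem_and_subset (x := q) (U := f i ⁻¹ᵁ W₀)
    (by change f i q ∈ W₀; rw [hq']; exact hxW₀)
  have hop : IsOpenMap (f i) := (f i).isOpenMap
  let U : T.Opens := ⟨f i '' V₀, hop _ V₀.2⟩
  have hxU : x ∈ U := ⟨q, hqV₀, hq'⟩
  obtain ⟨g, hg1, hg2⟩ := hW₀.exists_basicOpen_le (V := U) ⟨x, hxU⟩ hxW₀
  have e₀ : V₀ ≤ f i ⁻¹ᵁ W₀ := hV₀W₀
  have hbV : (F i).basicOpen ((f i).appLE W₀ V₀ e₀ g) = V₀ ⊓ f i ⁻¹ᵁ (T.basicOpen g) := by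
    rw [Scheme.Hom.appLE, CommRingCat.comp_apply, Scheme.basicOpen_res, Scheme.preimage_basicOpen]
  have hW : IsAffineOpen (T.basicOpen g) := hW₀.basicOpen g
  have hV : IsAffineOpen ((F i).basicOpen ((f i).appLE W₀ V₀ e₀ g)) := hV₀.basicOpen _
  have e : (F i).basicOpen ((f i).appLE W₀ V₀ e₀ g) ≤ f i ⁻¹ᵁ (T.basicOpen g) := by
    rw [hbV]; exact inf_le_right
  refine ⟨i, T.basicOpen g, (F i).basicOpen ((f i).appLE W₀ V₀ e₀ g), hW, hV, e, hg2, ?_⟩
  have hflat : ((f i).appLE _ _ e).hom.Flat :=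
    HasRingHomProperty.appLE (P := @Flat) (f i) inferInstance ⟨_, hW⟩ ⟨_, hV⟩ e
  rw [RingHom.FaithfullyFlat.iff_flat_and_comap_surjective]
  refine ⟨hflat, ?_⟩
  intro p
  have hp : hW.fromSpec p ∈ T.basicOpen g := by
    have : hW.fromSpec p ∈ Set.range hW.fromSpec := ⟨p, rfl⟩
    rwa [hW.range_fromSpec] at this
  obtain ⟨z, hzV₀, hz⟩ := hg1 hp
  have hzV : z ∈ (F i).basicOpen ((f i).appLE W₀ V₀ e₀ g) := by
    rw [hbV]
    refine ⟨hzV₀, ?_⟩
    change f i z ∈ T.basicOpen g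
    rw [hz]
    exact hp
  have hz2 : z ∈ Set.range hV.fromSpec := by
    rw [hV.range_fromSpec]
    exact hzV
  obtain ⟨z', rfl⟩ := hz2
  refine ⟨z', ?_⟩
  apply hW.fromSpec.isOpenEmbedding.injective
  have h6 := IsAffineOpen.SpecMap_appLE_fromSpec (f i) hW hV e
  have h7 : hW.fromSpec (Spec.map ((f i).appLE _ _ e) z') = f i (hV.fromSpec z') := by
    rw [← Scheme.Hom.comp_apply, h6, Scheme.Hom.comp_apply]
  rw [hz] at h7
  exact h7

section Desc

variable {ι : Type t} {T : Scheme.{u}} {F : ι → Scheme.{u}} {f : ∀ i, F i ⟶ T} (hc : IsCov f) {M : T.Modules}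
  (hM : Coh.IsQCoh M)

include hc hM

/-- The chart in terms of modules of sections. -/
theorem exists_mod_chart (x : T) : ∃ (i : ι) (W : T.Opens) (V : (F i).Opens) (_ : IsAffineOpen W) (_ : IsAffineOpen V)
    (_ : Algebra Γ(T, W) Γ(F i, V)), x ∈ W ∧ Module.FaithfullyFlat Γ(T, W) Γ(F i, V) ∧
      Nonempty ((Γ(F i, V) ⊗[Γ(T, W)] Γ(M, W)) ≃ₗ[Γ(F i, V)] Γ((Scheme.Modules.pullback (f i)).obj M, V)) := by
  obtain ⟨i, W, V, hW, hV, e, hx, hff⟩ := exists_chart hc x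
  let : Algebra Γ(T, W) Γ(F i, V) := ((f i).appLE W V e).hom.toAlgebra
  refine ⟨i, W, V, hW, hV, inferInstance, hx, hff, ?_⟩
  let := Groth.Agent.VarietyB.PullSec.secModule (f i) M e
  have : IsScalarTower Γ(T, W) Γ(F i, V) Γ((Scheme.Modules.pullback (f i)).obj M, V) :=
      ⟨fun a b c => by rw [Algebra.smul_def, mul_smul]; rfl⟩
  have hbc : IsBaseChange Γ(F i, V) (Groth.Agent.VarietyB.PullSec.secₗ (f i) M e) :=
    Groth.Agent.VarietyB.PullSec.isBaseChange_secₗ (f i) M e hM hW hV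
  exact ⟨hbc.equiv⟩

theorem isFT_desc (h : ∀ i, CohB1.IsFT ((Scheme.Modules.pullback (f i)).obj M)) : CohB1.IsFT M := by
  refine Groth.Agent.CohqB.FiniteType2.isFT_of_finite_sections M fun x => ?_
  obtain ⟨i, W, V, hW, hV, alg, hx, hff, ⟨e⟩⟩ := exists_mod_chart hc hM x
  have hq : Coh.IsQCoh ((Scheme.Modules.pullback (f i)).obj M) :=
    Groth.Agent.VarietyB.PullSec.isQCoh_pullback _ _ hM
  have h1 : Module.Finite Γ(F i, V) Γ((Scheme.Modules.pullback (f i)).obj M, V) :=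
    Groth.Agent.CohqB.FiniteType2.finite_sections_of_isFT _ (h i) hV
  have h2 : Module.Finite Γ(F i, V) (Γ(F i, V) ⊗[Γ(T, W)] Γ(M, W)) := Module.Finite.equiv e.symm
  exact ⟨W, hx, hW, Module.Finite.of_finite_tensorProduct_of_faithfullyFlat Γ(F i, V)⟩

theorem isFP_desc (h : ∀ i, CohB1.IsFP ((Scheme.Modules.pullback (f i)).obj M)) : CohB1.IsFP M := by
  refine Groth.Agent.CohqA.FinSec.isFP_of_finitePresentation hM fun x => ?_
  obtain ⟨i, W, V, hW, hV, alg, hx, hff, ⟨e⟩⟩ := exists_mod_chart hc hM x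
  have hq : Coh.IsQCoh ((Scheme.Modules.pullback (f i)).obj M) :=
    Groth.Agent.VarietyB.PullSec.isQCoh_pullback _ _ hM
  have h1 : Module.FinitePresentation Γ(F i, V) Γ((Scheme.Modules.pullback (f i)).obj M, V) :=
    Groth.Agent.Desc.FPSections.finitePresentation_sections hV hq (h i)
  have h2 : Module.FinitePresentation Γ(F i, V) (Γ(F i, V) ⊗[Γ(T, W)] Γ(M, W)) :=
    Module.FinitePresentation.of_equiv e.symm
  exact ⟨W, hW, hx, Groth.Agent.Desc.FinLocFreeSections.finitePresentation_of_tensorProduct Γ(T, W) Γ(F i, V) Γ(M, W)⟩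

theorem isFinLocFree_desc (h : ∀ i, FlatMod.IsFinLocFree ((Scheme.Modules.pullback (f i)).obj M)) :
    FlatMod.IsFinLocFree M := by
  intro x
  obtain ⟨i, W, V, hW, hV, alg, hx, hff, ⟨e⟩⟩ := exists_mod_chart hc hM x
  have hq : Coh.IsQCoh ((Scheme.Modules.pullback (f i)).obj M) :=
    Groth.Agent.VarietyB.PullSec.isQCoh_pullback _ _ hM
  obtain ⟨h1, h1'⟩ := (Groth.Agent.Desc.FinLocFreeSections.isFinLocFree_iff_of_cover hq (fun _ => True) (fun x => by
    obtain ⟨V, hV, hx, -⟩ := exists_isAffineOpen_mem_and_subset (x := x) (U := ⊤) trivial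
    exact ⟨V, trivial, hV, hx⟩)).mp (h i) V trivial hV
  have h2 : Module.FinitePresentation Γ(F i, V) (Γ(F i, V) ⊗[Γ(T, W)] Γ(M, W)) :=
    Module.FinitePresentation.of_equiv e.symm
  have h5 : Module.Flat Γ(F i, V) (Γ(F i, V) ⊗[Γ(T, W)] Γ(M, W)) := Module.Flat.of_linearEquiv e
  have h6 := Groth.Agent.Desc.FinLocFreeSections.finitePresentation_of_tensorProduct Γ(T, W) Γ(F i, V) Γ(M, W)
  have h7 := Module.Flat.of_flat_tensorProduct Γ(T, W) Γ(M, W) Γ(F i, V)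
  obtain ⟨U, hxU, -, e⟩ := Groth.Agent.Ega3B.LocFree.exists_restrict_iso_freeMod M hW ⟨x, hx⟩
  exact ⟨U, _, hxU, e⟩

end Desc

end K799.DescProp
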