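import Groth.Agent.TwSh.K799.PushTw
import Groth.Agent.CohqB.FiniteType2
import Groth.Agent.CohqA.AffineExt

/-!
# Finiteness of push forwards along finite morphisms
-/

set_option autoImplicit false
set_option backward.isDefEq.respectTransparency false
set_option backward.isDefEq.respectTransparency.types false

universe t v' w' v w u

open CategoryTheory CategoryTheory.Limits AlgebraicGeometry Opposite TopologicalSpace
open Groth.Agent.Desc.QD
open StMod K799.Arr K799.StM K799.Cover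

namespace K799.PushTw

theorem isFT_pushforward {X Y : Scheme.{u}} (f : X ⟶ Y) [hf : IsFinite f] {M : X.Modules} (hM : Coh.IsQCoh M)
    (h : CohB1.IsFT M) : CohB1.IsFT (PF f M) := by
  have hq : Coh.IsQCoh (PF f M) := Groth.Agent.Ega1.QcqsPush.isQCoh_pushforward f M hM
  refine Groth.Agent.CohqB.FiniteType2.isFT_of_finite_sections _ fun x => ?_
  obtain ⟨V, hV, hxV, -⟩ := exists_isAffineOpen_mem_and_subset (x := x) (U := ⊤) trivial
  refine ⟨V, hxV, hV, ?_⟩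
  have h1 : Module.Finite Γ(X, f ⁻¹ᵁ V) Γ(M, f ⁻¹ᵁ V) :=
    Groth.Agent.CohqB.FiniteType2.finite_sections_of_isFT M h (hV.preimage f)
  have h2 : (f.app V).hom.Finite := hf.finite_app V hV
  let := (f.app V).hom.toAlgebra
  have h2' : Module.Finite Γ(Y, V) Γ(X, f ⁻¹ᵁ V) := h2
  let m1 : Module Γ(X, f ⁻¹ᵁ V) Γ(PF f M, V) := inferInstanceAs (Module Γ(X, f ⁻¹ᵁ V) Γ(M, f ⁻¹ᵁ V))
  have h3 : IsScalarTower Γ(Y, V) Γ(X, f ⁻¹ᵁ V) Γ(PF f M, V) :=
    ⟨fun a b c => by rw [Algebra.smul_def, mul_smul]; rfl⟩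
  have h4 : Module.Finite Γ(X, f ⁻¹ᵁ V) Γ(PF f M, V) := h1
  exact Module.Finite.trans Γ(X, f ⁻¹ᵁ V) Γ(PF f M, V)

section Zero

variable {Y : Scheme.{u}}

theorem sections_of_isZero {M : Y.Modules} (h : IsZero M) (V : Y.Opens) (x : Γ(M, V)) : x = 0 := by
  change (𝟙 M : M ⟶ M).app V x = 0
  rw [h.eq_of_src (𝟙 M) 0]
  rfl

theorem eq_zero_of_locally {M : Y.Modules} (W : Y.Opens) (s : Γ(M, W))
    (h : ∀ y ∈ W, ∃ (D : Y.Opens) (hD : D ≤ W), y ∈ D ∧ M.presheaf.map (homOfLE hD).op s = 0) :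
    s = 0 := by
  choose! D hD hy h0 using h
  refine TopCat.Sheaf.eq_of_locally_eq' ⟨_, M.isSheaf⟩ (fun y : W => D y.1) W
    (fun y => homOfLE (hD y.1 y.2)) (fun y hyW => Opens.mem_iSup.2 ⟨⟨y, hyW⟩, hy y hyW⟩) s 0
    fun y => ?_
  refine (h0 y.1 y.2).trans (map_zero _).symm

theorem subsingleton_basicOpen (M : Y.Modules) (hM : Coh.IsQCoh M) {V : Y.Opens} (hV : IsAffineOpen V)
    (h : Subsingleton Γ(M, V)) (r : Γ(Y, V)) : Subsingleton Γ(M, Y.basicOpen r) := by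
  constructor
  intro s t
  have h1 : ∀ z : Γ(M, Y.basicOpen r), z = 0 := fun z => by
    have : M.IsQuasicoherent := hM
    obtain ⟨k, n, hn⟩ := Groth.Agent.CohqA.AffineExt.exists_pow_smul_eq_map M hV r z
    rw [Subsingleton.elim n 0, map_zero, map_pow] at hn
    have h2 : IsUnit (Y.presheaf.map (homOfLE (Y.basicOpen_le r)).op r) :=
      RingedSpace.isUnit_res_basicOpen _ r
    exact ((h2.pow k).smul_eq_zero).1 hn
  rw [h1 s, h1 t]

theorem subsingleton_of_le (M : Y.Modules) (hM : Coh.IsQCoh M) {V : Y.Opens} (hV : IsAffineOpen V)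
    (h : Subsingleton Γ(M, V)) {W : Y.Opens} (hW : W ≤ V) : Subsingleton Γ(M, W) := by
  constructor
  intro s t
  have h1 : ∀ z : Γ(M, W), z = 0 := fun z => by
    refine eq_zero_of_locally W z fun y hy => ?_
    obtain ⟨r, hr, hyr⟩ := hV.exists_basicOpen_le ⟨y, hy⟩ (hW hy)
    exact ⟨_, hr, hyr, (subsingleton_basicOpen M hM hV h r).elim _ _⟩
  rw [h1 s, h1 t]

/-- A quasi-coherent module whose push forward along an affine morphism has no sections has no sections. -/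
theorem eq_zero_of_push {Z : Scheme.{u}} (f : Z ⟶ Y) [IsAffineHom f] {M : Z.Modules} (hM : Coh.IsQCoh M)
    (h : ∀ (U : Y.Opens) (x : Γ(PF f M, U)), x = 0) (W : Z.Opens) (s : Γ(M, W)) : s = 0 := by
  refine eq_zero_of_locally W s fun y hy => ?_
  obtain ⟨V, hV, hyV, -⟩ := exists_isAffineOpen_mem_and_subset (x := f y) (U := ⊤) trivial
  have h1 : Subsingleton Γ(M, f ⁻¹ᵁ V) := ⟨fun a b => (h V a).trans (h V b).symm⟩
  refine ⟨W ⊓ f ⁻¹ᵁ V, inf_le_left, ⟨hy, hyV⟩, ?_⟩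
  exact (subsingleton_of_le M hM (hV.preimage f) h1 inf_le_right).elim _ _

/-- A cartesian arrow out of a module without sections has a target without sections. -/
theorem eq_zero_of_cart {Z : Scheme.{u}} {g : Z ⟶ Y} {M : Y.Modules} {N : Z.Modules} {m : Arr g M N}
    (hm : IsCart m) (h : ∀ (U : Y.Opens) (x : Γ(M, U)), x = 0) (W : Z.Opens) (s : Γ(N, W)) : s = 0 := by
  have h1 : 𝟙 N = 0 := by
    apply cart_hom_ext hm
    intro U x
    rw [h U x, map_zero, map_zero, map_zero]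
  change (𝟙 N : N ⟶ N).app W s = 0
  rw [h1]
  rfl

theorem isEmpty_of_structure {N : Y.Modules} (e : N ≅ Coh.structureModule Y)
    (h : ∀ (U : Y.Opens) (x : Γ(N, U)), x = 0) : IsEmpty Y := by
  have h1 : (1 : Γ(Y, ⊤)) = 0 := by
    let x : Γ(N, ⊤) := ap e.inv ⊤ (show Γ(Coh.structureModule Y, ⊤) from (1 : Γ(Y, ⊤)))
    have h2 : ap e.hom ⊤ x = (show Γ(Coh.structureModule Y, ⊤) from (1 : Γ(Y, ⊤))) := by
      rw [← ap_comp, e.inv_hom_id, ap_id]
    rw [h ⊤ x, map_zero] at h2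
    exact h2.symm
  by_contra hne
  rw [not_isEmpty_iff] at hne
  obtain ⟨y⟩ := hne
  have : Nontrivial Γ(Y, ⊤) := by
    have : Nonempty (⊤ : Y.Opens) := ⟨⟨y, trivial⟩⟩
    infer_instance
  exact one_ne_zero h1

end Zero

open K799.ZObj

variable {S : Scheme.{u}} {X : Over S} {𝒳 : BasedCategory.{v, w} (Over S)} (π : 𝒳 ⥤ᵇ AlgSt.ofSch X)
  (η : (AlgSt.ofSch X).obj) (hX : FibCat.IsFibGrpd 𝒳.p)

theorem isFinite_c [IsFinite η.sec.down.left] (ξ : 𝒳.obj) : IsFinite (bmap 𝒳 (c π η hX ξ)) :=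
  MorphismProperty.of_isPullback (isPullback_z π η hX ξ).flip ‹_›

theorem isFT_push [IsFinite η.sec.down.left] {L : Mod (fibCat π η)} (hL : isQCoh _ L)
    (hft : ∀ w, CohB1.IsFT (L.obj w)) (ξ : 𝒳.obj) : CohB1.IsFT ((push π η hX L).obj ξ) := by
  have := isFinite_c π η hX ξ
  exact isFT_pushforward (bmap 𝒳 (c π η hX ξ)) (hL.2 (z π η hX ξ)) (hft (z π η hX ξ))

end K799.PushTw
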