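import Groth.Agent.TwSh.K799.FibHyp
import Groth.Agent.TwSh.K799.DescProp
import Groth.Agent.Dcoh.ResFree
import Groth.Agent.Models2.FPCoh

/-!
# A twisted line bundle over an object of the base which lifts to the gerbe
-/

set_option autoImplicit false
set_option backward.isDefEq.respectTransparency false
set_option backward.isDefEq.respectTransparency.types false

universe t v' w' v w u

open CategoryTheory CategoryTheory.Limits AlgebraicGeometry Opposite TopologicalSpace
open Groth.Agent.Desc.QD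
open StMod K799.Arr K799.StM K799.Cover

namespace K799.Sect

theorem isFT_structureModule (X : Scheme.{u}) : CohB1.IsFT (Coh.structureModule X) :=
  Groth.Agent.Models2.FPCoh.isFT_of_isFP
    (Groth.Agent.Desc.FinLocFreeSections.isFP_of_isFinLocFree Groth.Agent.Dcoh.ResFree.isFinLocFree_unit)

section

variable {S : Scheme.{u}} {𝒳 : BasedCategory.{v, w} (Over S)} {A : (Over S)ᵒᵖ ⥤ GrpCat.{u}}
  {ι : TwSh.BandHom 𝒳 A} {C : Type w'} [Category.{v'} C] {σ : C ⥤ 𝒳.obj}

/-- A twisted quasi-coherent module of finite type which is the structure sheaf on a section. -/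
theorem exists_twisted_line (H : Hyp ι σ) (χ : A ⟶ TwSh.GmPsh S) (d : ℤ) :
    ∃ L : QCoh 𝒳, (∀ ξ, TwAt L.obj ι χ d ξ) ∧ (∀ ξ, CohB1.IsFT (L.obj.obj ξ)) ∧
      ∀ t : C, Nonempty (L.obj.obj (σ.obj t) ≅ Coh.structureModule (sch 𝒳 (σ.obj t))) := by
  have := essSurj (χ := χ) (d := d) H
  obtain ⟨⟨L, hL⟩, ⟨e⟩⟩ := this.mem_essImage (OQ (TT σ))
  have he : ∀ t : C, Nonempty (L.obj.obj (σ.obj t) ≅ Coh.structureModule (sch 𝒳 (σ.obj t))) := fun t =>
    ⟨⟨e.hom.hom.app t, e.inv.hom.app t, by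
      have h : e.hom ≫ e.inv = 𝟙 _ := e.hom_inv_id
      exact congrArg (fun z => Mod.Hom.app z t) (congrArg (fun z => z.hom) h), by
      have h : e.inv ≫ e.hom = 𝟙 _ := e.inv_hom_id
      exact congrArg (fun z => Mod.Hom.app z t) (congrArg (fun z => z.hom) h)⟩⟩
  refine ⟨L, isTwisted_iff.1 hL, fun ξ => ?_, he⟩
  obtain ⟨x, α, hα⟩ := (H.locJ ξ).cov
  refine K799.DescProp.isFT_desc hα (L.property.2 ξ) fun i => ?_
  have hc : IsIso (adjS (trA (jb σ) L.obj (α i) (bs (jb σ) (α i)) rfl)) := isCart_trA (jb σ) L.property.1 (α i) _ rfl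
  refine Groth.Agent.Dcoh.FTFP.isFT_of_iso (asIso (adjS (trA (jb σ) L.obj (α i) (bs (jb σ) (α i)) rfl))).symm ?_
  obtain ⟨e1⟩ := he (x i)
  exact Groth.Agent.Dcoh.FTFP.isFT_of_iso e1.symm (isFT_structureModule _)

end

end K799.Sect
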