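import Groth.Agent.TwSh.K799.FinPt
import Groth.Agent.TwSh.K799.PushFT
import Groth.Agent.TwSh.K799.TwLine

/-!
# Twisted modules of finite type on a banded gerbe over a Noetherian scheme
-/

set_option autoImplicit false
set_option backward.isDefEq.respectTransparency false
set_option backward.isDefEq.respectTransparency.types false

universe t v' w' v w u

open CategoryTheory CategoryTheory.Limits AlgebraicGeometry Opposite TopologicalSpace
open Groth.Agent.Desc.QD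
open StMod K799.Arr K799.StM K799.Cover

namespace K799.NoethTw

open K799.ZObj K799.PushTw K799.Sect

variable {S : Scheme.{u}} {X : Over S} {𝒳 : BasedCategory.{v, w} (Over S)} (π : 𝒳 ⥤ᵇ AlgSt.ofSch X)

theorem isFinite_eqToHom_comp {A B : Over S} {C : Over S} (e : A = B) (f : B ⟶ C) (h : IsFinite f.left) :
    IsFinite (eqToHom e ≫ f).left := by
  subst e; simpa using h

theorem exists_point (hX : FibCat.IsFibGrpd 𝒳.p) [CompactSpace X.left] [Nonempty X.left]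
    (h : Gerb.LocSurjObj (Cover.J S) π) :
    ∃ ξ₀ : 𝒳.obj, IsFinite (π.obj ξ₀).sec.down.left ∧ Nonempty (sch 𝒳 ξ₀) := by
  obtain ⟨x, -, hx⟩ := IsClosed.exists_closed_singleton (S := (Set.univ : Set X.left)) isClosed_univ Set.univ_nonempty
  let y₀ : (AlgSt.ofSch X).obj := ⟨X, ⟨𝟙 X⟩⟩
  obtain ⟨R, hR, H⟩ := h y₀
  obtain ⟨V, f, hf⟩ := exists_family (U := X) hR
  obtain ⟨ξ₁, g, hg⟩ := H (f x) (hf x).1
  obtain ⟨v, hv⟩ := (hf x).2.2
  have := (hf x).2.1.2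
  obtain ⟨Z, g', hZ, hfin⟩ := K799.FinPt.exists_finite_point (f x).left x hx v hv
  have e1 : (AlgSt.ofSch X).p.obj (π.obj ξ₁) = V x := IsHomLift.domain_eq (AlgSt.ofSch X).p (f x) g
  have m1 : (AlgSt.ofSch X).p.map g = eqToHom e1 ≫ f x ≫ eqToHom rfl :=
    map_eq_of_isHomLift (𝒳 := AlgSt.ofSch X) (f x) g hg e1 rfl
  let Zo : Over S := Over.mk (g' ≫ (V x).hom)
  let go : Zo ⟶ V x := Over.homMk g'
  have e2 : V x = 𝒳.p.obj ξ₁ := e1.symm.trans (π.w_obj ξ₁)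
  obtain ⟨ξ₀, φ, e, hφ⟩ := exists_lift (𝒳 := 𝒳) (go ≫ eqToHom e2)
  have hs : (π.obj ξ₁).sec.down = eqToHom e1 ≫ f x := by
    have h1 : g.hom ≫ 𝟙 X = (π.obj ξ₁).sec.down := congrArg ULift.down g.map_sec
    rw [← h1, Category.comp_id]
    refine Eq.trans m1 ?_
    rw [eqToHom_refl]
    exact congrArg _ (Category.comp_id _)
  have hs0 : strX π ξ₀ = eqToHom e ≫ go ≫ f x := by
    rw [← map_strX π φ, hφ, strX, hs]
    simp
  have hs1 : (π.obj ξ₀).sec.down = eqToHom ((π.w_obj ξ₀).trans e) ≫ go ≫ f x := by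
    have h2 : (π.obj ξ₀).sec.down = eqToHom (π.w_obj ξ₀) ≫ strX π ξ₀ := by
      rw [strX]
      simp
    rw [h2, hs0]
    simp
  refine ⟨ξ₀, ?_, ?_⟩
  · rw [hs1]
    exact isFinite_eqToHom_comp _ (go ≫ f x) hfin
  · have h3 : ∀ {B : Over S} (e : B = Zo), Nonempty B.left := by
      intro B e
      subst e
      exact hZ
    exact h3 e

variable {A : (Over S)ᵒᵖ ⥤ GrpCat.{u}} {ι : TwSh.BandHom 𝒳 A}

/-- **Non-zero twisted modules of finite type** on a banded gerbe over a non-empty quasi-compact scheme. -/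
theorem main (hX : FibCat.IsFibGrpd 𝒳.p) [CompactSpace X.left] [Nonempty X.left]
    (hπ : TwSh.IsBandedGerbe (Cover.J S) π ι) (χ : A ⟶ TwSh.GmPsh S) (d : ℤ) :
    ∃ F : QCoh 𝒳, TwSh.IsTwisted F.obj ι χ d ∧ F.obj.IsFinType ∧ ¬ IsZero F := by
  obtain ⟨ξ₀, hfin, hne⟩ := exists_point π hX hπ.1.1
  have H := hyp_sig hX (Stk.isFibGrpd_ofPsh _) (fun _ _ hh => Stk.EltObj.hom_ext hh) hπ ξ₀
  obtain ⟨L, hLt, hLf, hLe⟩ := exists_twisted_line H χ d
  have hq := isQCoh_push π (π.obj ξ₀) hX L.property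
  refine ⟨⟨push π (π.obj ξ₀) hX L.obj, hq⟩, isTwisted_iff.2 (twAt_push π (π.obj ξ₀) hX ι χ d hπ.map_hom_eq_id hLt),
    fun ξ => isFT_push π (π.obj ξ₀) hX L.property hLf ξ, fun hz => ?_⟩
  have h0 : ∀ (U : (sch 𝒳 ξ₀).Opens) (x : Γ((push π (π.obj ξ₀) hX L.obj).obj ξ₀, U)), x = 0 := by
    intro U x
    have h1 : 𝟙 (⟨push π (π.obj ξ₀) hX L.obj, hq⟩ : QCoh 𝒳) = 0 := hz.eq_of_src _ _
    have h2 : (𝟙 ((push π (π.obj ξ₀) hX L.obj).obj ξ₀) : _ ⟶ _) = 0 :=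
      congrArg (fun k => Mod.Hom.app k ξ₀) (congrArg (fun k => k.hom) h1)
    change (𝟙 ((push π (π.obj ξ₀) hX L.obj).obj ξ₀) : _ ⟶ _).app U x = 0
    rw [h2]
    rfl
  have haff := isAffineHom_c π (π.obj ξ₀) hX ξ₀
  have h1 := eq_zero_of_push (bmap 𝒳 (c π (π.obj ξ₀) hX ξ₀)) (L.property.2 (z π (π.obj ξ₀) hX ξ₀)) h0
  let w : (fibCat π (π.obj ξ₀)).obj := (sig π ξ₀).obj (Over.mk (𝟙 ξ₀))
  obtain ⟨θ, -⟩ := exists_zlift π (π.obj ξ₀) hX w (𝟙 ξ₀)
  have h2 := eq_zero_of_cart (isCart_map L.property.1 θ rfl) h1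
  obtain ⟨e⟩ := hLe (Over.mk (𝟙 ξ₀))
  have h3 := isEmpty_of_structure e h2
  exact h3.false hne.some

end K799.NoethTw
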