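import Groth.Agent.TwSh.K799.Global
import Groth.Prelude.Def_TwSh

/-!
# Gerbes: local surjectivity, inertia, twisted modules
-/

set_option autoImplicit false
set_option backward.isDefEq.respectTransparency false
set_option backward.isDefEq.respectTransparency.types false

universe t v' w' v w u

open CategoryTheory CategoryTheory.Limits AlgebraicGeometry Opposite TopologicalSpace
open Groth.Agent.Desc.QD
open StMod K799.Arr K799.StM K799.Cover

namespace K799.StM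

variable {S : Scheme.{u}} {𝒬 : BasedCategory.{v, w} (Over S)} {𝒴 : BasedCategory.{v', w'} (Over S)}
  {j : 𝒬 ⥤ᵇ 𝒴} {y : 𝒴.obj}

theorem map_eq_of_isHomLift {𝒳 : BasedCategory.{v, w} (Over S)} {A B : Over S} {x' x : 𝒳.obj} (f : A ⟶ B)
    (φ : x' ⟶ x) (h : 𝒳.p.IsHomLift f φ) (e : 𝒳.p.obj x' = A) (e' : B = 𝒳.p.obj x) :
    𝒳.p.map φ = eqToHom e ≫ f ≫ eqToHom e' := by
  subst e; subst e'
  simpa using IsHomLift.fac' 𝒳.p f φ

theorem isHomLift_of_map_eq {𝒳 : BasedCategory.{v, w} (Over S)} {A B : Over S} {x' x : 𝒳.obj} (f : A ⟶ B)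
    (φ : x' ⟶ x) (e : 𝒳.p.obj x' = A) (e' : B = 𝒳.p.obj x) (h : 𝒳.p.map φ = eqToHom e ≫ f ≫ eqToHom e') :
    𝒳.p.IsHomLift f φ := by
  subst e; subst e'
  rw [eqToHom_refl, eqToHom_refl, Category.id_comp, Category.comp_id] at h
  subst h
  exact IsHomLift.map 𝒳.p φ

theorem FP_eqToHom_comp {A B C : Over S} (e : A = B) (f : B ⟶ C) (h : FP f.left) : FP (eqToHom e ≫ f).left := by
  subst e; simpa using h

theorem range_eqToHom_comp {A B C : Over S} (e : A = B) (f : B ⟶ C) (p : C.left) (h : p ∈ Set.range f.left.base) :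
    p ∈ Set.range (eqToHom e ≫ f).left.base := by
  subst e; simpa using h

theorem FP_comp_eqToHom {A B C : Over S} (f : A ⟶ B) (e : B = C) (h : FP f.left) : FP (f ≫ eqToHom e).left := by
  subst e; simpa using h

theorem exists_eqToHom {A B : Over S} (e : A = B) (p : B.left) : ∃ q : A.left, (eqToHom e).left.base q = p := by
  subst e; exact ⟨p, rfl⟩

theorem range_comp_eqToHom {A B C : Over S} (f : A ⟶ B) (e : B = C) (p : B.left) (h : p ∈ Set.range f.left.base) :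
    (eqToHom e).left.base p ∈ Set.range (f ≫ eqToHom e).left.base := by
  subst e; simpa using h

theorem loc_of_gerbe (hX : FibCat.IsFibGrpd 𝒬.p) (hY : FibCat.IsFibGrpd 𝒴.p)
    (h : Gerb.IsGerbeOver (Cover.J S) j) (y : 𝒴.obj) : Loc j y := by
  constructor
  · obtain ⟨R, hR, H⟩ := h.1 y
    obtain ⟨V, f, hf⟩ := exists_family hR
    choose x α hα using fun i => H (f i) (hf i).1
    have hb : ∀ i, ∃ e, baseOver j (x i) (α i) = eqToHom e ≫ f i := by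
      intro i
      have e := IsHomLift.domain_eq 𝒴.p (f i) (α i)
      have h1 := map_eq_of_isHomLift (f i) (α i) (hα i) e rfl
      refine ⟨(j.w_obj (x i)).symm.trans e, ?_⟩
      rw [baseOver, h1]
      simp
    refine ⟨x, α, ⟨fun i => ?_, fun p => ⟨p, ?_⟩⟩⟩
    · obtain ⟨e, he⟩ := hb i
      rw [bs, he]
      exact FP_eqToHom_comp e (f i) (hf i).2.1
    · obtain ⟨e, he⟩ := hb p
      rw [bs, he]
      exact range_eqToHom_comp e (f p) p (hf p).2.2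
  · intro x x' α α' W f f' w
    -- `W` over `S`
    let W' : Over S := Over.mk (f ≫ (𝒬.p.obj x).hom)
    let fo : W' ⟶ 𝒬.p.obj x := Over.homMk f
    have hw' : f' ≫ (𝒬.p.obj x').hom = f ≫ (𝒬.p.obj x).hom := by
      have h1 : bs j α ≫ (𝒴.p.obj y).hom = (𝒬.p.obj x).hom := Over.w (baseOver j x α)
      have h2 : bs j α' ≫ (𝒴.p.obj y).hom = (𝒬.p.obj x').hom := Over.w (baseOver j x' α')
      rw [← h1, ← h2, ← Category.assoc, ← Category.assoc, w]
    let fo' : W' ⟶ 𝒬.p.obj x' := Over.homMk f' hw'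
    obtain ⟨a, φ, e, hφ⟩ := exists_lift (𝒳 := 𝒬) fo
    obtain ⟨a', φ', e', hφ'⟩ := exists_lift (𝒳 := 𝒬) fo'
    have hab : 𝒬.p.obj a' = 𝒬.p.obj a := e'.trans e.symm
    have hWW : baseOver j x α = baseOver j x α := rfl
    have hfw : fo ≫ baseOver j x α = fo' ≫ baseOver j x' α' := by
      ext
      exact w
    -- the comparison
    have m1 : 𝒴.p.map (j.map φ ≫ α) = eqToHom (j.w_obj a) ≫ eqToHom e ≫ fo ≫ baseOver j x α := by
      have h1 : baseOver j a (j.map φ ≫ α) = eqToHom e ≫ fo ≫ baseOver j x α := by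
        rw [← map_comp_baseOver, hφ, Category.assoc]
      rw [← h1, baseOver]
      simp
    have m2 : 𝒴.p.map (j.map φ' ≫ α') = eqToHom (j.w_obj a') ≫ eqToHom e' ≫ fo' ≫ baseOver j x' α' := by
      have h1 : baseOver j a' (j.map φ' ≫ α') = eqToHom e' ≫ fo' ≫ baseOver j x' α' := by
        rw [← map_comp_baseOver, hφ', Category.assoc]
      rw [← h1, baseOver]
      simp
    have eg : 𝒴.p.obj (j.obj a) = 𝒴.p.obj (j.obj a') := (j.w_obj a).trans (hab.symm.trans (j.w_obj a').symm)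
    obtain ⟨b, hb1, hb2⟩ := exists_fac (𝒳 := 𝒴) (j.map φ' ≫ α') (j.map φ ≫ α) (eqToHom eg) (by
      rw [m1, m2, hfw]
      simp)
    have hblift : 𝒴.p.IsHomLift (𝟙 (𝒬.p.obj a)) b := by
      refine isHomLift_of_map_eq (𝟙 (𝒬.p.obj a)) b (j.w_obj a) ((j.w_obj a').trans hab).symm ?_
      rw [hb1]
      simp
    obtain ⟨R, hR, H⟩ := h.2 a a' b hblift
    obtain ⟨V, g, hg⟩ := exists_family hR
    have key : ∀ p : W, ∃ (z : 𝒬.obj) (q : sch 𝒬 z ⟶ W) (u : z ⟶ x) (u' : z ⟶ x'), FP q ∧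
        p ∈ Set.range q.base ∧ bmap 𝒬 u = q ≫ f ∧ bmap 𝒬 u' = q ≫ f' ∧ j.map u ≫ α = j.map u' ≫ α' := by
      intro p
      obtain ⟨p', hp'⟩ := exists_eqToHom e p
      obtain ⟨z, φ₀, ψ₀, h1, h2, h3⟩ := H (g p') (hg p').1
      have ez : 𝒬.p.obj z = V p' := IsHomLift.domain_eq 𝒬.p (g p') φ₀
      have n1 : 𝒬.p.map φ₀ = eqToHom ez ≫ g p' := by
        simpa using map_eq_of_isHomLift (g p') φ₀ h1 ez rfl
      have n2 : 𝒬.p.map ψ₀ = eqToHom ez ≫ g p' ≫ eqToHom hab.symm := map_eq_of_isHomLift (g p') ψ₀ h2 ez hab.symm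
      have n3 : 𝒬.p.map ψ₀ ≫ eqToHom e' = 𝒬.p.map φ₀ ≫ eqToHom e := by
        rw [n1, n2]
        simp
      refine ⟨z, (𝒬.p.map φ₀ ≫ eqToHom e).left, φ₀ ≫ φ, ψ₀ ≫ φ', ?_, ?_, ?_, ?_, ?_⟩
      · apply FP_comp_eqToHom
        rw [n1]
        exact FP_eqToHom_comp ez (g p') (hg p').2.1
      · rw [← hp']
        apply range_comp_eqToHom
        rw [n1]
        exact range_eqToHom_comp ez (g p') p' (hg p').2.2
      · have : 𝒬.p.map (φ₀ ≫ φ) = (𝒬.p.map φ₀ ≫ eqToHom e) ≫ fo := by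
          rw [Functor.map_comp, hφ, Category.assoc]
        exact congrArg (fun k => k.left) this
      · have : 𝒬.p.map (ψ₀ ≫ φ') = (𝒬.p.map φ₀ ≫ eqToHom e) ≫ fo' := by
          rw [Functor.map_comp, hφ', ← n3, Category.assoc]
        exact congrArg (fun k => k.left) this
      · have e1 : j.map (φ₀ ≫ φ) = j.map φ₀ ≫ j.map φ := j.toFunctor.map_comp _ _
        have e2 : j.map (ψ₀ ≫ φ') = j.map ψ₀ ≫ j.map φ' := j.toFunctor.map_comp _ _
        rw [e1, e2, Category.assoc, Category.assoc, ← h3, Category.assoc, hb2]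
    choose z q u u' h1 h2 h3 using key
    exact ⟨z, q, u, u', ⟨h1, fun p => ⟨p, h2 p⟩⟩, h3⟩

section Inertia

/-- Build an automorphism over the identity. -/
def mkAut {𝒳 : BasedCategory.{v, w} (Over S)} {x : 𝒳.obj} (χ χ' : x ⟶ x) (h : 𝒳.p.map χ = 𝟙 _)
    (h' : 𝒳.p.map χ' = 𝟙 _) (h1 : χ ≫ χ' = 𝟙 x) (h2 : χ' ≫ χ = 𝟙 x) : Gerb.AutO x where
  hom := ⟨χ, isHomLift_of_map_eq (𝟙 (𝒳.p.obj x)) χ rfl rfl (by simpa using h)⟩
  inv := ⟨χ', isHomLift_of_map_eq (𝟙 (𝒳.p.obj x)) χ' rfl rfl (by simpa using h')⟩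
  hom_inv_id := by
    apply Functor.Fiber.hom_ext
    exact h1
  inv_hom_id := by
    apply Functor.Fiber.hom_ext
    exact h2

@[simp] theorem mkAut_hom {𝒳 : BasedCategory.{v, w} (Over S)} {x : 𝒳.obj} (χ χ' : x ⟶ x) (h : 𝒳.p.map χ = 𝟙 _)
    (h' : 𝒳.p.map χ' = 𝟙 _) (h1 : χ ≫ χ' = 𝟙 x) (h2 : χ' ≫ χ = 𝟙 x) : (mkAut χ χ' h h' h1 h2).hom.1 = χ := rfl

/-- In a category fibred in groupoids every endomorphism over the identity is an automorphism. -/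
theorem exists_aut {𝒳 : BasedCategory.{v, w} (Over S)} (hX : FibCat.IsFibGrpd 𝒳.p) {x : 𝒳.obj} (χ : x ⟶ x)
    (h : 𝒳.p.map χ = 𝟙 _) : ∃ a : Gerb.AutO x, a.hom.1 = χ := by
  have hi : IsIso (𝒳.p.map χ) := by rw [h]; infer_instance
  have := isIso_of_isIso_map (𝒳 := 𝒳) χ
  have h' : 𝒳.p.map (inv χ) = 𝟙 _ := by
    have h2 : 𝒳.p.map χ ≫ 𝒳.p.map (inv χ) = 𝟙 _ := by
      rw [← Functor.map_comp, IsIso.hom_inv_id, CategoryTheory.Functor.map_id]
    rw [h, Category.id_comp] at h2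
    exact h2
  exact ⟨mkAut χ (inv χ) h h' (by simp) (by simp), rfl⟩

theorem inert_eq_toHom {𝒳 : BasedCategory.{v, w} (Over S)} (F : Mod 𝒳) (ξ : 𝒳.obj) (α : Gerb.AutO ξ) :
    TwSh.inert F ξ α = toHom (F.map α.hom.1 (TwSh.bmap_autO ξ α)) := rfl

theorem map_aut_eq {𝒳 : BasedCategory.{v, w} (Over S)} (F : Mod 𝒳) (ξ : 𝒳.obj) (α : Gerb.AutO ξ) :
    F.map α.hom.1 (TwSh.bmap_autO ξ α) = ofHom (TwSh.inert F ξ α) := by
  rw [inert_eq_toHom, ofHom_toHom]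

theorem scalarEnd_one {X : Scheme.{u}} (M : X.Modules) : TwSh.scalarEnd M (1 : Γ(X, ⊤)) = 𝟙 M := by
  apply ap_ext
  intro U s
  have h1 : ap (TwSh.scalarEnd M (1 : Γ(X, ⊤))) U s = TwSh.resTop X U 1 • s := TwSh.scalarEnd_app_apply M 1 U s
  rw [h1, map_one, one_smul, ap_id]

theorem triv_of_zeroTwisted {A : (Over S)ᵒᵖ ⥤ GrpCat.{u}} (hX : FibCat.IsFibGrpd 𝒬.p) (hY : FibCat.IsFibGrpd 𝒴.p)
    (χ : A ⟶ TwSh.GmPsh S) (ι : TwSh.BandHom 𝒬 A)
    (hι : ∀ x : 𝒬.obj, (Gerb.autMap j x).ker ≤ (ι.hom x).range) (F : Mod 𝒬) (hF : TwSh.IsTwisted F ι χ 0)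
    (y : 𝒴.obj) : Triv j F y := by
  intro x' x φ φ' α h g hg hg'
  have hb : 𝒬.p.map φ = 𝒬.p.map φ' := by
    ext
    exact hg.trans hg'.symm
  have hj : 𝒴.p.map (j.map φ) = 𝒴.p.map (j.map φ') := by
    rw [map_eq_of_isHomLift (𝒬.p.map φ) (j.map φ) inferInstance (j.w_obj x') (j.w_obj x).symm,
      map_eq_of_isHomLift (𝒬.p.map φ') (j.map φ') inferInstance (j.w_obj x') (j.w_obj x).symm, hb]
  have hjj : j.map φ = j.map φ' := fac_unique (𝒳 := 𝒴) α _ _ hj h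
  obtain ⟨ψ, hψ1, hψ2⟩ := exists_fac (𝒳 := 𝒬) φ φ' (𝟙 _) (by rw [hb, Category.id_comp])
  obtain ⟨a, ha⟩ := exists_aut hX ψ hψ1
  have hk : a ∈ (Gerb.autMap j x').ker := by
    rw [MonoidHom.mem_ker]
    apply Aut.ext
    apply Functor.Fiber.hom_ext
    change j.map a.hom.1 = 𝟙 _
    rw [ha]
    apply fac_unique (𝒳 := 𝒴) (j.map φ)
    · rw [map_eq_of_isHomLift (𝒬.p.map ψ) (j.map ψ) inferInstance (j.w_obj x') (j.w_obj x').symm, hψ1]
      simp
    · have e1 : j.map (ψ ≫ φ) = j.map ψ ≫ j.map φ := j.toFunctor.map_comp _ _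
      rw [← e1, hψ2, ← hjj, Category.id_comp]
  obtain ⟨t, ht⟩ := hι x' hk
  have h1 : TwSh.inert F x' a = 𝟙 _ := by
    rw [← ht, (TwSh.isTwisted_iff_inert_eq F ι χ 0).1 hF x' t]
    have : ((TwSh.charUnit χ x' t ^ (0 : ℤ))⁻¹).val = 1 := by simp
    rw [this, scalarEnd_one]
  have h2 : F.map ψ (by rw [← ha]; exact TwSh.bmap_autO x' a) = idA (F.obj x') := by
    have h3 := map_aut_eq F x' a
    rw [h1] at h3
    have h4 : (ofHom (𝟙 (F.obj x'))) = idA (F.obj x') := by rw [ofHom, post_id]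
    rw [h4] at h3
    rw [← h3]
    exact F.map_congr ha.symm _
  have e1 : bmap 𝒬 (ψ ≫ φ) = g := by rw [hψ2]; exact hg'
  have h5 := comp_map F ψ φ (by rw [← ha]; exact TwSh.bmap_autO x' a) hg g (Category.id_comp g) e1
  rw [h2, comp_idA] at h5
  rw [h5]
  exact F.map_congr hψ2 _

end Inertia

end K799.StM
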