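import Groth.Agent.TwSh.K799.TwLoc

/-!
# Pulling back a cover of the base of a category over a scheme
-/

set_option autoImplicit false
set_option backward.isDefEq.respectTransparency false
set_option backward.isDefEq.respectTransparency.types false

universe t v' w' v w u

open CategoryTheory CategoryTheory.Limits AlgebraicGeometry Opposite TopologicalSpace
open Groth.Agent.Desc.QD
open StMod K799.Arr K799.StM K799.Cover

namespace K799.StM

variable {S : Scheme.{u}} {X : Over S} {𝒳 : BasedCategory.{v, w} (Over S)}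

/-- The structure morphism of an object of `𝒳` over `X`. -/
noncomputable def strX (π : 𝒳 ⥤ᵇ AlgSt.ofSch X) (ξ : 𝒳.obj) : 𝒳.p.obj ξ ⟶ X :=
  eqToHom (π.w_obj ξ).symm ≫ (π.obj ξ).sec.down

theorem map_strX (π : 𝒳 ⥤ᵇ AlgSt.ofSch X) {ξ' ξ : 𝒳.obj} (φ : ξ' ⟶ ξ) :
    𝒳.p.map φ ≫ strX π ξ = strX π ξ' := by
  have h1 : (π.map φ).hom ≫ (π.obj ξ).sec.down = (π.obj ξ').sec.down := congrArg ULift.down (π.map φ).map_sec
  have h2 : (π.map φ).hom = eqToHom (π.w_obj ξ') ≫ 𝒳.p.map φ ≫ eqToHom (π.w_obj ξ).symm :=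
    map_eq_of_isHomLift (𝒳 := AlgSt.ofSch X) (𝒳.p.map φ) (π.map φ)
      (BasedFunctor.preserves_isHomLift π (𝒳.p.map φ) φ) (π.w_obj ξ') (π.w_obj ξ).symm
  rw [strX, strX, ← h1, h2]
  simp

/-- A morphism `π ξ ⟶ η` from a morphism of schemes over `X`. -/
noncomputable def toEta (π : 𝒳 ⥤ᵇ AlgSt.ofSch X) (ξ : 𝒳.obj) (η : (AlgSt.ofSch X).obj) (f : 𝒳.p.obj ξ ⟶ η.base)
    (h : f ≫ η.sec.down = strX π ξ) : π.obj ξ ⟶ η :=
  ⟨eqToHom (π.w_obj ξ) ≫ f, by
    apply ULift.down_injective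
    change (eqToHom (π.w_obj ξ) ≫ f) ≫ η.sec.down = (π.obj ξ).sec.down
    rw [Category.assoc, h, strX]
    simp⟩

/-- Pulling back a jointly surjective family of flat morphisms locally of finite presentation to an object. -/
theorem exists_pull (hX : FibCat.IsFibGrpd 𝒳.p) (π : 𝒳 ⥤ᵇ AlgSt.ofSch X) {I : Type t}
    (η : I → (AlgSt.ofSch X).obj) (hfl : ∀ i, Flat (η i).sec.down.left)
    (hfp : ∀ i, LocallyOfFinitePresentation (η i).sec.down.left)
    (hcov : ∀ x : X.left, ∃ i, x ∈ Set.range (η i).sec.down.left.base) (ξ : 𝒳.obj) :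
    ∃ (x : I → 𝒳.obj) (φ : ∀ i, x i ⟶ ξ) (_ : ∀ i, π.obj (x i) ⟶ η i), IsCov (fun i => bmap 𝒳 (φ i)) := by
  have key : ∀ i, ∃ (x : 𝒳.obj) (φ : x ⟶ ξ) (_ : π.obj x ⟶ η i), FP (bmap 𝒳 φ) ∧
      ∀ p : sch 𝒳 ξ, (strX π ξ).left.base p ∈ Set.range (η i).sec.down.left.base → p ∈ Set.range (bmap 𝒳 φ).base := by
    intro i
    let W : Over S := Over.mk (pullback.fst (strX π ξ).left (η i).sec.down.left ≫ (𝒳.p.obj ξ).hom)
    let f : W ⟶ 𝒳.p.obj ξ := Over.homMk (pullback.fst (strX π ξ).left (η i).sec.down.left)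
    let g : W ⟶ (η i).base := Over.homMk (pullback.snd (strX π ξ).left (η i).sec.down.left) (by
      have h1 : (η i).sec.down.left ≫ X.hom = (η i).base.hom := Over.w (η i).sec.down
      have h2 : (strX π ξ).left ≫ X.hom = (𝒳.p.obj ξ).hom := Over.w (strX π ξ)
      change pullback.snd _ _ ≫ (η i).base.hom = pullback.fst _ _ ≫ (𝒳.p.obj ξ).hom
      rw [← h1, ← h2, ← Category.assoc, ← Category.assoc, pullback.condition])
    have hfg : f ≫ strX π ξ = g ≫ (η i).sec.down := by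
      ext
      exact pullback.condition
    obtain ⟨x, φ, e, hφ⟩ := exists_lift (𝒳 := 𝒳) f
    have hg : (eqToHom e ≫ g) ≫ (η i).sec.down = strX π x := by
      rw [Category.assoc, ← hfg, ← Category.assoc, ← hφ, map_strX]
    refine ⟨x, φ, toEta π x (η i) (eqToHom e ≫ g) hg, ?_, ?_⟩
    · have : FP f.left := FP.fst _ _ ⟨hfl i, hfp i⟩
      have h2 := FP_eqToHom_comp e f this
      rw [← hφ] at h2
      exact h2
    · rintro p ⟨q, hq⟩
      obtain ⟨r, hr1, hr2⟩ := Scheme.Pullback.exists_preimage_pullback (f := (strX π ξ).left)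
        (g := (η i).sec.down.left) p q hq.symm
      have h2 := range_eqToHom_comp e f p ⟨r, hr1⟩
      rw [← hφ] at h2
      exact h2
  choose x φ α h1 h2 using key
  refine ⟨x, φ, α, ⟨h1, fun p => ?_⟩⟩
  obtain ⟨i, hi⟩ := hcov ((strX π ξ).left.base p)
  exact ⟨i, h2 i p hi⟩

end K799.StM
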