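import Groth.Agent.TwSh.K799.SectMain
import Groth.Agent.TwSh.K799.BasePull

/-!
# Sections of banded gerbes
-/

set_option autoImplicit false
set_option backward.isDefEq.respectTransparency false
set_option backward.isDefEq.respectTransparency.types false

universe t v' w' v w u

open CategoryTheory CategoryTheory.Limits AlgebraicGeometry Opposite TopologicalSpace
open Groth.Agent.Desc.QD
open StMod K799.Arr K799.StM K799.Cover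

namespace K799.Sect

variable {S : Scheme.{u}} {𝒳 : BasedCategory.{v, w} (Over S)} {A : (Over S)ᵒᵖ ⥤ GrpCat.{u}}
  {ι : TwSh.BandHom 𝒳 A} {χ : A ⟶ TwSh.GmPsh S} {d : ℤ}

theorem main_iso {C : Type w'} [Category.{v'} C] {σ : C ⥤ 𝒳.obj} (H : Hyp ι σ) :
    ((TwSh.isTwistedQ 𝒳 ι χ d).ι ⋙ comapQ (sb σ)).IsEquivalence where
  faithful := faithful H
  full := full H
  essSurj := essSurj H

theorem isEquivalence_aux {C : Type w'} [Category.{v'} C] (F : C ⥤ 𝒳.obj) (p : C ⥤ Over S) (w : F ⋙ 𝒳.p = p)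
    (hX : FibCat.IsFibGrpd 𝒳.p)
    (hT : FibCat.IsFibGrpd p) (faith : ∀ {t' t : C} (h h' : t' ⟶ t), p.map h = p.map h' → h = h')
    (surj : Gerb.LocSurjObj (Cover.J S) (⟨F, w⟩ : BasedCategory.ofFunctor p ⥤ᵇ 𝒳))
    (dec : ∀ {t' t : C} (φ : F.obj t' ⟶ F.obj t), ∃ (a : A.obj (op (𝒳.p.obj (F.obj t')))) (h : t' ⟶ t),
      φ = (ι.hom (F.obj t') a).hom.1 ≫ F.map h)
    (inj : ∀ t, Function.Injective (ι.hom (F.obj t))) :
    ((TwSh.isTwistedQ 𝒳 ι χ d).ι ⋙ comapQ (⟨F, w⟩ : BasedCategory.ofFunctor p ⥤ᵇ 𝒳)).IsEquivalence := by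
  subst w
  exact main_iso (σ := F) ⟨hX, hT, faith, surj, dec, inj⟩

/-- The equivalence for a based functor. -/
theorem isEquivalence {𝒯 : BasedCategory.{v', w'} (Over S)} (σ : 𝒯 ⥤ᵇ 𝒳) (hX : FibCat.IsFibGrpd 𝒳.p)
    (hT : FibCat.IsFibGrpd 𝒯.p) (faith : ∀ {t' t : 𝒯.obj} (h h' : t' ⟶ t), 𝒯.p.map h = 𝒯.p.map h' → h = h')
    (surj : Gerb.LocSurjObj (Cover.J S) σ)
    (dec : ∀ {t' t : 𝒯.obj} (φ : σ.obj t' ⟶ σ.obj t), ∃ (a : A.obj (op (𝒳.p.obj (σ.obj t')))) (h : t' ⟶ t),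
      φ = (ι.hom (σ.obj t') a).hom.1 ≫ σ.map h)
    (inj : ∀ t, Function.Injective (ι.hom (σ.obj t))) :
    ((TwSh.isTwistedQ 𝒳 ι χ d).ι ⋙ comapQ σ).IsEquivalence :=
  isEquivalence_aux (C := 𝒯.obj) σ.toFunctor 𝒯.p σ.w hX hT faith surj dec inj

section Gerbe

variable {𝒴 : BasedCategory.{v', w'} (Over S)} (π : 𝒳 ⥤ᵇ 𝒴)

theorem p_map_map (F : 𝒳 ⥤ᵇ 𝒴) {x' x : 𝒳.obj} (φ : x' ⟶ x) :
    𝒴.p.map (F.map φ) = eqToHom (F.w_obj x') ≫ 𝒳.p.map φ ≫ eqToHom (F.w_obj x).symm :=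
  map_eq_of_isHomLift (𝒳 := 𝒴) (𝒳.p.map φ) (F.map φ) (BasedFunctor.preserves_isHomLift F (𝒳.p.map φ) φ)
    (F.w_obj x') (F.w_obj x).symm

theorem p_map_eq_iff (F : 𝒳 ⥤ᵇ 𝒴) {x' x : 𝒳.obj} (φ ψ : x' ⟶ x) :
    𝒴.p.map (F.map φ) = 𝒴.p.map (F.map ψ) ↔ 𝒳.p.map φ = 𝒳.p.map ψ := by
  rw [p_map_map, p_map_map]
  constructor
  · intro h
    exact (cancel_mono _).1 ((cancel_epi _).1 h)
  · intro h
    rw [h]

/-- A morphism between objects over `𝒴` that `π` sends to the same morphism as `ψ` differs from it by an element of the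
band. -/
theorem exists_band (hX : FibCat.IsFibGrpd 𝒳.p) (hY : ∀ {y' y : 𝒴.obj} (h h' : y' ⟶ y),
      𝒴.p.map h = 𝒴.p.map h' → h = h') (hπ : TwSh.IsBandedGerbe (Cover.J S) π ι) {x' x : 𝒳.obj} (φ ψ : x' ⟶ x)
    (h : 𝒳.p.map φ = 𝒳.p.map ψ) : ∃ a : A.obj (op (𝒳.p.obj x')), φ = (ι.hom x' a).hom.1 ≫ ψ := by
  obtain ⟨χ', h1, h2⟩ := exists_fac (𝒳 := 𝒳) ψ φ (𝟙 _) (by rw [Category.id_comp, h])
  obtain ⟨α, hα⟩ := exists_aut hX χ' h1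
  have hk : α ∈ (Gerb.autMap π x').ker := by
    rw [MonoidHom.mem_ker]
    apply Aut.ext
    apply Functor.Fiber.hom_ext
    change π.map α.hom.1 = 𝟙 _
    apply hY
    rw [hα, p_map_map, h1]
    simp
  rw [← (hπ.2 x').2] at hk
  obtain ⟨a, ha⟩ := hk
  exact ⟨a, by rw [ha, hα, h2]⟩

/-- A section of a gerbe is locally essentially surjective. -/
theorem locSurj_section (hX : FibCat.IsFibGrpd 𝒳.p) (hπ : Gerb.LocSurjHom (Cover.J S) π) (σ : 𝒴 ⥤ᵇ 𝒳)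
    (e : BasedFunctor.comp σ π ≅ BasedFunctor.id 𝒴) : Gerb.LocSurjObj (Cover.J S) σ := by
  intro ξ
  let b : π.obj ξ ⟶ π.obj (σ.obj (π.obj ξ)) := e.inv.toNatTrans.app (π.obj ξ)
  have hb : 𝒴.p.IsHomLift (𝟙 (𝒳.p.obj ξ)) b := BasedNatTrans.isHomLift e.inv (π.w_obj ξ)
  obtain ⟨R, hR, H⟩ := hπ ξ (σ.obj (π.obj ξ)) b hb
  refine ⟨R, hR, fun V f hf => ?_⟩
  obtain ⟨x₀, φ, ψ, h1, h2, h3⟩ := H f hf
  have e1 : 𝒳.p.obj x₀ = V := IsHomLift.domain_eq 𝒳.p f φ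
  have e2 : 𝒳.p.obj (σ.obj (π.obj x₀)) = 𝒳.p.obj x₀ := (σ.w_obj _).trans (π.w_obj _)
  have e3 : 𝒳.p.obj (σ.obj (π.obj ξ)) = 𝒳.p.obj ξ := (σ.w_obj _).trans (π.w_obj _)
  have m1 : 𝒳.p.map φ = eqToHom e1 ≫ f ≫ eqToHom rfl := map_eq_of_isHomLift (𝒳 := 𝒳) f φ h1 e1 rfl
  have m2 : 𝒳.p.map ψ = eqToHom e1 ≫ f ≫ eqToHom e3.symm := map_eq_of_isHomLift (𝒳 := 𝒳) f ψ h2 e1 e3.symm
  obtain ⟨χ', hχ1, -⟩ := exists_fac (𝒳 := 𝒳) ψ (σ.map (π.map φ)) (eqToHom e2) (by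
    rw [p_map_map, p_map_map, m1, m2]
    simp)
  refine ⟨π.obj x₀, χ' ≫ φ, ?_⟩
  refine isHomLift_of_map_eq (𝒳 := 𝒳) f (χ' ≫ φ) (e2.trans e1) rfl ?_
  rw [Functor.map_comp, hχ1, m1]
  simp

theorem dec_section (hX : FibCat.IsFibGrpd 𝒳.p) (hY : ∀ {y' y : 𝒴.obj} (h h' : y' ⟶ y),
      𝒴.p.map h = 𝒴.p.map h' → h = h') (hπ : TwSh.IsBandedGerbe (Cover.J S) π ι) (σ : 𝒴 ⥤ᵇ 𝒳)
    (e : BasedFunctor.comp σ π ≅ BasedFunctor.id 𝒴) {t' t : 𝒴.obj} (φ : σ.obj t' ⟶ σ.obj t) :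
    ∃ (a : A.obj (op (𝒳.p.obj (σ.obj t')))) (h : t' ⟶ t), φ = (ι.hom (σ.obj t') a).hom.1 ≫ σ.map h := by
  let h : t' ⟶ t := e.inv.toNatTrans.app t' ≫ π.map φ ≫ e.hom.toNatTrans.app t
  have hnat : π.map (σ.map h) ≫ e.hom.toNatTrans.app t = e.hom.toNatTrans.app t' ≫ h :=
    e.hom.toNatTrans.naturality h
  have hinv : ∀ s : 𝒴.obj, e.hom.toNatTrans.app s ≫ e.inv.toNatTrans.app s = 𝟙 _ := fun s =>
    congrArg (fun z => z.toNatTrans.app s) e.hom_inv_id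
  have h1 : π.map (σ.map h) = π.map φ := by
    have h2 : π.map (σ.map h) ≫ e.hom.toNatTrans.app t ≫ e.inv.toNatTrans.app t =
        π.map φ ≫ e.hom.toNatTrans.app t ≫ e.inv.toNatTrans.app t := by
      have h3 : e.hom.toNatTrans.app t' ≫ h = π.map φ ≫ e.hom.toNatTrans.app t := by
        change e.hom.toNatTrans.app t' ≫ e.inv.toNatTrans.app t' ≫ π.map φ ≫ e.hom.toNatTrans.app t = _
        rw [← Category.assoc, hinv]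
        exact Category.id_comp _
      rw [← Category.assoc, hnat, h3, Category.assoc]
    rw [hinv] at h2
    exact (Category.comp_id _).symm.trans (h2.trans (Category.comp_id _))
  have h4 : 𝒳.p.map φ = 𝒳.p.map (σ.map h) := by
    rw [← p_map_eq_iff π, h1]
  obtain ⟨a, ha⟩ := exists_band π hX hY hπ φ (σ.map h) h4
  exact ⟨a, h, ha⟩

/-- **A section of a banded gerbe identifies twisted quasi-coherent modules with quasi-coherent modules on the base.** -/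
theorem isEquivalence_section (hX : FibCat.IsFibGrpd 𝒳.p) (hYf : FibCat.IsFibGrpd 𝒴.p)
    (hY : ∀ {y' y : 𝒴.obj} (h h' : y' ⟶ y), 𝒴.p.map h = 𝒴.p.map h' → h = h')
    (hπ : TwSh.IsBandedGerbe (Cover.J S) π ι) (σ : 𝒴 ⥤ᵇ 𝒳) (e : BasedFunctor.comp σ π ≅ BasedFunctor.id 𝒴) :
    ((TwSh.isTwistedQ 𝒳 ι χ d).ι ⋙ comapQ σ).IsEquivalence :=
  isEquivalence σ hX hYf hY (locSurj_section π hX hπ.1.2 σ e) (fun φ => dec_section π hX hY hπ σ e φ)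
    (fun t => (hπ.2 (σ.obj t)).1)

end Gerbe

end K799.Sect
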