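import Groth.Agent.Desc.QDMor

/-!
# Arrows of modules over a morphism of schemes

`Arr g M N` for `g : X ⟶ Y`, `M` on `Y`, `N` on `X`: a morphism `M ⟶ g_* N`, used through its action on sections
`av m e : Γ(M, U) →+ Γ(N, V)` for `V ≤ g⁻¹ U`.  Composition, the cartesian arrows (`IsCart`: adjoint an isomorphism) and
their universal property, descent of sections and of arrows along fpqc families.
-/

set_option autoImplicit false
set_option backward.isDefEq.respectTransparency false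
set_option backward.isDefEq.respectTransparency.types false

universe t v u

open CategoryTheory CategoryTheory.Limits AlgebraicGeometry Opposite TopologicalSpace
open Groth.Agent.Desc.QD

namespace K799.Arr

variable {X Y Z W T : Scheme.{u}}

/-- An arrow of modules over `g : X ⟶ Y` from `M` (on `Y`) to `N` (on `X`). -/
abbrev Arr (g : X ⟶ Y) (M : Y.Modules) (N : X.Modules) : Type u :=
  M ⟶ (Scheme.Modules.pushforward g).obj N

section Basic

variable {g : X ⟶ Y} {M : Y.Modules} {N : X.Modules}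

/-- The action of an arrow on sections. -/
noncomputable def av (m : Arr g M N) {U : Y.Opens} {V : X.Opens} (e : V ≤ g ⁻¹ᵁ U) : Γ(M, U) →+ Γ(N, V) :=
  (rs N e).comp (show Γ(M, U) →+ Γ(N, g ⁻¹ᵁ U) from ap m U)

theorem av_def (m : Arr g M N) {U : Y.Opens} {V : X.Opens} (e : V ≤ g ⁻¹ᵁ U) (s : Γ(M, U)) :
    av m e s = rs N e (show Γ(N, g ⁻¹ᵁ U) from ap m U s) := rfl

theorem av_refl (m : Arr g M N) {U : Y.Opens} (s : Γ(M, U)) :
    av m (le_refl (g ⁻¹ᵁ U)) s = (show Γ(N, g ⁻¹ᵁ U) from ap m U s) := by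
  rw [av_def, rs_refl]

theorem rs_push {U V : Y.Opens} (h : V ≤ U) (s : Γ((Scheme.Modules.pushforward g).obj N, U)) :
    rs ((Scheme.Modules.pushforward g).obj N) h s =
      (show Γ((Scheme.Modules.pushforward g).obj N, V) from
        rs N (g.preimage_mono h) (show Γ(N, g ⁻¹ᵁ U) from s)) := rfl

theorem rs_av (m : Arr g M N) {U : Y.Opens} {V V' : X.Opens} (e : V ≤ g ⁻¹ᵁ U) (h : V' ≤ V) (s : Γ(M, U)) :
    rs N h (av m e s) = av m (h.trans e) s := by
  rw [av_def, av_def, rs_rs]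

theorem av_rs (m : Arr g M N) {U U' : Y.Opens} {V : X.Opens} (h : U' ≤ U) (e : V ≤ g ⁻¹ᵁ U') (s : Γ(M, U)) :
    av m e (rs M h s) = av m (e.trans (g.preimage_mono h)) s := by
  rw [av_def, av_def]
  have h1 : (show Γ(N, g ⁻¹ᵁ U') from ap m U' (rs M h s)) =
      rs N (g.preimage_mono h) (show Γ(N, g ⁻¹ᵁ U) from ap m U s) := ap_rs m h s
  rw [h1, rs_rs]

theorem av_smul (m : Arr g M N) {U : Y.Opens} {V : X.Opens} (e : V ≤ g ⁻¹ᵁ U) (a : Γ(Y, U)) (s : Γ(M, U)) :
    av m e (a • s) = g.appLE U V e a • av m e s := by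
  rw [av_def, av_def]
  have h1 : (show Γ(N, g ⁻¹ᵁ U) from ap m U (a • s)) =
      (g.app U a) • (show Γ(N, g ⁻¹ᵁ U) from ap m U s) := ap_smul m a s
  rw [h1, rs_smul]
  rfl

theorem ext {m m' : Arr g M N} (h : ∀ (U : Y.Opens) (s : Γ(M, U)),
    av m (le_refl (g ⁻¹ᵁ U)) s = av m' (le_refl (g ⁻¹ᵁ U)) s) : m = m' := by
  apply ap_ext
  intro U s
  have := h U s
  rw [av_refl, av_refl] at this
  exact this

theorem av_congr {m m' : Arr g M N} (h : m = m') {U : Y.Opens} {V : X.Opens} (e : V ≤ g ⁻¹ᵁ U) (s : Γ(M, U)) :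
    av m e s = av m' e s := by rw [h]

variable (g M N) in
/-- Build an arrow from additive semilinear maps on sections compatible with restriction. -/
noncomputable def mk (f : ∀ U : Y.Opens, Γ(M, U) →+ Γ(N, g ⁻¹ᵁ U))
    (hlin : ∀ (U : Y.Opens) (a : Γ(Y, U)) (m : Γ(M, U)), f U (a • m) = g.app U a • f U m)
    (hnat : ∀ (U V : Y.Opens) (h : V ≤ U) (m : Γ(M, U)), f V (rs M h m) = rs N (g.preimage_mono h) (f U m)) :
    Arr g M N :=
  Groth.Agent.Fdesc.LocGen.mkHom (X := Y) (M := M) (N := (Scheme.Modules.pushforward g).obj N)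
    (fun U => (show Γ(M, U) →+ Γ((Scheme.Modules.pushforward g).obj N, U) from f U))
    (fun U a m => hlin U a m) (fun U V h m => hnat U V h m)

theorem av_mk (f : ∀ U : Y.Opens, Γ(M, U) →+ Γ(N, g ⁻¹ᵁ U))
    (hlin : ∀ (U : Y.Opens) (a : Γ(Y, U)) (m : Γ(M, U)), f U (a • m) = g.app U a • f U m)
    (hnat : ∀ (U V : Y.Opens) (h : V ≤ U) (m : Γ(M, U)), f V (rs M h m) = rs N (g.preimage_mono h) (f U m))
    {U : Y.Opens} {V : X.Opens} (e : V ≤ g ⁻¹ᵁ U) (s : Γ(M, U)) :
    av (mk g M N f hlin hnat) e s = rs N e (f U s) := rfl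

/-- Precomposition with a morphism of modules. -/
theorem av_pre {M' : Y.Modules} (φ : M' ⟶ M) (m : Arr g M N) {U : Y.Opens} {V : X.Opens} (e : V ≤ g ⁻¹ᵁ U)
    (s : Γ(M', U)) : av (g := g) (N := N) (φ ≫ m) e s = av m e (ap φ U s) := rfl

/-- Postcomposition with a morphism of modules. -/
noncomputable def post {N' : X.Modules} (m : Arr g M N) (ψ : N ⟶ N') : Arr g M N' :=
  m ≫ (Scheme.Modules.pushforward g).map ψ

theorem av_post {N' : X.Modules} (m : Arr g M N) (ψ : N ⟶ N') {U : Y.Opens} {V : X.Opens} (e : V ≤ g ⁻¹ᵁ U)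
    (s : Γ(M, U)) : av (post m ψ) e s = ap ψ V (av m e s) := by
  rw [av_def, av_def, ap_rs]
  rfl

end Basic

section Comp

/-- Composition of arrows, over any name `k` of the composite. -/
noncomputable def comp {g : X ⟶ Y} {h : Z ⟶ X} {M : Y.Modules} {N : X.Modules} {P : Z.Modules}
    (m : Arr g M N) (n : Arr h N P) (k : Z ⟶ Y) (w : h ≫ g = k) : Arr k M P :=
  mk k M P (fun U => (av n (U := g ⁻¹ᵁ U) (V := k ⁻¹ᵁ U) (by subst w; exact le_rfl)).comp (av m le_rfl))
    (by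
      intro U a s
      subst w
      rw [AddMonoidHom.comp_apply, AddMonoidHom.comp_apply, av_smul, av_smul]
      congr 1
      have h3 := Scheme.Hom.appLE_comp_appLE h g U (g ⁻¹ᵁ U) ((h ≫ g) ⁻¹ᵁ U) le_rfl le_rfl
      exact congrArg (fun φ => φ.hom a) (h3.trans (Scheme.Hom.appLE_eq_app (h ≫ g))))
    (by
      intro U V e s
      subst w
      rw [AddMonoidHom.comp_apply, AddMonoidHom.comp_apply, av_rs, rs_av, ← rs_av m le_rfl (g.preimage_mono e), av_rs])

theorem av_comp {g : X ⟶ Y} {h : Z ⟶ X} {M : Y.Modules} {N : X.Modules} {P : Z.Modules}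
    (m : Arr g M N) (n : Arr h N P) (k : Z ⟶ Y) (w : h ≫ g = k) {U : Y.Opens} {V : X.Opens} {V' : Z.Opens}
    (e : V ≤ g ⁻¹ᵁ U) (e' : V' ≤ h ⁻¹ᵁ V) (e'' : V' ≤ k ⁻¹ᵁ U) (s : Γ(M, U)) :
    av (comp m n k w) e'' s = av n e' (av m e s) := by
  rw [comp, av_mk, AddMonoidHom.comp_apply, rs_av, ← rs_av m le_rfl e, av_rs]

/-- The identity arrow. -/
noncomputable def idA (M : X.Modules) : Arr (𝟙 X) M M := (Scheme.Modules.pushforwardId X).inv.app M

theorem av_idA (M : X.Modules) {U V : X.Opens} (e : V ≤ (𝟙 X) ⁻¹ᵁ U) (s : Γ(M, U)) :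
    av (idA M) e s = rs M e s := rfl

/-- Transport of an arrow along an equality of morphisms. -/
noncomputable def congr {g g' : X ⟶ Y} {M : Y.Modules} {N : X.Modules} (m : Arr g M N) (h : g = g') :
    Arr g' M N := h ▸ m

theorem av_congrA {g g' : X ⟶ Y} {M : Y.Modules} {N : X.Modules} (m : Arr g M N) (h : g = g')
    {U : Y.Opens} {V : X.Opens} (e : V ≤ g' ⁻¹ᵁ U) (s : Γ(M, U)) :
    av (congr m h) e s = av m (h ▸ e) s := by
  subst h; rfl

end Comp

section Cart

variable {g : X ⟶ Y} {M : Y.Modules} {N : X.Modules}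

/-- The morphism out of the pullback adjoint to an arrow. -/
noncomputable abbrev adjS (m : Arr g M N) : PB g M ⟶ N := (adj g).symm m

theorem ap_adjS (m : Arr g M N) {U : Y.Opens} {V : X.Opens} (e : V ≤ g ⁻¹ᵁ U) (s : Γ(M, U)) :
    ap (adjS m) V (sc g M e s) = av m e s := ap_adj_symm g m e s

/-- The arrow is cartesian: its adjoint is an isomorphism. -/
def IsCart (m : Arr g M N) : Prop := IsIso (adjS m)

/-- The canonical arrow to the pullback. -/
noncomputable def pb (g : X ⟶ Y) (M : Y.Modules) : Arr g M (PB g M) := adj g (𝟙 _)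

theorem av_pb {U : Y.Opens} {V : X.Opens} (e : V ≤ g ⁻¹ᵁ U) (s : Γ(M, U)) :
    av (pb g M) e s = sc g M e s := by
  rw [← ap_adjS, pb, adjS, Equiv.symm_apply_apply, ap_id]

theorem isCart_pb (g : X ⟶ Y) (M : Y.Modules) : IsCart (pb g M) := by
  have : adjS (pb g M) = 𝟙 _ := (adj g).symm_apply_apply _
  unfold IsCart
  rw [this]
  infer_instance

theorem isCart_post {N' : X.Modules} {m : Arr g M N} (hm : IsCart m) (ψ : N ⟶ N') [IsIso ψ] :
    IsCart (post m ψ) := by
  have h1 : adjS (post m ψ) = adjS m ≫ ψ := by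
    apply hom_ext g
    intro U s
    rw [ap_adjS, av_post, ap_comp, ap_adjS]
  unfold IsCart at *
  rw [h1]
  infer_instance

theorem isIso_of_isCart_post {N' : X.Modules} {m : Arr g M N} (hm : IsCart m) {ψ : N ⟶ N'}
    (h : IsCart (post m ψ)) : IsIso ψ := by
  have h1 : adjS (post m ψ) = adjS m ≫ ψ := by
    apply hom_ext g
    intro U s
    rw [ap_adjS, av_post, ap_comp, ap_adjS]
  unfold IsCart at *
  rw [h1] at h
  exact IsIso.of_isIso_comp_left (adjS m) ψ

theorem isCart_pre {M' : Y.Modules} {m : Arr g M N} (hm : IsCart m) (φ : M' ⟶ M) [IsIso φ] :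
    IsCart (g := g) (N := N) (φ ≫ m) := by
  have h1 : adjS (g := g) (N := N) (φ ≫ m) = PBmap g φ ≫ adjS m := by
    apply hom_ext g
    intro U s
    rw [ap_adjS, av_pre, ap_comp, map_sc, ap_adjS]
  unfold IsCart at *
  rw [h1]
  infer_instance

/-- Factorisation of `n` through the cartesian arrow `m`. -/
noncomputable def lift {h : Z ⟶ X} {k : Z ⟶ Y} {P : Z.Modules} (m : Arr g M N) (hm : IsCart m) (n : Arr k M P)
    (w : h ≫ g = k) : Arr h N P :=
  adj h (PBmap h (@inv _ _ _ _ (adjS m) hm) ≫ cmpInv h g k w M ≫ adjS n)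

theorem av_lift {h : Z ⟶ X} {k : Z ⟶ Y} {P : Z.Modules} (m : Arr g M N) (hm : IsCart m) (n : Arr k M P)
    (w : h ≫ g = k) {U : Y.Opens} {V : X.Opens} {V' : Z.Opens}
    (e : V ≤ g ⁻¹ᵁ U) (e' : V' ≤ h ⁻¹ᵁ V) (e'' : V' ≤ k ⁻¹ᵁ U) (s : Γ(M, U)) :
    av (lift m hm n w) e' (av m e s) = av n e'' s := by
  have : IsIso (adjS m) := hm
  rw [← ap_adjS (lift m hm n w), lift, adjS, Equiv.symm_apply_apply, ap_comp, ap_comp, map_sc, ← ap_adjS m e s,
    ap_inv, cmpInv_sc h g k w M e e' e'', ap_adjS]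

/-- Arrows out of the target of a cartesian arrow are determined by their composites. -/
theorem cart_ext {h : Z ⟶ X} {P : Z.Modules} {m : Arr g M N} (hm : IsCart m) {a b : Arr h N P}
    (H : ∀ (U : Y.Opens) (s : Γ(M, U)),
      av a (le_refl (h ⁻¹ᵁ (g ⁻¹ᵁ U))) (av m (le_refl (g ⁻¹ᵁ U)) s) =
        av b (le_refl (h ⁻¹ᵁ (g ⁻¹ᵁ U))) (av m (le_refl (g ⁻¹ᵁ U)) s)) : a = b := by
  have : IsIso (adjS m) := hm
  apply (adj h).symm.injective
  rw [← cancel_epi (PBmap h (adjS m))]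
  apply hom_ext₂ h g
  intro U s
  have e1 : ap (adjS m) (g ⁻¹ᵁ U) (sc g M le_rfl s) = av m (le_refl (g ⁻¹ᵁ U)) s := ap_adjS m le_rfl s
  rw [ap_comp, ap_comp, map_sc, e1]
  exact (ap_adjS a le_rfl _).trans ((H U s).trans (ap_adjS b le_rfl _).symm)

/-- Morphisms out of the target of a cartesian arrow are determined by their composites. -/
theorem cart_hom_ext {P : X.Modules} {m : Arr g M N} (hm : IsCart m) {a b : N ⟶ P}
    (H : ∀ (U : Y.Opens) (s : Γ(M, U)), ap a (g ⁻¹ᵁ U) (av m (le_refl (g ⁻¹ᵁ U)) s) =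
        ap b (g ⁻¹ᵁ U) (av m (le_refl (g ⁻¹ᵁ U)) s)) : a = b := by
  have : IsIso (adjS m) := hm
  rw [← cancel_epi (adjS m)]
  apply hom_ext g
  intro U s
  rw [ap_comp, ap_comp, ap_adjS]
  exact H U s

/-- Cartesian arrows over the same morphism with the same source have isomorphic targets. -/
noncomputable def liftHom {P : X.Modules} (m : Arr g M N) (hm : IsCart m) (n : Arr g M P) : N ⟶ P :=
  @inv _ _ _ _ (adjS m) hm ≫ adjS n

theorem ap_liftHom {P : X.Modules} (m : Arr g M N) (hm : IsCart m) (n : Arr g M P) {U : Y.Opens} {V : X.Opens}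
    (e : V ≤ g ⁻¹ᵁ U) (s : Γ(M, U)) : ap (liftHom m hm n) V (av m e s) = av n e s := by
  have : IsIso (adjS m) := hm
  rw [liftHom, ap_comp, ← ap_adjS m e s, ap_inv, ap_adjS]

theorem isIso_liftHom {P : X.Modules} (m : Arr g M N) (hm : IsCart m) (n : Arr g M P) (hn : IsCart n) :
    IsIso (liftHom m hm n) := by
  have : IsIso (adjS m) := hm
  have : IsIso (adjS n) := hn
  unfold liftHom
  infer_instance

theorem adjS_comp {h : Z ⟶ X} {P : Z.Modules} (m : Arr g M N) (n : Arr h N P) (k : Z ⟶ Y) (w : h ≫ g = k) :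
    adjS (comp m n k w) = cmp h g k w M ≫ PBmap h (adjS m) ≫ adjS n := by
  rw [← cancel_epi (cmpInv h g k w M), cmpInv_cmp_assoc]
  subst w
  apply hom_ext₂ h g
  intro U s
  have e1 := cmpInv_sc h g (h ≫ g) rfl M (U := U) (V := g ⁻¹ᵁ U) (T := h ⁻¹ᵁ (g ⁻¹ᵁ U)) le_rfl le_rfl le_rfl s
  rw [ap_comp, e1, ap_comp, map_sc]
  have e2 : ap (adjS m) (g ⁻¹ᵁ U) (sc g M le_rfl s) = av m (le_refl (g ⁻¹ᵁ U)) s := ap_adjS m le_rfl s
  have e3 : ap (adjS (comp m n (h ≫ g) rfl)) (h ⁻¹ᵁ (g ⁻¹ᵁ U)) (sc (h ≫ g) M le_rfl s) =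
    av (comp m n (h ≫ g) rfl) le_rfl s := ap_adjS _ le_rfl s
  rw [e2]
  exact e3.trans ((av_comp m n (h ≫ g) rfl le_rfl le_rfl le_rfl s).trans (ap_adjS n le_rfl _).symm)

theorem isCart_comp {h : Z ⟶ X} {P : Z.Modules} {m : Arr g M N} {n : Arr h N P} (hm : IsCart m) (hn : IsCart n)
    (k : Z ⟶ Y) (w : h ≫ g = k) : IsCart (comp m n k w) := by
  have : IsIso (adjS m) := hm
  have : IsIso (adjS n) := hn
  unfold IsCart
  rw [adjS_comp]
  infer_instance

theorem isCart_of_comp {h : Z ⟶ X} {P : Z.Modules} {m : Arr g M N} {n : Arr h N P} (hm : IsCart m)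
    (k : Z ⟶ Y) (w : h ≫ g = k) (hmn : IsCart (comp m n k w)) : IsCart n := by
  have : IsIso (adjS m) := hm
  unfold IsCart at *
  rw [adjS_comp] at hmn
  have h2 : IsIso (PBmap h (adjS m) ≫ adjS n) := IsIso.of_isIso_comp_left (cmp h g k w M) _
  exact IsIso.of_isIso_comp_left (PBmap h (adjS m)) _

/-- Pushforward along an isomorphism is an equivalence. -/
theorem isEquivalence_pushforward (f : X ⟶ Y) [IsIso f] : (Scheme.Modules.pushforward f).IsEquivalence := by
  let e : X.Modules ≌ Y.Modules :=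
    CategoryTheory.Equivalence.mk (Scheme.Modules.pushforward f) (Scheme.Modules.pushforward (inv f))
      ((Scheme.Modules.pushforwardId X).symm ≪≫
        Scheme.Modules.pushforwardCongr (IsIso.hom_inv_id f).symm ≪≫
        (Scheme.Modules.pushforwardComp f (inv f)).symm)
      ((Scheme.Modules.pushforwardComp (inv f) f) ≪≫
        Scheme.Modules.pushforwardCongr (IsIso.inv_hom_id f) ≪≫ Scheme.Modules.pushforwardId Y)
  exact inferInstanceAs e.functor.IsEquivalence

/-- An arrow over an isomorphism which is an isomorphism is cartesian. -/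
theorem isCart_of_isIso [IsIso g] (m : Arr g M N) [IsIso m] : IsCart m := by
  have := isEquivalence_pushforward g
  have h1 : adjS m = PBmap g m ≫ (Scheme.Modules.pullbackPushforwardAdjunction g).counit.app N := rfl
  unfold IsCart
  rw [h1]
  infer_instance

theorem isCart_idA (M : X.Modules) : IsCart (idA M) := by
  have : IsIso (idA M) := by unfold idA; infer_instance
  exact isCart_of_isIso (idA M)

end Cart

end K799.Arr
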