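import Groth.Prelude.Def_QuotSh
import Groth.Prelude.Def_FibCat2
import Mathlib.AlgebraicGeometry.Sites.Fpqc
import Mathlib.CategoryTheory.Sites.PrecoverageToGrothendieck

/-!
# fppf covering sieves of schemes over `S` and small families

* `exists_family`: a covering sieve of `QuotSh.J Scheme.fppfPrecoverage S` contains a family of flat morphisms locally of
  finite presentation, indexed by the points of the target, jointly surjective.
* `mem_J`: conversely such families generate covering sieves.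
* `mem_fpqc`: the underlying family of schemes is in Mathlib's fpqc precoverage.
* `exists_lifts`: the same with lifts to a category fibred in groupoids.
-/

set_option autoImplicit false

universe t v' w' v w u

open CategoryTheory CategoryTheory.Limits AlgebraicGeometry Opposite TopologicalSpace

namespace K799.Cover

/-- The topology. -/
abbrev J (S : Scheme.{u}) : GrothendieckTopology (Over S) := QuotSh.J Scheme.fppfPrecoverage S

/-- Flat and locally of finite presentation. -/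
abbrev FP {X Y : Scheme.{u}} (f : X ⟶ Y) : Prop := Flat f ∧ LocallyOfFinitePresentation f

theorem hasIsos : Scheme.fppfPrecoverage.{u}.HasIsos := by
  have hid : (@Flat ⊓ @LocallyOfFinitePresentation : MorphismProperty Scheme.{u}).ContainsIdentities :=
    ⟨fun X => ⟨inferInstanceAs (Flat (𝟙 X)), inferInstanceAs (LocallyOfFinitePresentation (𝟙 X))⟩⟩
  exact inferInstanceAs ((Scheme.precoverage (@Flat ⊓ @LocallyOfFinitePresentation)).HasIsos)

theorem exists_family {S : Scheme.{u}} {U : Over S} {R : Sieve U} (hR : R ∈ J S U) :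
    ∃ (V : U.left → Over S) (f : ∀ i, V i ⟶ U), ∀ i : U.left, R (f i) ∧ FP (f i).left ∧
      i ∈ Set.range (f i).left.base := by
  have := hasIsos.{u}
  rw [GrothendieckTopology.mem_over_iff, Precoverage.mem_toGrothendieck_iff_of_isStableUnderComposition] at hR
  obtain ⟨R', hR', hle⟩ := hR
  obtain ⟨ι, Y, f, rfl⟩ := R'.exists_eq_ofArrows
  rw [Scheme.fppfPrecoverage, Scheme.ofArrows_mem_precoverage_iff] at hR'
  choose j hj using hR'.1
  refine ⟨fun i => Over.mk (f (j i) ≫ U.hom), fun i => Over.homMk (f (j i)), fun i => ⟨?_, ⟨?_, ?_⟩, ?_⟩⟩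
  · have h1 := hle _ _ ⟨j i⟩
    rw [Sieve.overEquiv_iff] at h1
    exact h1
  · exact (hR'.2 (j i)).1
  · exact (hR'.2 (j i)).2
  · exact hj i

theorem mem_fppf {X : Scheme.{u}} {ι : Type t} (V : ι → Scheme.{u}) (f : ∀ i, V i ⟶ X) (h : ∀ i, FP (f i))
    (hs : ∀ x : X, ∃ i, x ∈ Set.range (f i).base) :
    Presieve.ofArrows V f ∈ Scheme.fppfPrecoverage X := by
  rw [Scheme.fppfPrecoverage, Scheme.ofArrows_mem_precoverage_iff]
  exact ⟨fun x => hs x, fun i => ⟨(h i).1, (h i).2⟩⟩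

theorem mem_fpqc {X : Scheme.{u}} {ι : Type t} (V : ι → Scheme.{u}) (f : ∀ i, V i ⟶ X) (h : ∀ i, FP (f i))
    (hs : ∀ x : X, ∃ i, x ∈ Set.range (f i).base) :
    Presieve.ofArrows V f ∈ Scheme.fpqcPrecoverage X :=
  Scheme.fppfPrecoverage_le_fpqcPrecoverage _ (mem_fppf V f h hs)

theorem mem_J {S : Scheme.{u}} {U : Over S} {ι : Type t} (V : ι → Over S) (f : ∀ i, V i ⟶ U)
    (h : ∀ i, FP (f i).left) (hs : ∀ x : U.left, ∃ i, x ∈ Set.range (f i).left.base) :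
    Sieve.ofArrows V f ∈ J S U := by
  rw [GrothendieckTopology.mem_over_iff]
  refine GrothendieckTopology.superset_covering _ ?_
    (Precoverage.generate_mem_toGrothendieck (mem_fppf (fun i => (V i).left) (fun i => (f i).left) h hs))
  rintro W g ⟨Z, a, b, ⟨i⟩, rfl⟩
  rw [Sieve.overEquiv_iff]
  exact ⟨V i, Over.homMk a, f i, ⟨i⟩, by ext; simp⟩

theorem mem_J_single {S : Scheme.{u}} {U V : Over S} (f : V ⟶ U) [Flat f.left] [LocallyOfFinitePresentation f.left]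
    [Surjective f.left] : Sieve.ofArrows (fun _ : PUnit.{1} => V) (fun _ => f) ∈ J S U :=
  mem_J _ _ (fun _ => ⟨inferInstance, inferInstance⟩) (fun x => ⟨PUnit.unit, f.left.surjective x⟩)

section Lifts

variable {S : Scheme.{u}} {𝒳 : BasedCategory.{v, w} (Over S)}

/-- In a category fibred in groupoids, lifts with prescribed target. -/
theorem exists_lift [h : FibCat.IsFibGrpd 𝒳.p] {y : 𝒳.obj} {V : Over S} (f : V ⟶ 𝒳.p.obj y) :
    ∃ (x : 𝒳.obj) (φ : x ⟶ y) (e : 𝒳.p.obj x = V), 𝒳.p.map φ = eqToHom e ≫ f := by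
  obtain ⟨x, φ, hφ⟩ := h.exists_lift f
  refine ⟨x, φ, IsHomLift.domain_eq 𝒳.p f φ, ?_⟩
  simpa using IsHomLift.fac' 𝒳.p f φ

/-- The universal property of the morphisms of a category fibred in groupoids. -/
theorem existsUnique_fac [h : FibCat.IsFibGrpd 𝒳.p] {x y z : 𝒳.obj} (φ : x ⟶ y) (ψ : z ⟶ y)
    (g : 𝒳.p.obj z ⟶ 𝒳.p.obj x) (w : g ≫ 𝒳.p.map φ = 𝒳.p.map ψ) :
    ∃! χ : z ⟶ x, 𝒳.p.map χ = g ∧ χ ≫ φ = ψ := by
  have hc := h.isStronglyCartesian φ
  have hl : 𝒳.p.IsHomLift (g ≫ 𝒳.p.map φ) ψ := by rw [w]; exact IsHomLift.map 𝒳.p ψ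
  obtain ⟨χ, ⟨hχ, hfac⟩, hu⟩ := hc.universal_property' g ψ
  refine ⟨χ, ⟨?_, hfac⟩, ?_⟩
  · simpa using IsHomLift.fac' 𝒳.p g χ
  · rintro χ' ⟨h1, h2⟩
    exact hu χ' ⟨by rw [← h1]; exact IsHomLift.map 𝒳.p χ', h2⟩

theorem exists_fac [FibCat.IsFibGrpd 𝒳.p] {x y z : 𝒳.obj} (φ : x ⟶ y) (ψ : z ⟶ y)
    (g : 𝒳.p.obj z ⟶ 𝒳.p.obj x) (w : g ≫ 𝒳.p.map φ = 𝒳.p.map ψ) :
    ∃ χ : z ⟶ x, 𝒳.p.map χ = g ∧ χ ≫ φ = ψ := (existsUnique_fac φ ψ g w).exists

theorem fac_unique [FibCat.IsFibGrpd 𝒳.p] {x y z : 𝒳.obj} (φ : x ⟶ y) (χ χ' : z ⟶ x)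
    (h : 𝒳.p.map χ = 𝒳.p.map χ') (h' : χ ≫ φ = χ' ≫ φ) : χ = χ' :=
  (existsUnique_fac φ (χ' ≫ φ) (𝒳.p.map χ') (by simp)).unique ⟨h, h'⟩ ⟨rfl, rfl⟩

theorem isIso_of_isIso_map [FibCat.IsFibGrpd 𝒳.p] {x y : 𝒳.obj} (φ : x ⟶ y) [hi : IsIso (𝒳.p.map φ)] :
    IsIso φ := by
  obtain ⟨χ, h1, h2⟩ := exists_fac φ (𝟙 y) (inv (𝒳.p.map φ)) (by simp)
  refine ⟨χ, ?_, h2⟩
  apply fac_unique φ
  · simp [h1]
  · simp [h2]

theorem exists_lifts [FibCat.IsFibGrpd 𝒳.p] {y : 𝒳.obj} {R : Sieve (𝒳.p.obj y)} (hR : R ∈ J S (𝒳.p.obj y)) :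
    ∃ (x : (𝒳.p.obj y).left → 𝒳.obj) (φ : ∀ i, x i ⟶ y), ∀ i : (𝒳.p.obj y).left, R (𝒳.p.map (φ i)) ∧
      FP (𝒳.p.map (φ i)).left ∧ i ∈ Set.range (𝒳.p.map (φ i)).left.base := by
  obtain ⟨V, f, hf⟩ := exists_family hR
  choose x φ e h using fun i => exists_lift (𝒳 := 𝒳) (f i)
  have key : ∀ {A B : Over S} (e : A = B) (f : B ⟶ 𝒳.p.obj y) (i : (𝒳.p.obj y).left),
      R f ∧ FP f.left ∧ i ∈ Set.range f.left.base →
      R (eqToHom e ≫ f) ∧ FP (eqToHom e ≫ f).left ∧ i ∈ Set.range (eqToHom e ≫ f).left.base := by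
    intro A B e f i hf
    subst e
    simpa using hf
  exact ⟨x, φ, fun i => by rw [h i]; exact key (e i) (f i) i (hf i)⟩

end Lifts

end K799.Cover
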