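import Groth.Agent.TwSh.K799.Vert
import Groth.Agent.Desc.QDBridge
import Groth.Agent.S1130

/-!
# Effective fpqc descent in terms of arrows
-/

set_option autoImplicit false
set_option backward.isDefEq.respectTransparency false
set_option backward.isDefEq.respectTransparency.types false

universe t v' w' v w u

open CategoryTheory CategoryTheory.Limits AlgebraicGeometry Opposite TopologicalSpace
open Groth.Agent.Desc.QD
open K799.Arr

namespace K799.Arr

variable {X Y Z W T : Scheme.{u}}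

theorem adjS_inj {g : X ⟶ Y} {M : Y.Modules} {N : X.Modules} {m m' : Arr g M N} (h : adjS m = adjS m') : m = m' :=
  (adj g).symm.injective h

theorem adjS_post {g : X ⟶ Y} {M : Y.Modules} {N N' : X.Modules} (m : Arr g M N) (ψ : N ⟶ N') :
    adjS (post m ψ) = adjS m ≫ ψ := by
  apply hom_ext g
  intro U s
  rw [ap_adjS, av_post, ap_comp, ap_adjS]

theorem adjS_pb (g : X ⟶ Y) (M : Y.Modules) : adjS (pb g M) = 𝟙 _ := (adj g).symm_apply_apply _

theorem adjS_lift_pb {h : Z ⟶ X} {g : X ⟶ Y} (k : Z ⟶ Y) (w : h ≫ g = k) (M : Y.Modules) :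
    adjS (lift (pb g M) (isCart_pb g M) (pb k M) w) = cmpInv h g k w M := by
  have h1 := adjS_comp (pb g M) (lift (pb g M) (isCart_pb g M) (pb k M) w) k w
  rw [comp_lift, adjS_pb, adjS_pb] at h1
  have h2 : PBmap h (𝟙 (PB g M)) = 𝟙 _ := (Scheme.Modules.pullback h).map_id _
  rw [h2, Category.id_comp] at h1
  rw [← cancel_epi (cmp h g k w M), ← h1, cmp_cmpInv]

/-- **Effective descent** for quasi-coherent modules along fpqc families, in terms of arrows. -/
theorem exists_of_descent {ι : Type u} {F : ι → Scheme.{u}} (f : ∀ i, F i ⟶ T)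
    (hf : Presieve.ofArrows F f ∈ Scheme.fpqcPrecoverage T) (N : ∀ i, (F i).Modules) (hN : ∀ i, Coh.IsQCoh (N i))
    (Θ : ∀ (Z : Scheme.{u}) (i j : ι) (gi : Z ⟶ F i) (gj : Z ⟶ F j), gi ≫ f i = gj ≫ f j →
      Arr gi (N i) (PB gj (N j)))
    (H1 : ∀ (Z Z' : Scheme.{u}) (g : Z' ⟶ Z) (i j : ι) (gi : Z ⟶ F i) (gj : Z ⟶ F j) (w : gi ≫ f i = gj ≫ f j)
      (w' : (g ≫ gi) ≫ f i = (g ≫ gj) ≫ f j),
      comp (Θ Z i j gi gj w) (lift (pb gj (N j)) (isCart_pb _ _) (pb (g ≫ gj) (N j)) rfl) (g ≫ gi) rfl =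
        Θ Z' i j (g ≫ gi) (g ≫ gj) w')
    (H2 : ∀ (Z : Scheme.{u}) (i : ι) (gi : Z ⟶ F i), Θ Z i i gi gi rfl = pb gi (N i))
    (H3 : ∀ (Z : Scheme.{u}) (i j k : ι) (gi : Z ⟶ F i) (gj : Z ⟶ F j) (gk : Z ⟶ F k) (w : gi ≫ f i = gj ≫ f j)
      (w' : gj ≫ f j = gk ≫ f k), post (Θ Z i j gi gj w) (adjS (Θ Z j k gj gk w')) = Θ Z i k gi gk (w.trans w')) :
    ∃ (N₀ : T.Modules) (b : ∀ i, Arr (f i) N₀ (N i)), Coh.IsQCoh N₀ ∧ (∀ i, IsCart (b i)) ∧
      ∀ (Z : Scheme.{u}) (i j : ι) (gi : Z ⟶ F i) (gj : Z ⟶ F j) (c : Z ⟶ T) (wi : gi ≫ f i = c) (wj : gj ≫ f j = c)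
        (w : gi ≫ f i = gj ≫ f j), comp (b i) (Θ Z i j gi gj w) c wi = comp (b j) (pb gj (N j)) c wj := by
  let D : _root_.Desc.modPF.{u}.DescentData f :=
    { obj := fun i => N i
      hom := fun Z q i j gi gj hi hj => adjS (Θ Z i j gi gj (hi.trans hj.symm))
      pullHom_hom := by
        intro Z' Z g q q' hq i j gi gj hi hj gi' gj' hgi hgj
        subst hgi; subst hgj
        have h1 := H1 Z Z' g i j gi gj (hi.trans hj.symm) (by rw [Category.assoc, Category.assoc, hi, hj])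
        have h2 : adjS (Θ Z' i j (g ≫ gi) (g ≫ gj) (by rw [Category.assoc, Category.assoc, hi, hj])) =
            cmp g gi (g ≫ gi) rfl (N i) ≫ PBmap g (adjS (Θ Z i j gi gj (hi.trans hj.symm))) ≫
              cmpInv g gj (g ≫ gj) rfl (N j) := by
          rw [← h1, adjS_comp, adjS_lift_pb]
        refine Eq.trans ?_ h2.symm
        rw [Pseudofunctor.LocallyDiscreteOpToCat.pullHom]
        refine congrArg₂ (fun z z' => z ≫ PBmap g (adjS (Θ Z i j gi gj (hi.trans hj.symm))) ≫ z')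
          (modPF_mapComp' gi g (g ≫ gi) rfl _ (N i)) (modPF_mapComp'_inv gj g (g ≫ gj) rfl _ (N j))
      hom_self := by
        intro Z q i g hg
        have h1 := H2 Z i g
        have h2 : adjS (Θ Z i i g g rfl) = 𝟙 _ := by rw [h1, adjS_pb]
        exact h2
      hom_comp := by
        intro Z q i j k gi gj gk hi hj hk
        have h1 := H3 Z i j k gi gj gk (hi.trans hj.symm) (hj.trans hk.symm)
        have h2 := congrArg adjS h1
        rw [adjS_post] at h2
        exact h2 }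
  obtain ⟨M, hM, ⟨e⟩⟩ := Groth.Agent.S1130.result f hf D hN
  refine ⟨M, fun i => adj (f i) (e.hom.hom i), hM, ?_, ?_⟩
  · intro i
    unfold IsCart
    have h1 : adjS (adj (f i) (e.hom.hom i)) = e.hom.hom i := (adj (f i)).symm_apply_apply _
    rw [h1]
    have h2 : e.hom.hom i ≫ e.inv.hom i = 𝟙 _ := by
      have := congrArg (fun z => Pseudofunctor.DescentData.Hom.hom z i) e.hom_inv_id
      exact this
    have h3 : e.inv.hom i ≫ e.hom.hom i = 𝟙 _ := by
      have := congrArg (fun z => Pseudofunctor.DescentData.Hom.hom z i) e.inv_hom_id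
      exact this
    exact ⟨e.inv.hom i, h2, h3⟩
  · intro Z i j gi gj c wi wj w
    have h1 : adjS (adj (f i) (e.hom.hom i)) = e.hom.hom i := (adj (f i)).symm_apply_apply _
    have h1' : adjS (adj (f j) (e.hom.hom j)) = e.hom.hom j := (adj (f j)).symm_apply_apply _
    apply adjS_inj
    rw [adjS_comp, adjS_comp, adjS_pb, Category.comp_id, h1, h1']
    have h3 := e.hom.comm c gi gj wi wj
    have h4 : PBmap gi (e.hom.hom i) ≫ adjS (Θ Z i j gi gj w) =
        (cmpInv gi (f i) c wi M ≫ cmp gj (f j) c wj M) ≫ PBmap gj (e.hom.hom j) := by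
      refine Eq.trans h3 ?_
      refine congrArg (fun z => z ≫ _) ?_
      exact (congrArg₂ (fun z z' => z ≫ z') (modPF_mapComp'_inv (f i) gi c wi _ M)
        (modPF_mapComp' (f j) gj c wj _ M))
    rw [h4, Category.assoc, cmp_cmpInv_assoc]

end K799.Arr
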