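import Groth.Agent.TwSh.K799.SectHyp

/-!
# The restriction of a banded gerbe over an object of the base which lifts to the gerbe
-/

set_option autoImplicit false
set_option backward.isDefEq.respectTransparency false
set_option backward.isDefEq.respectTransparency.types false

universe t v' w' v w u

open CategoryTheory CategoryTheory.Limits AlgebraicGeometry Opposite TopologicalSpace
open Groth.Agent.Desc.QD
open StMod K799.Arr K799.StM K799.Cover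

namespace K799.Sect

variable {S : Scheme.{u}} {𝒳 : BasedCategory.{v, w} (Over S)} {𝒴 : BasedCategory.{v', w'} (Over S)}
  (π : 𝒳 ⥤ᵇ 𝒴)

theorem isFibGrpd_fibCat (hX : FibCat.IsFibGrpd 𝒳.p) (η : 𝒴.obj) : FibCat.IsFibGrpd (fibCat π η).p := by
  refine isFibGrpd_mk (fun {x} {V} f => ?_) (fun {x y z} φ ψ g w => ?_)
  · obtain ⟨y, φ, hφ⟩ := hX.exists_lift (x := x.left) f
    refine ⟨CostructuredArrow.mk (π.map φ ≫ x.hom), CostructuredArrow.homMk φ rfl, ?_⟩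
    have e : 𝒳.p.obj y = V := IsHomLift.domain_eq 𝒳.p f φ
    have h1 := map_eq_of_isHomLift (𝒳 := 𝒳) f φ hφ e rfl
    exact isHomLift_of_map_eq (𝒳 := fibCat π η) f _ e rfl h1
  · obtain ⟨χ, ⟨h1, h2⟩, hu⟩ := existsUnique_fac (𝒳 := 𝒳) φ.left ψ.left g w
    have e1 : π.map φ.left ≫ y.hom = x.hom := CostructuredArrow.w φ
    have e2 : π.map ψ.left ≫ y.hom = z.hom := CostructuredArrow.w ψ
    have e3 : π.map χ ≫ x.hom = z.hom := by
      have e4 : π.map (χ ≫ φ.left) = π.map χ ≫ π.map φ.left := π.toFunctor.map_comp _ _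
      rw [← e1, ← Category.assoc, ← e4, h2, e2]
    refine ⟨CostructuredArrow.homMk χ e3, ⟨h1, ?_⟩, ?_⟩
    · apply CostructuredArrow.hom_ext
      exact h2
    · rintro χ' ⟨h3, h4⟩
      apply CostructuredArrow.hom_ext
      exact hu χ'.left ⟨h3, congrArg (fun z => z.left) h4⟩

/-- The functor from the objects over `ξ₀` to the fibre category. -/
def sig (ξ₀ : 𝒳.obj) : Over ξ₀ ⥤ (fibCat π (π.obj ξ₀)).obj where
  obj x := CostructuredArrow.mk (π.map x.hom)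
  map {x y} φ := CostructuredArrow.homMk φ.left (by
    have h : π.map (φ.left ≫ y.hom) = π.map φ.left ≫ π.map y.hom := π.toFunctor.map_comp _ _
    exact h.symm.trans (congrArg (fun z => π.map z) (Over.w φ)))
  map_id x := by
    apply CostructuredArrow.hom_ext
    rfl
  map_comp φ ψ := by
    apply CostructuredArrow.hom_ext
    rfl

variable {π} {A : (Over S)ᵒᵖ ⥤ GrpCat.{u}} {ι : TwSh.BandHom 𝒳 A}

theorem hyp_sig (hX : FibCat.IsFibGrpd 𝒳.p) (hYf : FibCat.IsFibGrpd 𝒴.p)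
    (hY : ∀ {y' y : 𝒴.obj} (h h' : y' ⟶ y), 𝒴.p.map h = 𝒴.p.map h' → h = h')
    (hπ : TwSh.IsBandedGerbe (Cover.J S) π ι) (ξ₀ : 𝒳.obj) :
    Hyp (𝒳 := fibCat π (π.obj ξ₀)) (TwSh.BandHom.fib π (π.obj ξ₀) ι hπ.map_hom_eq_id) (sig π ξ₀) := by
  refine ⟨isFibGrpd_fibCat π hX _, ?_, ?_, ?_, ?_, ?_⟩
  · refine isFibGrpd_mk (fun {x} {V} f => ?_) (fun {x y z} φ ψ g w => ?_)
    · obtain ⟨y, φ, hφ⟩ := hX.exists_lift (x := x.left) f
      refine ⟨Over.mk (φ ≫ x.hom), Over.homMk φ rfl, ?_⟩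
      have e : 𝒳.p.obj y = V := IsHomLift.domain_eq 𝒳.p f φ
      have h1 := map_eq_of_isHomLift (𝒳 := 𝒳) f φ hφ e rfl
      exact isHomLift_of_map_eq (𝒳 := TT (𝒳 := fibCat π (π.obj ξ₀)) (sig π ξ₀)) f _ e rfl h1
    · obtain ⟨χ, ⟨h1, h2⟩, hu⟩ := existsUnique_fac (𝒳 := 𝒳) φ.left ψ.left g w
      refine ⟨Over.homMk χ ?_, ⟨h1, ?_⟩, ?_⟩
      · rw [← Over.w φ, ← Category.assoc, h2, Over.w ψ]
      · apply Over.OverMorphism.ext
        exact h2
      · rintro χ' ⟨h3, h4⟩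
        apply Over.OverMorphism.ext
        exact hu χ'.left ⟨h3, congrArg (fun z => z.left) h4⟩
  · intro t' t h h' e
    apply Over.OverMorphism.ext
    exact fac_unique (𝒳 := 𝒳) t.hom h.left h'.left e ((Over.w h).trans (Over.w h').symm)
  · intro ξ
    let a : 𝒳.p.obj ξ.left ⟶ 𝒳.p.obj ξ₀ :=
      eqToHom (π.w_obj ξ.left).symm ≫ 𝒴.p.map ξ.hom ≫ eqToHom (π.w_obj ξ₀)
    obtain ⟨ξ₁, l, e₁, hl⟩ := exists_lift (𝒳 := 𝒳) a
    have e2 : 𝒴.p.obj (π.obj ξ.left) = 𝒴.p.obj (π.obj ξ₁) := (π.w_obj _).trans (e₁.symm.trans (π.w_obj _).symm)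
    obtain ⟨b, hb1, hb2⟩ := exists_fac (𝒳 := 𝒴) (π.map l) ξ.hom (eqToHom e2) (by
      rw [p_map_map, hl]
      simp [a])
    have hb : 𝒴.p.IsHomLift (𝟙 (𝒳.p.obj ξ.left)) b := by
      refine isHomLift_of_map_eq (𝒳 := 𝒴) _ b (π.w_obj _) (e2.symm.trans (π.w_obj _)).symm ?_
      rw [hb1]
      simp
    obtain ⟨R, hR, H⟩ := hπ.1.2 ξ.left ξ₁ b hb
    refine ⟨R, hR, fun V f hf => ?_⟩
    obtain ⟨x₀, φ, ψ, h1, h2, h3⟩ := H f hf
    have h4 : π.map φ ≫ ξ.hom = π.map (ψ ≫ l) := by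
      have h5 : π.map (ψ ≫ l) = π.map ψ ≫ π.map l := π.toFunctor.map_comp _ _
      rw [h5, ← h3, Category.assoc, hb2]
    refine ⟨Over.mk (ψ ≫ l), CostructuredArrow.homMk φ h4, ?_⟩
    have e : 𝒳.p.obj x₀ = V := IsHomLift.domain_eq 𝒳.p f φ
    have h6 := map_eq_of_isHomLift (𝒳 := 𝒳) f φ h1 e rfl
    exact isHomLift_of_map_eq (𝒳 := fibCat π (π.obj ξ₀)) f _ e rfl h6
  · intro t' t φ
    have hw : π.map φ.left ≫ π.map t.hom = π.map t'.hom := CostructuredArrow.w φ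
    have hw2 : π.map (φ.left ≫ t.hom) = π.map t'.hom := (π.toFunctor.map_comp φ.left t.hom).trans hw
    have hw3 : 𝒳.p.map (φ.left ≫ t.hom) = 𝒳.p.map t'.hom := by
      rw [← p_map_eq_iff π, hw2]
    rw [Functor.map_comp] at hw3
    obtain ⟨h, h1, h2⟩ := exists_fac (𝒳 := 𝒳) t.hom t'.hom (𝒳.p.map φ.left) hw3
    obtain ⟨a, ha⟩ := exists_band π hX hY hπ φ.left h h1.symm
    refine ⟨a, Over.homMk h h2, ?_⟩
    apply CostructuredArrow.hom_ext
    exact ha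
  · intro t a a' h
    apply (hπ.2 t.left).1
    apply Aut.ext
    apply Functor.Fiber.hom_ext
    exact congrArg (fun z : Gerb.AutO (𝒳 := fibCat π (π.obj ξ₀)) _ => z.hom.1.left) h

end K799.Sect
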