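import Mathlib.AlgebraicGeometry.Fiber
import Mathlib.AlgebraicGeometry.Morphisms.Finite
import Mathlib.AlgebraicGeometry.Morphisms.ClosedImmersion
import Mathlib.AlgebraicGeometry.Noetherian
import Mathlib.AlgebraicGeometry.AlgClosed.Basic

/-!
# Points with values in finite extensions above a closed point
-/

set_option autoImplicit false
set_option backward.isDefEq.respectTransparency.types false

universe u

open CategoryTheory CategoryTheory.Limits AlgebraicGeometry Opposite TopologicalSpace

namespace K799.FinPt

theorem residueFieldMap_finite {k : Type u} [Field k] {X : Scheme.{u}}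
    (f : X ⟶ Spec (CommRingCat.of k)) [LocallyOfFiniteType f] (x : X) (hx : IsClosed ({x} : Set X)) :
    (f.residueFieldMap x).hom.Finite := by
  have : JacobsonSpace X := LocallyOfFiniteType.jacobsonSpace f
  have h1 : LocallyOfFiniteType (X.fromSpecResidueField x) :=
    isClosed_singleton_iff_locallyOfFiniteType.mp hx
  have h2 : LocallyOfFiniteType (Spec.map (f.residueFieldMap x) ≫
      (Spec (CommRingCat.of k)).fromSpecResidueField (f x)) := by
    rw [Scheme.Hom.SpecMap_residueFieldMap_fromSpecResidueField]
    infer_instance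
  have h3 : LocallyOfFiniteType (Spec.map (f.residueFieldMap x)) := locallyOfFiniteType_of_comp _
    ((Spec (CommRingCat.of k)).fromSpecResidueField (f x))
  rw [HasRingHomProperty.Spec_iff (P := @LocallyOfFiniteType)] at h3
  algebraize [(f.residueFieldMap x).hom]
  exact finite_of_finite_type_of_isJacobsonRing ((Spec (CommRingCat.of k)).residueField (f x))
    (X.residueField x)

theorem isFinite_point {k : Type u} [Field k] {U : Scheme.{u}} (h : U ⟶ Spec (CommRingCat.of k))
    [LocallyOfFiniteType h] (p : U) (hp : IsClosed ({p} : Set U)) : IsFinite (U.fromSpecResidueField p ≫ h) := by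
  rw [← Scheme.Hom.SpecMap_residueFieldMap_fromSpecResidueField]
  have h1 : IsFinite (Spec.map (h.residueFieldMap p)) := (IsFinite.SpecMap_iff _).2 (residueFieldMap_finite h p hp)
  have h2 : IsClosed ({h p} : Set (Spec (CommRingCat.of k))) := by
    have : Subsingleton (Spec (CommRingCat.of k)) := inferInstanceAs (Subsingleton (PrimeSpectrum k))
    have : ({h p} : Set (Spec (CommRingCat.of k))) = Set.univ := Set.eq_univ_of_forall fun y => Subsingleton.elim _ _
    rw [this]
    exact isClosed_univ
  have h3 : IsClosedImmersion ((Spec (CommRingCat.of k)).fromSpecResidueField (h p)) :=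
    isClosed_singleton_iff_isClosedImmersion.1 h2
  infer_instance

theorem exists_finite_point {V X : Scheme.{u}} (f : V ⟶ X) [LocallyOfFiniteType f] (x : X)
    (hx : IsClosed ({x} : Set X)) (v : V) (hv : f v = x) :
    ∃ (Z : Scheme.{u}) (g : Z ⟶ V), Nonempty Z ∧ IsFinite (g ≫ f) := by
  subst hv
  have hcl : IsClosedImmersion (X.fromSpecResidueField (f v)) := isClosed_singleton_iff_isClosedImmersion.1 hx
  obtain ⟨U, hU, hvU, -⟩ := exists_isAffineOpen_mem_and_subset (x := f.asFiber v) (U := ⊤) trivial
  have : CompactSpace U := isCompact_iff_compactSpace.1 hU.isCompact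
  obtain ⟨p, -, hp⟩ := IsClosed.exists_closed_singleton (S := (Set.univ : Set U)) isClosed_univ
    ⟨⟨f.asFiber v, hvU⟩, trivial⟩
  have hlf : LocallyOfFiniteType (f.fiberToSpecResidueField (f v)) :=
    MorphismProperty.pullback_snd _ _ inferInstance
  have hlf2 : LocallyOfFiniteType (U.ι ≫ f.fiberToSpecResidueField (f v)) := inferInstance
  have h1 : IsFinite (U.toScheme.fromSpecResidueField p ≫ (U.ι ≫ f.fiberToSpecResidueField (f v))) :=
    isFinite_point (k := X.residueField (f v)) (U.ι ≫ f.fiberToSpecResidueField (f v)) p hp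
  refine ⟨Spec (U.toScheme.residueField p), U.toScheme.fromSpecResidueField p ≫ U.ι ≫ f.fiberι (f v), ?_, ?_⟩
  · exact inferInstanceAs (Nonempty (PrimeSpectrum (U.toScheme.residueField p)))
  · have h2 : (U.toScheme.fromSpecResidueField p ≫ U.ι ≫ f.fiberι (f v)) ≫ f =
        (U.toScheme.fromSpecResidueField p ≫ (U.ι ≫ f.fiberToSpecResidueField (f v))) ≫
          X.fromSpecResidueField (f v) := by
      simp only [Category.assoc]
      rw [f.fiber_fac (f v)]
    rw [h2]
    infer_instance

end K799.FinPt
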