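import Groth.Agent.TwSh.K799.VertEx

/-!
# Descent of quasi-coherent modules along a locally surjective functor

* `comapQ_full`, `comapQ_faithful`: inverse image along `j` is fully faithful on quasi-coherent modules when `j` is
  locally surjective at all objects.
* `exists_descend`: a quasi-coherent `F` on the source whose comparison maps only depend on the image under `j` is an
  inverse image.
-/

set_option autoImplicit false
set_option backward.isDefEq.respectTransparency false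
set_option backward.isDefEq.respectTransparency.types false

universe t v' w' v w u

open CategoryTheory CategoryTheory.Limits AlgebraicGeometry Opposite TopologicalSpace
open Groth.Agent.Desc.QD
open StMod K799.Arr K799.StM K799.Cover

namespace K799.StM

variable {S : Scheme.{u}} {𝒬 : BasedCategory.{v, w} (Over S)} {𝒴 : BasedCategory.{v', w'} (Over S)}
  {j : 𝒬 ⥤ᵇ 𝒴} {y : 𝒴.obj}

theorem cart_post_cancel {X Y : Scheme.{u}} {g : X ⟶ Y} {M : Y.Modules} {N P : X.Modules} {m : Arr g M N}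
    (hm : IsCart m) {a b : N ⟶ P} (h : post m a = post m b) : a = b := by
  apply cart_hom_ext hm
  intro U s
  have h1 := av_congr h (le_refl (g ⁻¹ᵁ U)) s
  rw [av_post, av_post] at h1
  exact h1

/-- The vertex of an inverse image. -/
noncomputable def vertComap (j : 𝒬 ⥤ᵇ 𝒴) (G : Mod 𝒴) (hG : G.IsCartesian) (hQ : G.IsLocQCoh) (y : 𝒴.obj) :
    Vert j (Mod.comap j G) y where
  N := G.obj y
  qc := hQ y
  π α g hg := trA j G α g hg
  cart α g hg := isCart_trA j hG α g hg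
  comm φ α g hg h hh k w e := trA_map j G α φ g hg h hh k w e

/-- A morphism over the identity from a compatible family. -/
theorem exists_homDown (hL : ∀ y, Loc j y) {F G : QCoh 𝒴} (u : Mod.comap j F.obj ⟶ Mod.comap j G.obj) (y : 𝒴.obj) :
    ∃ a : F.obj.obj y ⟶ G.obj.obj y, ∀ (x : 𝒬.obj) (α : j.obj x ⟶ y) (g : sch 𝒬 x ⟶ sch 𝒴 y) (hg : bs j α = g),
      (show Arr g (F.obj.obj y) ((Mod.comap j G.obj).obj x) from a ≫ trA j G.obj α g hg) =
        post (trA j F.obj α g hg) (u.app x) := by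
  obtain ⟨a, ha⟩ := (vertComap j G.obj G.property.1 G.property.2 y).exists_arr (hL y) (𝟙 (sch 𝒴 y))
    (fun {x} α => bs j α) (fun α => Category.comp_id _) (M := F.obj.obj y)
    (fun {x} α => post (trA j F.obj α (bs j α) rfl) (u.app x)) (by
      intro x' x φ α h hh w
      subst hh
      change comp (post (trA j F.obj α (bs j α) rfl) (u.app x)) ((Mod.comap j G.obj).map φ rfl) _ w = _
      rw [← comp_pre, ← post_map u φ rfl, ← post_comp, trA_map])
  refine ⟨toHom a, fun x α g hg => ?_⟩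
  subst hg
  have h1 := ha x α
  rw [← ofHom_toHom a] at h1
  refine Eq.trans ?_ h1
  exact (ofHom_comp (toHom a) (trA j G.obj α (bs j α) rfl) (Category.comp_id _)).symm

theorem down_unique (hL : ∀ y, Loc j y) {G : QCoh 𝒴} {Y : Scheme.{u}} {M : Y.Modules} (y : 𝒴.obj)
    (h : sch 𝒴 y ⟶ Y) {a b : Arr h M (G.obj.obj y)}
    (H : ∀ (x : 𝒬.obj) (α : j.obj x ⟶ y) (k : sch 𝒬 x ⟶ Y) (w : bs j α ≫ h = k),
      comp a (trA j G.obj α (bs j α) rfl) k w = comp b (trA j G.obj α (bs j α) rfl) k w) : a = b :=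
  (vertComap j G.obj G.property.1 G.property.2 y).arr_unique (hL y) (fun {x} α => bs j α ≫ h) (fun _ => rfl)
    (fun x α => H x α _ rfl)

theorem down_unique' (hL : ∀ y, Loc j y) {G : QCoh 𝒴} (y : 𝒴.obj) {M : (sch 𝒴 y).Modules}
    {a b : M ⟶ G.obj.obj y} (H : ∀ (x : 𝒬.obj) (α : j.obj x ⟶ y),
      (show Arr (bs j α) M ((Mod.comap j G.obj).obj x) from a ≫ trA j G.obj α (bs j α) rfl) =
        (show Arr (bs j α) M ((Mod.comap j G.obj).obj x) from b ≫ trA j G.obj α (bs j α) rfl)) : a = b := by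
  have h1 : ofHom a = ofHom b := by
    refine down_unique hL y (𝟙 _) (fun x α k w => ?_)
    obtain rfl : bs j α = k := by rw [← w, Category.comp_id]
    exact (ofHom_comp a _ w).trans ((H x α).trans (ofHom_comp b _ w).symm)
  rw [← toHom_ofHom a, h1, toHom_ofHom]

/-- **Inverse image along `j` is faithful.** -/
theorem comapQ_faithful (hL : ∀ y, Loc j y) : (comapQ j).Faithful := by
  refine ⟨fun {F G} u v h => ?_⟩
  have h' : Mod.comapMap j u.hom = Mod.comapMap j v.hom := congrArg (fun z => z.hom) h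
  apply InducedCategory.hom_ext
  apply Mod.hom_ext
  intro y
  refine down_unique' hL y (fun x α => ?_)
  rw [← post_trA j u.hom α (bs j α) rfl, ← post_trA j v.hom α (bs j α) rfl, h']

/-- **Inverse image along `j` is full.** -/
theorem comapQ_full (hL : ∀ y, Loc j y) : (comapQ j).Full := by
  refine ⟨fun {F G} u => ?_⟩
  choose a ha using fun y => exists_homDown hL (F := F) (G := G) u.hom y
  let U : F.obj ⟶ G.obj := ⟨a, by
    intro y' y ζ g hg
    subst hg
    refine down_unique hL (G := G) y' (bmap 𝒴 ζ) (fun x α k w => ?_)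
    have e : bs j (α ≫ ζ) = k := by rw [bs_comp, w]
    have h1 := comp_pre (F.obj.map ζ rfl) (a y') (trA j G.obj α (bs j α) rfl) w
    have h2 := pre_comp (a y) (G.obj.map ζ rfl) (trA j G.obj α (bs j α) rfl) w
    refine (Eq.trans h1.symm ?_).trans h2.symm
    rw [ha y' x α (bs j α) rfl, ← post_comp, comp_trA j F.obj α ζ _ rfl _ rfl k w e,
      comp_trA j G.obj α ζ _ rfl _ rfl k w e]
    exact (ha y x (α ≫ ζ) k e).symm⟩
  refine ⟨ObjectProperty.homMk U, ?_⟩
  apply InducedCategory.hom_ext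
  apply Mod.hom_ext
  intro x
  apply cart_post_cancel (isCart_trA j F.property.1 (𝟙 (j.obj x)) (bs j (𝟙 (j.obj x))) rfl)
  have h1 := post_trA j U (𝟙 (j.obj x)) (bs j (𝟙 (j.obj x))) rfl
  exact h1.trans (ha (j.obj x) x (𝟙 _) _ rfl)

section Obj

variable {F : Mod 𝒬} (hF : F.IsCartesian) (hQ : F.IsLocQCoh) (hL : ∀ y, Loc j y) (V : ∀ y, Vert j F y)

include hL in
theorem exists_tr {y' y : 𝒴.obj} (ζ : y' ⟶ y) : ∃ a : Arr (bmap 𝒴 ζ) (V y).N (V y').N,
    ∀ (x : 𝒬.obj) (α : j.obj x ⟶ y') (k : sch 𝒬 x ⟶ sch 𝒴 y) (w : bs j α ≫ bmap 𝒴 ζ = k) (e : bs j (α ≫ ζ) = k),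
      comp a ((V y').π α _ rfl) k w = (V y).π (α ≫ ζ) k e := by
  obtain ⟨a, ha⟩ := (V y').exists_arr (hL y') (bmap 𝒴 ζ) (fun {x} α => bs j (α ≫ ζ)) (fun α => (bs_comp j α ζ).symm)
    (M := (V y).N) (fun {x} α => (V y).π (α ≫ ζ) _ rfl) (by
      intro x' x φ α h hh w
      subst hh
      have w0 : bmap 𝒬 φ ≫ bs j (α ≫ ζ) = bs j (j.map φ ≫ α ≫ ζ) := bmap_comp_bs _ _ _
      have gen : ∀ {β : j.obj x' ⟶ y} (_ : j.map φ ≫ α ≫ ζ = β) (w : bmap 𝒬 φ ≫ bs j (α ≫ ζ) = bs j β),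
          comp ((V y).π (α ≫ ζ) _ rfl) (F.map φ rfl) (bs j β) w = (V y).π β _ rfl := by
        intro β hβ w
        subst hβ
        exact (V y).comm φ (α ≫ ζ) _ rfl _ rfl _ _ rfl
      exact gen (Category.assoc _ _ _).symm w)
  refine ⟨a, fun x α k w e => ?_⟩
  subst e
  exact ha x α

/-- The transition arrow. -/
noncomputable def tr {y' y : 𝒴.obj} (ζ : y' ⟶ y) : Arr (bmap 𝒴 ζ) (V y).N (V y').N := (exists_tr hL V ζ).choose

theorem comp_tr {y' y : 𝒴.obj} (ζ : y' ⟶ y) (x : 𝒬.obj) (α : j.obj x ⟶ y') (k : sch 𝒬 x ⟶ sch 𝒴 y)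
    (w : bs j α ≫ bmap 𝒴 ζ = k) (e : bs j (α ≫ ζ) = k) :
    comp (tr hL V ζ) ((V y').π α _ rfl) k w = (V y).π (α ≫ ζ) k e :=
  (exists_tr hL V ζ).choose_spec x α k w e

include hF hQ in
theorem isCart_tr {y' y : 𝒴.obj} (ζ : y' ⟶ y) : IsCart (tr hL V ζ) := by
  obtain ⟨x, α, hα⟩ := (hL y').cov
  refine isCart_of_fpqc (fun i => bs j (α i)) hα.mem (V y).qc (V y').qc (fun i => (V y').π (α i) _ rfl)
    (fun i => (V y').cart _ _ _) _ (fun i => bs j (α i ≫ ζ)) (fun i => (bs_comp _ _ _).symm) fun i => ?_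
  rw [comp_tr hL V ζ (x i) (α i) _ _ rfl]
  exact (V y).cart _ _ _

/-- The descended module. -/
noncomputable def down : Mod 𝒴 :=
  mkMod (fun y => (V y).N) (fun ζ => tr hL V ζ) (by
    intro y U s e
    have h1 : tr hL V (𝟙 y) = Arr.congr (idA (V y).N) (bmap_id y).symm := by
      refine (V y).arr_unique (hL y) (fun {x} α => bs j α) (fun {x} α => by simp) fun x α => ?_
      have h2 : bs j (α ≫ 𝟙 y) = bs j α := by rw [Category.comp_id]
      rw [comp_tr hL V (𝟙 y) x α (bs j α) (by simp) h2]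
      have h3 : ∀ (g : sch 𝒴 y ⟶ sch 𝒴 y) (hg : 𝟙 _ = g) (w : bs j α ≫ g = bs j α),
          comp (Arr.congr (idA (V y).N) hg) ((V y).π α _ rfl) (bs j α) w = (V y).π α _ rfl := by
        intro g hg w
        subst hg
        exact idA_comp _ w
      rw [h3]
      exact (V y).congr (Category.comp_id α) _ _
    rw [h1, av_congrA, av_idA]
    exact rs_refl _ _ _) (by
    intro y'' y' y ψ φ w
    refine (V y'').arr_unique (hL y'') (fun {x} α => bs j (α ≫ ψ ≫ φ)) (fun {x} α => (bs_comp _ _ _).symm)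
      fun x α => ?_
    have e1 : bs j (α ≫ ψ) ≫ bmap 𝒴 φ = bs j (α ≫ ψ ≫ φ) := by
      rw [← bs_comp, Category.assoc]
    have e2 : bs j ((α ≫ ψ) ≫ φ) = bs j (α ≫ ψ ≫ φ) := by rw [Category.assoc]
    rw [comp_tr hL V (ψ ≫ φ) x α _ _ rfl, comp_assoc (tr hL V φ) (tr hL V ψ) _ _ w _ _ (bs j (α ≫ ψ))
      (bs_comp _ _ _).symm e1, comp_tr hL V ψ x α _ _ rfl, comp_tr hL V φ x (α ≫ ψ) _ _ e2]
    exact (V y).congr (Category.assoc _ _ _) _ _)

theorem down_obj (y : 𝒴.obj) : (down hL V).obj y = (V y).N := rfl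

theorem down_map {y' y : 𝒴.obj} (ζ : y' ⟶ y) : (down hL V).map ζ rfl = tr hL V ζ := rfl

include hF hQ in
theorem isQCoh_down : isQCoh 𝒴 (down hL V) :=
  ⟨isCartesian_of (fun φ => isCart_tr hF hQ hL V φ), fun y => (V y).qc⟩

/-- The comparison of `F` with the inverse image of the descended module. -/
noncomputable def cmpDown (x : 𝒬.obj) : (Mod.comap j (down hL V)).obj x ⟶ F.obj x := by
  by_cases h : IsCart (trA j (down hL V) (𝟙 (j.obj x)) (bs j (𝟙 (j.obj x))) rfl)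
  · exact liftHom _ h ((V (j.obj x)).π (𝟙 _) _ rfl)
  · exact 0

include hF hQ in
theorem post_cmpDown {x : 𝒬.obj} {y : 𝒴.obj} (α : j.obj x ⟶ y) (g : sch 𝒬 x ⟶ sch 𝒴 y) (hg : bs j α = g) :
    post (trA j (down hL V) α g hg) (cmpDown hL V x) = (V y).π α g hg := by
  have hD := isQCoh_down hF hQ hL V
  have h0 : post (trA j (down hL V) (𝟙 (j.obj x)) (bs j (𝟙 (j.obj x))) rfl) (cmpDown hL V x) =
      (V (j.obj x)).π (𝟙 _) _ rfl := by
    have h := isCart_trA j hD.1 (𝟙 (j.obj x)) (bs j (𝟙 (j.obj x))) rfl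
    rw [cmpDown, dif_pos h]
    apply ext
    intro U s
    rw [av_post]
    exact ap_liftHom _ h _ _ _
  subst hg
  have h1 : bs j (𝟙 (j.obj x) ≫ α) = bs j α := by rw [Category.id_comp]
  have w1 : bs j (𝟙 (j.obj x)) ≫ bmap 𝒴 α = bs j α := by rw [← bs_comp, Category.id_comp]
  have h2 := comp_trA j (down hL V) (𝟙 (j.obj x)) α _ rfl _ rfl (bs j α) w1 h1
  rw [trA_congr j (down hL V) (Category.id_comp α) (bs j α) h1] at h2
  rw [← h2, post_comp, h0, down_map, comp_tr hL V α x (𝟙 _) _ w1 h1]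
  exact (V y).congr (Category.id_comp α) _ _

include hF hQ in
theorem isIso_cmpDown (x : 𝒬.obj) : IsIso (cmpDown hL V x) := by
  have hD := isQCoh_down hF hQ hL V
  refine isIso_of_isCart_post (isCart_trA j hD.1 (𝟙 (j.obj x)) (bs j (𝟙 (j.obj x))) rfl) ?_
  rw [post_cmpDown hF hQ]
  exact (V _).cart _ _ _

include hF hQ in
theorem exists_iso_down : Nonempty (F ≅ Mod.comap j (down hL V)) := by
  have := isIso_cmpDown hF hQ hL V
  have hD := isQCoh_down hF hQ hL V
  refine ⟨(Mod.isoMk (fun x => asIso (cmpDown hL V x)) ?_).symm⟩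
  intro x' x φ g hg
  subst hg
  apply comp_cancel (isCart_trA j hD.1 (𝟙 (j.obj x)) (bs j (𝟙 (j.obj x))) rfl) (w := rfl)
  have w0 : bmap 𝒬 φ ≫ bs j (𝟙 (j.obj x)) = bs j (j.map φ ≫ 𝟙 _) := bmap_comp_bs _ _ _
  have h1 : comp (trA j (down hL V) (𝟙 (j.obj x)) (bs j (𝟙 (j.obj x))) rfl)
      (post ((Mod.comap j (down hL V)).map φ rfl) (cmpDown hL V x')) (bmap 𝒬 φ ≫ bs j (𝟙 (j.obj x))) rfl =
      (V (j.obj x)).π (j.map φ ≫ 𝟙 _) _ w0.symm := by
    rw [← post_comp, trA_map j (down hL V) (𝟙 (j.obj x)) φ _ rfl _ rfl _ rfl w0.symm, post_cmpDown hF hQ]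
  have h2 : comp (trA j (down hL V) (𝟙 (j.obj x)) (bs j (𝟙 (j.obj x))) rfl)
      (show Arr (bmap 𝒬 φ) ((Mod.comap j (down hL V)).obj x) (F.obj x') from cmpDown hL V x ≫ F.map φ rfl)
      (bmap 𝒬 φ ≫ bs j (𝟙 (j.obj x))) rfl =
      (V (j.obj x)).π (j.map φ ≫ 𝟙 _) _ w0.symm := by
    rw [comp_pre, post_cmpDown hF hQ, (V (j.obj x)).comm φ (𝟙 _) _ rfl _ rfl _ _ w0.symm]
  exact h1.trans h2.symm

end Obj

/-- **Descent of objects**: a quasi-coherent module whose comparison maps are insensitive to the kernel of `j` is an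
inverse image. -/
theorem exists_descend (hL : ∀ y, Loc j y) (F : QCoh 𝒬) (hT : ∀ y, Triv j F.obj y) :
    ∃ G : QCoh 𝒴, Nonempty (F ≅ (comapQ j).obj G) := by
  have V : ∀ y, Vert j F.obj y := fun y => (exists_vert F.property.1 F.property.2 (hT y) (hL y)).some
  refine ⟨⟨down hL V, isQCoh_down F.property.1 F.property.2 hL V⟩, ?_⟩
  obtain ⟨e⟩ := exists_iso_down F.property.1 F.property.2 hL V
  exact ⟨(isQCoh 𝒬).isoMk e⟩

end K799.StM
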