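import Groth.Agent.TwSh.K799.Arr

/-!
# fpqc descent of sections and of arrows, in terms of cartesian arrows
-/

set_option autoImplicit false
set_option backward.isDefEq.respectTransparency false
set_option backward.isDefEq.respectTransparency.types false

universe t v u

open CategoryTheory CategoryTheory.Limits AlgebraicGeometry Opposite TopologicalSpace
open Groth.Agent.Desc.QD

namespace K799.Arr

variable {X Y Z W T : Scheme.{u}}

theorem le_pre {g : X ⟶ Y} {h : Z ⟶ X} {k : Z ⟶ Y} (w : h ≫ g = k) (U : Y.Opens) :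
    k ⁻¹ᵁ U ≤ h ⁻¹ᵁ (g ⁻¹ᵁ U) := by
  subst w; exact le_rfl

theorem pre_le {g : X ⟶ Y} {h : Z ⟶ X} {k : Z ⟶ Y} (w : h ≫ g = k) (U : Y.Opens) :
    h ⁻¹ᵁ (g ⁻¹ᵁ U) ≤ k ⁻¹ᵁ U := by
  subst w; exact le_rfl

section

variable {ι : Type t} {F : ι → Scheme.{u}} (f : ∀ i, F i ⟶ T)
  (hf : Presieve.ofArrows F f ∈ Scheme.fpqcPrecoverage T) {N : T.Modules} (hN : Coh.IsQCoh N)
  {N' : ∀ i, (F i).Modules} (m : ∀ i, Arr (f i) N (N' i)) (hm : ∀ i, IsCart (m i))

/-- `ap (adjS (comp m a))` on transported sections. -/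
theorem ap_adjS_comp_tr {g : X ⟶ Y} {h : Z ⟶ X} {k : Z ⟶ Y} {M : Y.Modules} {N : X.Modules} {P : Z.Modules}
    (m : Arr g M N) (a : Arr h N P) (w : h ≫ g = k) {V : X.Opens} {V' : Z.Opens} (e : V' ≤ h ⁻¹ᵁ V)
    (x : Γ(PB g M, V)) :
    ap (adjS (comp m a k w)) V' (tr h g k w M e x) = av a e (ap (adjS m) V x) := by
  rw [adjS_comp, tr_apply, ap_comp, ← ap_comp (cmpInv h g k w M), cmpInv_cmp, ap_id, ap_comp, map_sc, ap_adjS]

include hf hN in
/-- **Descent of sections** for a quasi-coherent module along an fpqc family, the pullbacks being given by cartesian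
arrows. -/
theorem glue_sec (U : T.Opens) (s : ∀ i, Γ(N' i, f i ⁻¹ᵁ U))
    (hs : ∀ (i j : ι) (Z : Scheme.{u}) (gi : Z ⟶ F i) (gj : Z ⟶ F j) (c : Z ⟶ T) (wi : gi ≫ f i = c)
      (wj : gj ≫ f j = c), ∃ (P : Z.Modules) (a : Arr gi (N' i) P) (b : Arr gj (N' j) P),
        IsCart (comp (m i) a c wi) ∧ comp (m i) a c wi = comp (m j) b c wj ∧
        ∀ (ei : c ⁻¹ᵁ U ≤ gi ⁻¹ᵁ (f i ⁻¹ᵁ U)) (ej : c ⁻¹ᵁ U ≤ gj ⁻¹ᵁ (f j ⁻¹ᵁ U)),
          av a ei (s i) = av b ej (s j)) (hm : ∀ i, IsCart (m i)) :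
    ∃! t : Γ(N, U), ∀ i, av (m i) (le_refl (f i ⁻¹ᵁ U)) t = s i := by
  have hm' : ∀ i, IsIso (adjS (m i)) := hm
  obtain ⟨t, ht, hu⟩ := existsUnique_sec f hf N hN U (fun i => ap (inv (adjS (m i))) _ (s i)) (by
    intro i j Z gi gj c wi wj ei ej
    obtain ⟨P, a, b, hc, he, hab⟩ := hs i j Z gi gj c wi wj
    have hc' : IsIso (adjS (comp (m i) a c wi)) := hc
    apply (ap_bijective (adjS (comp (m i) a c wi)) (c ⁻¹ᵁ U)).1
    rw [ap_adjS_comp_tr, ap_inv', he, ap_adjS_comp_tr, ap_inv']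
    exact hab ei ej)
  refine ⟨t, fun i => ?_, fun t' ht' => ?_⟩
  · rw [← ap_adjS, ht i, ap_inv']
  · apply hu
    intro i
    have h1 := ht' i
    rw [← ap_adjS] at h1
    rw [← h1, ap_inv]

include hf hN hm in
/-- Sections of a quasi-coherent module are determined on an fpqc family. -/
theorem sec_ext' {U : T.Opens} {x y : Γ(N, U)}
    (h : ∀ i, av (m i) (le_refl (f i ⁻¹ᵁ U)) x = av (m i) (le_refl (f i ⁻¹ᵁ U)) y) : x = y := by
  refine sec_ext f hf N hN fun i => ?_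
  have : IsIso (adjS (m i)) := hm i
  apply (ap_bijective (adjS (m i)) _).1
  rw [ap_adjS, ap_adjS]
  exact h i

include hf hN hm in
/-- Arrows into a quasi-coherent module are determined on an fpqc family. -/
theorem arr_ext' {h : T ⟶ Y} {M : Y.Modules} {a b : Arr h M N} (k : ∀ i, F i ⟶ Y) (w : ∀ i, f i ≫ h = k i)
    (H : ∀ i, comp a (m i) (k i) (w i) = comp b (m i) (k i) (w i)) : a = b := by
  apply ext
  intro U s
  apply sec_ext' f hf hN m hm
  intro i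
  have h1 := av_comp a (m i) (k i) (w i) (le_refl (h ⁻¹ᵁ U)) (le_refl (f i ⁻¹ᵁ (h ⁻¹ᵁ U))) (pre_le (w i) U) s
  have h2 := av_comp b (m i) (k i) (w i) (le_refl (h ⁻¹ᵁ U)) (le_refl (f i ⁻¹ᵁ (h ⁻¹ᵁ U))) (pre_le (w i) U) s
  exact h1.symm.trans ((av_congr (H i) _ _).trans h2)

include hf hN hm in
/-- Assemble an arrow from compatible sections. -/
theorem arr_of_sec {h : T ⟶ Y} {M : Y.Modules} (k : ∀ i, F i ⟶ Y) (w : ∀ i, f i ≫ h = k i)
    (n : ∀ i, Arr (k i) M (N' i)) (y : ∀ (U : Y.Opens) (_ : Γ(M, U)), Γ(N, h ⁻¹ᵁ U))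
    (hy : ∀ (U : Y.Opens) (x : Γ(M, U)) (i : ι),
      av (m i) (le_refl (f i ⁻¹ᵁ (h ⁻¹ᵁ U))) (y U x) = av (n i) (pre_le (w i) U) x) :
    ∃ a : Arr h M N, ∀ i, comp a (m i) (k i) (w i) = n i := by
  have hz : ∀ U, y U 0 = 0 := by
    intro U
    apply sec_ext' f hf hN m hm
    intro i
    rw [hy, map_zero, map_zero]
  have ha : ∀ U (a b : Γ(M, U)), y U (a + b) = y U a + y U b := by
    intro U a b
    apply sec_ext' f hf hN m hm
    intro i
    rw [hy, map_add, map_add, hy, hy]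
  have A : ∃ A : Arr h M N, ∀ (U : Y.Opens) (x : Γ(M, U)), av A (le_refl (h ⁻¹ᵁ U)) x = y U x := by
    refine ⟨mk h M N (fun U => { toFun := y U, map_zero' := hz U, map_add' := ha U }) ?_ ?_, ?_⟩
    rotate_left 2
    · intro U x
      rw [av_mk, rs_refl]
      rfl
    · intro U a s
      apply sec_ext' f hf hN m hm
      intro i
      change av (m i) _ (y U (a • s)) = av (m i) _ (h.app U a • y U s)
      rw [hy, av_smul, av_smul, hy]
      congr 1
      have h3 := Scheme.Hom.appLE_comp_appLE (f i) h U (h ⁻¹ᵁ U) (f i ⁻¹ᵁ (h ⁻¹ᵁ U)) le_rfl le_rfl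
      have h4 : (k i).appLE U (f i ⁻¹ᵁ (h ⁻¹ᵁ U)) (pre_le (w i) U) =
          (f i ≫ h).appLE U (f i ⁻¹ᵁ (h ⁻¹ᵁ U)) (pre_le rfl U) := by
        congr 1
        exact (w i).symm
      rw [h4]
      have h5 := congrArg (fun φ => φ.hom a) h3
      rw [Scheme.Hom.appLE_eq_app] at h5
      exact h5.symm
    · intro U V e s
      apply sec_ext' f hf hN m hm
      intro i
      change av (m i) _ (y V (rs M e s)) = av (m i) _ (rs N _ (y U s))
      rw [hy, av_rs, av_rs]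
      have h1 : av (m i) (((f i).preimage_mono (h.preimage_mono e)).trans (le_refl _)) (y U s) =
          rs (N' i) ((f i).preimage_mono (h.preimage_mono e)) (av (m i) (le_refl (f i ⁻¹ᵁ (h ⁻¹ᵁ U))) (y U s)) :=
        (rs_av (m i) _ _ _).symm
      refine Eq.trans ?_ h1.symm
      rw [hy, rs_av]
  obtain ⟨A, hA⟩ := A
  refine ⟨A, fun i => ?_⟩
  apply ext
  intro U s
  have h1 := av_comp A (m i) (k i) (w i) (le_refl (h ⁻¹ᵁ U)) (le_pre (w i) U) (le_refl (k i ⁻¹ᵁ U)) s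
  refine h1.trans ?_
  rw [hA]
  have h2 := congrArg (rs (N' i) (le_pre (w i) U)) (hy U s i)
  rw [rs_av, rs_av] at h2
  exact h2


include hf hN in
/-- **Descent of arrows** into a quasi-coherent module along an fpqc family. -/
theorem glue_arr {h : T ⟶ Y} {M : Y.Modules} (k : ∀ i, F i ⟶ Y) (w : ∀ i, f i ≫ h = k i)
    (n : ∀ i, Arr (k i) M (N' i))
    (hn : ∀ (i j : ι) (Z : Scheme.{u}) (gi : Z ⟶ F i) (gj : Z ⟶ F j) (c : Z ⟶ T) (wi : gi ≫ f i = c)
      (wj : gj ≫ f j = c) (d : Z ⟶ Y) (wdi : gi ≫ k i = d) (wdj : gj ≫ k j = d),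
        ∃ (P : Z.Modules) (a : Arr gi (N' i) P) (b : Arr gj (N' j) P),
        IsCart (comp (m i) a c wi) ∧ comp (m i) a c wi = comp (m j) b c wj ∧
        comp (n i) a d wdi = comp (n j) b d wdj) (hm : ∀ i, IsCart (m i)) :
    ∃ a : Arr h M N, ∀ i, comp a (m i) (k i) (w i) = n i := by
  have key : ∀ (U : Y.Opens) (x : Γ(M, U)), ∃ y : Γ(N, h ⁻¹ᵁ U), ∀ i,
      av (m i) (le_refl (f i ⁻¹ᵁ (h ⁻¹ᵁ U))) y = av (n i) (pre_le (w i) U) x := by
    intro U x
    obtain ⟨t, ht, -⟩ := glue_sec f hf hN m (h ⁻¹ᵁ U) (fun i => av (n i) (pre_le (w i) U) x) (by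
      intro i j Z gi gj c wi wj
      have wdi : gi ≫ k i = c ≫ h := by rw [← w i, ← wi, Category.assoc]
      have wdj : gj ≫ k j = c ≫ h := by rw [← w j, ← wj, Category.assoc]
      obtain ⟨P, a, b, hc, he, hab⟩ := hn i j Z gi gj c wi wj (c ≫ h) wdi wdj
      refine ⟨P, a, b, hc, he, fun ei ej => ?_⟩
      have h1 := av_comp (n i) a (c ≫ h) wdi (pre_le (w i) U) ei (pre_le (rfl : c ≫ h = c ≫ h) U) x
      have h2 := av_comp (n j) b (c ≫ h) wdj (pre_le (w j) U) ej (pre_le (rfl : c ≫ h = c ≫ h) U) x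
      exact h1.symm.trans ((av_congr hab _ _).trans h2)) hm
    exact ⟨t, ht⟩
  choose y hy using key
  exact arr_of_sec f hf hN m hm k w n y hy

end

/-- Being an isomorphism descends along fpqc families, for quasi-coherent modules. -/
theorem isIso_of_fpqc {ι : Type t} {F : ι → Scheme.{u}} (f : ∀ i, F i ⟶ T)
    (hf : Presieve.ofArrows F f ∈ Scheme.fpqcPrecoverage T) {M N : T.Modules} (hM : Coh.IsQCoh M)
    (hN : Coh.IsQCoh N) (φ : M ⟶ N) (h : ∀ i, IsIso (PBmap (f i) φ)) : IsIso φ := by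
  obtain ⟨ψ, hψ⟩ := exists_hom_fpqc f hf hM (M := N) (fun i => inv (PBmap (f i) φ)) (by
    intro i j Z gi gj c wi wj
    have e1 : ∀ (i : ι) (gi : Z ⟶ F i) (wi : gi ≫ f i = c),
        pullH (inv (PBmap (f i) φ)) gi c c wi wi ≫ PBmap c φ = 𝟙 _ := by
      intro i gi wi
      have h1 : PBmap gi (inv (PBmap (f i) φ)) ≫ PBmap gi (PBmap (f i) φ) = 𝟙 _ := by
        rw [← (Scheme.Modules.pullback gi).map_comp, IsIso.inv_hom_id, CategoryTheory.Functor.map_id]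
      rw [pullH, Category.assoc, Category.assoc, ← cmpInv_naturality, reassoc_of% h1, cmp_cmpInv]
    have e2 : PBmap c φ ≫ pullH (inv (PBmap (f i) φ)) gi c c wi wi = 𝟙 _ := by
      have h1 : PBmap gi (PBmap (f i) φ) ≫ PBmap gi (inv (PBmap (f i) φ)) = 𝟙 _ := by
        rw [← (Scheme.Modules.pullback gi).map_comp, IsIso.hom_inv_id, CategoryTheory.Functor.map_id]
      rw [pullH, ← cancel_epi (cmpInv gi (f i) c wi M)]
      rw [← Category.assoc, ← cmpInv_naturality, Category.assoc, cmpInv_cmp_assoc, reassoc_of% h1, Category.comp_id]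
    calc pullH (inv (PBmap (f i) φ)) gi c c wi wi
        = (pullH (inv (PBmap (f j) φ)) gj c c wj wj ≫ PBmap c φ) ≫ pullH (inv (PBmap (f i) φ)) gi c c wi wi := by
          rw [e1 j gj wj, Category.id_comp]
      _ = pullH (inv (PBmap (f j) φ)) gj c c wj wj := by rw [Category.assoc, e2, Category.comp_id])
  refine ⟨ψ, ?_, ?_⟩
  · apply hom_ext_fpqc f hf hM
    intro i
    have h1 := hψ i
    have h2 : PBmap (f i) (φ ≫ ψ) = PBmap (f i) φ ≫ PBmap (f i) ψ := (Scheme.Modules.pullback (f i)).map_comp φ ψ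
    have h3 : PBmap (f i) (𝟙 M) = 𝟙 _ := (Scheme.Modules.pullback (f i)).map_id M
    exact h2.trans ((by rw [hψ i, IsIso.hom_inv_id] : _ = _).trans h3.symm)
  · apply hom_ext_fpqc f hf hN
    intro i
    have h2 : PBmap (f i) (ψ ≫ φ) = PBmap (f i) ψ ≫ PBmap (f i) φ := (Scheme.Modules.pullback (f i)).map_comp ψ φ
    have h3 : PBmap (f i) (𝟙 N) = 𝟙 _ := (Scheme.Modules.pullback (f i)).map_id N
    exact h2.trans ((by rw [hψ i, IsIso.inv_hom_id] : _ = _).trans h3.symm)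

/-- Being cartesian descends along fpqc families. -/
theorem isCart_of_fpqc {ι : Type t} {F : ι → Scheme.{u}} (f : ∀ i, F i ⟶ T)
    (hf : Presieve.ofArrows F f ∈ Scheme.fpqcPrecoverage T) {h : T ⟶ Y} {M : Y.Modules} {N : T.Modules}
    (hM : Coh.IsQCoh M) (hN : Coh.IsQCoh N) {N' : ∀ i, (F i).Modules} (m : ∀ i, Arr (f i) N (N' i))
    (hm : ∀ i, IsCart (m i)) (a : Arr h M N) (k : ∀ i, F i ⟶ Y) (w : ∀ i, f i ≫ h = k i)
    (ha : ∀ i, IsCart (comp a (m i) (k i) (w i))) : IsCart a := by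
  unfold IsCart
  refine isIso_of_fpqc f hf (Groth.Agent.VarietyB.PullSec.isQCoh_pullback h M hM) hN (adjS a) (fun i => ?_)
  have h1 := ha i
  unfold IsCart at h1
  rw [adjS_comp] at h1
  have h2 : IsIso (PBmap (f i) (adjS a) ≫ adjS (m i)) := IsIso.of_isIso_comp_left (cmp (f i) h (k i) (w i) M) _
  have h3 : IsIso (adjS (m i)) := hm i
  exact IsIso.of_isIso_comp_right _ (adjS (m i))

end K799.Arr
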