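import Groth.Agent.TwSh.K799.Glue
import Groth.Agent.TwSh.K799.Cover

/-!
# Local forms of the descent of sections and arrows

Compatibility on overlaps need only be checked on a cover of the overlap.
-/

set_option autoImplicit false
set_option backward.isDefEq.respectTransparency false
set_option backward.isDefEq.respectTransparency.types false

universe t v u

open CategoryTheory CategoryTheory.Limits AlgebraicGeometry Opposite TopologicalSpace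
open Groth.Agent.Desc.QD

namespace K799.Arr

variable {X Y Z W T : Scheme.{u}}

section Assoc

theorem comp_assoc {X₀ X₁ X₂ X₃ : Scheme.{u}} {g₁ : X₁ ⟶ X₀} {g₂ : X₂ ⟶ X₁} {g₃ : X₃ ⟶ X₂}
    {M₀ : X₀.Modules} {M₁ : X₁.Modules} {M₂ : X₂.Modules} {M₃ : X₃.Modules}
    (a : Arr g₁ M₀ M₁) (b : Arr g₂ M₁ M₂) (c : Arr g₃ M₂ M₃) (k : X₂ ⟶ X₀) (w : g₂ ≫ g₁ = k)
    (l : X₃ ⟶ X₀) (w' : g₃ ≫ k = l) (q : X₃ ⟶ X₁) (w₂ : g₃ ≫ g₂ = q) (w₃ : q ≫ g₁ = l) :
    comp (comp a b k w) c l w' = comp a (comp b c q w₂) l w₃ := by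
  apply ext
  intro U s
  have h1 := av_comp (comp a b k w) c l w' (le_refl (k ⁻¹ᵁ U)) (le_pre w' U) (le_refl (l ⁻¹ᵁ U)) s
  have h2 := av_comp a (comp b c q w₂) l w₃ (le_refl (g₁ ⁻¹ᵁ U)) (le_pre w₃ U) (le_refl (l ⁻¹ᵁ U)) s
  have h3 := av_comp a b k w (le_refl (g₁ ⁻¹ᵁ U)) (le_pre w U) (le_refl (k ⁻¹ᵁ U)) s
  have h4 := av_comp b c q w₂ (le_pre w U) (le_pre w' U) (le_pre w₃ U) (av a (le_refl (g₁ ⁻¹ᵁ U)) s)
  rw [h1, h2, h3, h4]

/-- Renaming the morphism of schemes. -/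
theorem comp_eq_of_eq {g : X ⟶ Y} {h : Z ⟶ X} {M : Y.Modules} {N : X.Modules} {P : Z.Modules}
    {m m' : Arr g M N} {n n' : Arr h N P} {k : Z ⟶ Y} {w : h ≫ g = k} (hm : m = m') (hn : n = n') :
    comp m n k w = comp m' n' k w := by rw [hm, hn]

variable {g : X ⟶ Y} {M : Y.Modules} {N : X.Modules}

theorem comp_lift {h : Z ⟶ X} {k : Z ⟶ Y} {P : Z.Modules} (m : Arr g M N) (hm : IsCart m) (n : Arr k M P)
    (w : h ≫ g = k) : comp m (lift m hm n w) k w = n := by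
  apply ext
  intro U s
  have h1 := av_comp m (lift m hm n w) k w (le_refl (g ⁻¹ᵁ U)) (le_pre w U) (le_refl (k ⁻¹ᵁ U)) s
  have h2 := av_lift m hm n w (le_refl (g ⁻¹ᵁ U)) (le_pre w U) (le_refl (k ⁻¹ᵁ U)) s
  exact h1.trans h2

theorem comp_cancel {h : Z ⟶ X} {k : Z ⟶ Y} {P : Z.Modules} {m : Arr g M N} (hm : IsCart m) {a b : Arr h N P}
    {w : h ≫ g = k} (H : comp m a k w = comp m b k w) : a = b := by
  apply cart_ext hm
  intro U s
  have h1 := av_comp m a k w (le_refl (g ⁻¹ᵁ U)) (le_refl (h ⁻¹ᵁ (g ⁻¹ᵁ U))) (pre_le w U) s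
  have h2 := av_comp m b k w (le_refl (g ⁻¹ᵁ U)) (le_refl (h ⁻¹ᵁ (g ⁻¹ᵁ U))) (pre_le w U) s
  exact h1.symm.trans ((av_congr H _ _).trans h2)

theorem isCart_lift {h : Z ⟶ X} {k : Z ⟶ Y} {P : Z.Modules} (m : Arr g M N) (hm : IsCart m) {n : Arr k M P}
    (hn : IsCart n) (w : h ≫ g = k) : IsCart (lift m hm n w) := by
  refine isCart_of_comp hm k w ?_
  rw [comp_lift]
  exact hn

theorem comp_idA (m : Arr g M N) (w : 𝟙 X ≫ g = g) : comp m (idA N) g w = m := by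
  apply ext
  intro U s
  have h1 := av_comp m (idA N) g w (le_refl (g ⁻¹ᵁ U)) (le_pre w U) (le_refl (g ⁻¹ᵁ U)) s
  refine h1.trans ?_
  rw [av_idA]
  exact rs_av m (le_refl (g ⁻¹ᵁ U)) (le_refl (g ⁻¹ᵁ U)) s

theorem idA_comp (m : Arr g M N) (w : g ≫ 𝟙 Y = g) : comp (idA M) m g w = m := by
  apply ext
  intro U s
  have h1 := av_comp (idA M) m g w (le_refl (𝟙 Y ⁻¹ᵁ U)) (le_pre w U) (le_refl (g ⁻¹ᵁ U)) s
  refine h1.trans ?_
  rw [av_idA]
  have : (rs M (le_refl (𝟙 Y ⁻¹ᵁ U))) s = s := rs_refl ..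
  exact congrArg (av m (le_refl (g ⁻¹ᵁ U))) this

theorem post_comp {h : Z ⟶ X} {k : Z ⟶ Y} {P P' : Z.Modules} (m : Arr g M N) (n : Arr h N P) (ψ : P ⟶ P')
    (w : h ≫ g = k) : post (comp m n k w) ψ = comp m (post n ψ) k w := by
  apply ext
  intro U s
  have h1 := av_comp m n k w (le_refl (g ⁻¹ᵁ U)) (le_pre w U) (le_refl (k ⁻¹ᵁ U)) s
  have h2 := av_comp m (post n ψ) k w (le_refl (g ⁻¹ᵁ U)) (le_pre w U) (le_refl (k ⁻¹ᵁ U)) s
  rw [av_post, h1, h2, av_post]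

theorem comp_pre {h : Z ⟶ X} {k : Z ⟶ Y} {P : Z.Modules} {N' : X.Modules} (m : Arr g M N) (φ : N ⟶ N')
    (n : Arr h N' P) (w : h ≫ g = k) :
    comp m (show Arr h N P from φ ≫ n) k w = comp (post m φ) n k w := by
  apply ext
  intro U s
  have h1 := av_comp m (show Arr h N P from φ ≫ n) k w (le_refl (g ⁻¹ᵁ U)) (le_pre w U) (le_refl (k ⁻¹ᵁ U)) s
  have h2 := av_comp (post m φ) n k w (le_refl (g ⁻¹ᵁ U)) (le_pre w U) (le_refl (k ⁻¹ᵁ U)) s
  rw [h1, h2, av_post]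
  rfl

theorem pre_comp {h : Z ⟶ X} {k : Z ⟶ Y} {P : Z.Modules} {M' : Y.Modules} (φ : M' ⟶ M) (m : Arr g M N)
    (n : Arr h N P) (w : h ≫ g = k) :
    comp (show Arr g M' N from φ ≫ m) n k w = (show Arr k M' P from φ ≫ comp m n k w) := by
  apply ext
  intro U s
  have h1 := av_comp (show Arr g M' N from φ ≫ m) n k w (le_refl (g ⁻¹ᵁ U)) (le_pre w U) (le_refl (k ⁻¹ᵁ U)) s
  have h2 := av_comp m n k w (le_refl (g ⁻¹ᵁ U)) (le_pre w U) (le_refl (k ⁻¹ᵁ U)) (ap φ U s)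
  exact h1.trans h2.symm

theorem post_post {N' N'' : X.Modules} (m : Arr g M N) (φ : N ⟶ N') (ψ : N' ⟶ N'') :
    post (post m φ) ψ = post m (φ ≫ ψ) := by
  apply ext
  intro U s
  rw [av_post, av_post, av_post, ap_comp]

theorem post_id (m : Arr g M N) : post m (𝟙 N) = m := by
  apply ext
  intro U s
  rw [av_post, ap_id]

/-- A morphism of modules as an arrow over the identity. -/
noncomputable def ofHom {M N : X.Modules} (φ : M ⟶ N) : Arr (𝟙 X) M N := post (idA M) φ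

theorem av_ofHom {M N : X.Modules} (φ : M ⟶ N) {U V : X.Opens} (e : V ≤ (𝟙 X) ⁻¹ᵁ U) (s : Γ(M, U)) :
    av (ofHom φ) e s = ap φ V (rs M e s) := by
  rw [ofHom, av_post, av_idA]

/-- An arrow over the identity as a morphism of modules. -/
noncomputable def toHom {M N : X.Modules} (m : Arr (𝟙 X) M N) : M ⟶ N :=
  m ≫ (Scheme.Modules.pushforwardId X).hom.app N

theorem ap_toHom {M N : X.Modules} (m : Arr (𝟙 X) M N) (U : X.Opens) (s : Γ(M, U)) :
    ap (toHom m) U s = av m (U := U) (V := U) le_rfl s := by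
  have h1 : av m (U := U) (V := U) (le_refl U) s = av m (le_refl ((𝟙 X) ⁻¹ᵁ U)) s := rfl
  rw [h1, av_refl]
  rfl

theorem ofHom_toHom {M N : X.Modules} (m : Arr (𝟙 X) M N) : ofHom (toHom m) = m := by
  apply ext
  intro U s
  rw [av_ofHom, ap_toHom, av_rs]
  rfl

theorem toHom_ofHom {M N : X.Modules} (φ : M ⟶ N) : toHom (ofHom φ) = φ := by
  apply ap_ext
  intro U s
  rw [ap_toHom, av_ofHom]
  congr 1
  exact rs_refl ..

theorem comp_ofHom {N N' : X.Modules} {g : X ⟶ Y} {M : Y.Modules} (m : Arr g M N) (φ : N ⟶ N')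
    (w : 𝟙 X ≫ g = g) : comp m (ofHom φ) g w = post m φ := by
  rw [ofHom, ← post_comp, comp_idA]

theorem ofHom_comp {g : X ⟶ Y} {M M' : Y.Modules} {N : X.Modules} (φ : M ⟶ M') (m : Arr g M' N)
    (w : g ≫ 𝟙 Y = g) : comp (ofHom φ) m g w = (show Arr g M N from φ ≫ m) := by
  rw [ofHom, ← comp_pre]
  exact idA_comp (show Arr g M N from φ ≫ m) w

end Assoc

section

variable {ι : Type t} {F : ι → Scheme.{u}} (f : ∀ i, F i ⟶ T)
  (hf : Presieve.ofArrows F f ∈ Scheme.fpqcPrecoverage T) {N : T.Modules} (hN : Coh.IsQCoh N)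
  {N' : ∀ i, (F i).Modules} (m : ∀ i, Arr (f i) N (N' i)) (hm : ∀ i, IsCart (m i))

include hf hN in
/-- **Descent of sections**, local form. -/
theorem glue_sec_loc (U : T.Opens) (s : ∀ i, Γ(N' i, f i ⁻¹ᵁ U))
    (hs : ∀ (i j : ι) (Z : Scheme.{u}) (gi : Z ⟶ F i) (gj : Z ⟶ F j) (c : Z ⟶ T) (_ : gi ≫ f i = c)
      (_ : gj ≫ f j = c), ∃ (κ : Type v) (G : κ → Scheme.{u}) (q : ∀ k, G k ⟶ Z),
        Presieve.ofArrows G q ∈ Scheme.fpqcPrecoverage Z ∧ ∀ k, ∃ (P : (G k).Modules) (ga : G k ⟶ F i)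
          (_ : q k ≫ gi = ga) (gb : G k ⟶ F j) (_ : q k ≫ gj = gb) (a : Arr ga (N' i) P) (b : Arr gb (N' j) P)
          (d : G k ⟶ T) (wda : ga ≫ f i = d) (wdb : gb ≫ f j = d),
          IsCart (comp (m i) a d wda) ∧ comp (m i) a d wda = comp (m j) b d wdb ∧
          ∀ (ea : d ⁻¹ᵁ U ≤ ga ⁻¹ᵁ (f i ⁻¹ᵁ U)) (eb : d ⁻¹ᵁ U ≤ gb ⁻¹ᵁ (f j ⁻¹ᵁ U)),
            av a ea (s i) = av b eb (s j)) (hm : ∀ i, IsCart (m i)) :
    ∃! t : Γ(N, U), ∀ i, av (m i) (le_refl (f i ⁻¹ᵁ U)) t = s i := by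
  refine glue_sec f hf hN m U s ?_ hm
  intro i j Z gi gj c wi wj
  obtain ⟨κ, G, q, hq, H⟩ := hs i j Z gi gj c wi wj
  choose P ga wa gb wb a b d wda wdb hc he hab using H
  -- the pullback and the two canonical arrows
  have hA : IsCart (comp (m i) (pb gi (N' i)) c wi) := isCart_comp (hm i) (isCart_pb _ _) c wi
  refine ⟨PB gi (N' i), pb gi (N' i), lift (m j) (hm j) (comp (m i) (pb gi (N' i)) c wi) wj, hA, ?_, ?_⟩
  · rw [comp_lift]
  · intro ei ej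
    have ha : ∀ k, IsCart (a k) := fun k => isCart_of_comp (hm i) (d k) (wda k) (hc k)
    have hN' : Coh.IsQCoh (PB gi (N' i)) := by
      have h1 : Coh.IsQCoh (PB c N) := Groth.Agent.VarietyB.PullSec.isQCoh_pullback c N hN
      have h2 : IsIso (adjS (comp (m i) (pb gi (N' i)) c wi)) := hA
      exact (SheafOfModules.isQuasicoherent Z.ringCatSheaf).prop_of_iso (asIso (adjS (comp (m i) (pb gi (N' i)) c wi))) h1
    have wqc : ∀ k, q k ≫ c = d k := fun k => by rw [← wda k, ← wa k, ← wi, Category.assoc]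
    refine sec_ext' q hq hN' (fun k => lift (pb gi (N' i)) (isCart_pb _ _) (a k) (wa k))
      (fun k => isCart_lift _ _ (ha k) _) fun k => ?_
    set e := lift (pb gi (N' i)) (isCart_pb _ _) (a k) (wa k) with he'
    have hb : comp (lift (m j) (hm j) (comp (m i) (pb gi (N' i)) c wi) wj) e (gb k) (wb k) = b k := by
      apply comp_cancel (hm j) (w := wdb k)
      rw [← comp_assoc _ _ _ c wj (d k) (wqc k) (gb k) (wb k) (wdb k), comp_lift,
        comp_assoc _ _ _ c wi (d k) (wqc k) (ga k) (wa k) (wda k), he', comp_lift, he k]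
    have h1 := av_comp (pb gi (N' i)) e (ga k) (wa k) ei (le_refl (q k ⁻¹ᵁ (c ⁻¹ᵁ U)))
      (((q k).preimage_mono ei).trans (pre_le (wa k) _)) (s i)
    have h2 := av_comp (lift (m j) (hm j) (comp (m i) (pb gi (N' i)) c wi) wj) e (gb k) (wb k) ej
      (le_refl (q k ⁻¹ᵁ (c ⁻¹ᵁ U))) (((q k).preimage_mono ej).trans (pre_le (wb k) _)) (s j)
    rw [← h1, ← h2, hb, he', comp_lift]
    have h3 := hab k (le_pre (wda k) U) (le_pre (wdb k) U)
    have h4 := congrArg (rs (P k) (pre_le (wqc k) U)) h3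
    rw [rs_av, rs_av] at h4
    exact h4

include hf hN in
/-- **Descent of arrows**, local form. -/
theorem glue_arr_loc {h : T ⟶ Y} {M : Y.Modules} (k : ∀ i, F i ⟶ Y) (w : ∀ i, f i ≫ h = k i)
    (n : ∀ i, Arr (k i) M (N' i))
    (hn : ∀ (i j : ι) (Z : Scheme.{u}) (gi : Z ⟶ F i) (gj : Z ⟶ F j) (c : Z ⟶ T) (_ : gi ≫ f i = c)
      (_ : gj ≫ f j = c), ∃ (κ : Type v) (G : κ → Scheme.{u}) (q : ∀ k, G k ⟶ Z),
        Presieve.ofArrows G q ∈ Scheme.fpqcPrecoverage Z ∧ ∀ κ, ∃ (P : (G κ).Modules) (ga : G κ ⟶ F i)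
          (_ : q κ ≫ gi = ga) (gb : G κ ⟶ F j) (_ : q κ ≫ gj = gb) (a : Arr ga (N' i) P) (b : Arr gb (N' j) P)
          (d : G κ ⟶ T) (wda : ga ≫ f i = d) (wdb : gb ≫ f j = d) (e : G κ ⟶ Y) (wea : ga ≫ k i = e)
          (web : gb ≫ k j = e),
          IsCart (comp (m i) a d wda) ∧ comp (m i) a d wda = comp (m j) b d wdb ∧
            comp (n i) a e wea = comp (n j) b e web) (hm : ∀ i, IsCart (m i)) :
    ∃ a : Arr h M N, ∀ i, comp a (m i) (k i) (w i) = n i := by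
  have key : ∀ (U : Y.Opens) (x : Γ(M, U)), ∃ y : Γ(N, h ⁻¹ᵁ U), ∀ i,
      av (m i) (le_refl (f i ⁻¹ᵁ (h ⁻¹ᵁ U))) y = av (n i) (pre_le (w i) U) x := by
    intro U x
    obtain ⟨t, ht, -⟩ := glue_sec_loc f hf hN m (h ⁻¹ᵁ U) (fun i => av (n i) (pre_le (w i) U) x) (by
      intro i j Z gi gj c wi wj
      obtain ⟨κ, G, q, hq, H⟩ := hn i j Z gi gj c wi wj
      refine ⟨κ, G, q, hq, fun κ => ?_⟩
      obtain ⟨P, ga, wa, gb, wb, a, b, d, wda, wdb, e, wea, web, hc, he, hab⟩ := H κ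
      refine ⟨P, ga, wa, gb, wb, a, b, d, wda, wdb, hc, he, fun ea eb => ?_⟩
      have e1 : d ⁻¹ᵁ (h ⁻¹ᵁ U) ≤ e ⁻¹ᵁ U := by
        have : d ≫ h = e := by rw [← wda, Category.assoc, w i, wea]
        exact pre_le this U
      have h1 := av_comp (n i) a e wea (pre_le (w i) U) ea e1 x
      have h2 := av_comp (n j) b e web (pre_le (w j) U) eb e1 x
      exact h1.symm.trans ((av_congr hab _ _).trans h2)) hm
    exact ⟨t, ht⟩
  choose y hy using key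
  exact arr_of_sec f hf hN m hm k w n y hy

end

end K799.Arr
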