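import Groth.Agent.TwSh.K799.Loc
import Groth.Agent.CohqA.AffineBaseChange

/-!
# Push forward of arrows along a cartesian square with affine morphisms
-/

set_option autoImplicit false
set_option backward.isDefEq.respectTransparency false
set_option backward.isDefEq.respectTransparency.types false

universe t v' w' v w u

open CategoryTheory CategoryTheory.Limits AlgebraicGeometry Opposite TopologicalSpace
open Groth.Agent.Desc.QD
open Groth.Agent.CohqA.AffineBaseChange Groth.Agent.CohqA.PullbackUniv

namespace K799.Arr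

variable {X S X' S' : Scheme.{u}} {f : X ⟶ S} {g : S' ⟶ S} {g' : X' ⟶ X} {f' : X' ⟶ S'}
  {M : X.Modules} {N : X'.Modules}

/-- The push forward of a module. -/
noncomputable abbrev PF (f : X ⟶ S) (M : X.Modules) : S.Modules := (Scheme.Modules.pushforward f).obj M

/-- The push forward of an arrow along a commutative square. -/
noncomputable def pushA (w : g' ≫ f = f' ≫ g) (a : Arr g' M N) : Arr g (PF f M) (PF f' N) :=
  pushSquare f g g' f' w a

theorem av_pushA (w : g' ≫ f = f' ≫ g) (a : Arr g' M N) {V : S.Opens} {V' : S'.Opens} (e : V' ≤ g ⁻¹ᵁ V)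
    (e' : f' ⁻¹ᵁ V' ≤ g' ⁻¹ᵁ (f ⁻¹ᵁ V)) (x : Γ(M, f ⁻¹ᵁ V)) :
    av (pushA w a) e (show Γ(PF f M, V) from x) = (show Γ(PF f' N, V') from av a e' x) := by
  exact secMap_pushSquare f g g' f' w a V V' e e' x

theorem isCart_pushA (h : IsPullback g' f' f g) [IsAffineHom f] (hM : Coh.IsQCoh M) {a : Arr g' M N}
    (ha : IsCart a) : IsCart (pushA h.w a) := by
  have hM' : M.IsQuasicoherent := hM
  have h1 : IsUniv g' a := (isUniv_iff_isIso g' a).2 ha
  exact (isUniv_iff_isIso g (pushA h.w a)).1 (isUniv_pushSquare h a h1)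

end K799.Arr
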