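import Groth.Agent.TwSh.K799.Sect

/-!
# Twisted modules on a gerbe with a section: the equivalence
-/

set_option autoImplicit false
set_option backward.isDefEq.respectTransparency false
set_option backward.isDefEq.respectTransparency.types false

universe t v' w' v w u

open CategoryTheory CategoryTheory.Limits AlgebraicGeometry Opposite TopologicalSpace
open Groth.Agent.Desc.QD
open StMod K799.Arr K799.StM K799.Cover

namespace K799.Sect

variable {S : Scheme.{u}} {𝒳 : BasedCategory.{v, w} (Over S)} {A : (Over S)ᵒᵖ ⥤ GrpCat.{u}}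
  {ι : TwSh.BandHom 𝒳 A} {χ : A ⟶ TwSh.GmPsh S} {d : ℤ}

theorem map_band {F : Mod 𝒳} {ξ : 𝒳.obj} (hF : TwAt F ι χ d ξ) (a : A.obj (op (𝒳.p.obj ξ))) :
    F.map (ι.hom ξ a).hom.1 (TwSh.bmap_autO ξ _) = sm (sca χ d ξ a) (idA (F.obj ξ)) := by
  apply ext
  intro U s
  rw [av_sm, av_idA]
  refine (hF a U s).trans ?_
  congr 1
  exact (rs_refl _ _ _).symm

theorem twAt_of_map_band {F : Mod 𝒳} {ξ : 𝒳.obj}
    (h : ∀ a : A.obj (op (𝒳.p.obj ξ)), F.map (ι.hom ξ a).hom.1 (TwSh.bmap_autO ξ _) =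
      sm (sca χ d ξ a) (idA (F.obj ξ))) : TwAt F ι χ d ξ := by
  intro a U s
  refine (av_congr (h a) _ s).trans ?_
  rw [av_sm, av_idA]
  congr 1
  exact rs_refl _ _ _

theorem tw_map {F : Mod 𝒳} {ξ' ξ : 𝒳.obj} (hF : TwAt F ι χ d ξ') (a : A.obj (op (𝒳.p.obj ξ'))) (φ : ξ' ⟶ ξ)
    {g : sch 𝒳 ξ' ⟶ sch 𝒳 ξ} (hg : bmap 𝒳 φ = g) (e : bmap 𝒳 ((ι.hom ξ' a).hom.1 ≫ φ) = g) :
    F.map ((ι.hom ξ' a).hom.1 ≫ φ) e = sm (sca χ d ξ' a) (F.map φ hg) := by
  rw [← comp_map F (ι.hom ξ' a).hom.1 φ (TwSh.bmap_autO ξ' _) hg g (Category.id_comp _) e, map_band hF a,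
    comp_sm_right, comp_idA]

theorem av_map_congr (F : Mod 𝒳) {ξ' ξ : 𝒳.obj} (φ : ξ' ⟶ ξ) {g g' : sch 𝒳 ξ' ⟶ sch 𝒳 ξ} (hg : bmap 𝒳 φ = g)
    (hg' : bmap 𝒳 φ = g') {U : (sch 𝒳 ξ).Opens} {V : (sch 𝒳 ξ').Opens} (e : V ≤ g ⁻¹ᵁ U) (e' : V ≤ g' ⁻¹ᵁ U)
    (s : Γ(F.obj ξ, U)) : av (F.map φ hg) e s = av (F.map φ hg') e' s := by
  subst hg; subst hg'; rfl

section

variable {C : Type w'} [Category.{v'} C] {σ : C ⥤ 𝒳.obj} (H : Hyp ι σ)

include H

theorem faithful : ((TwSh.isTwistedQ 𝒳 ι χ d).ι ⋙ comapQ (sb σ)).Faithful := by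
  refine ⟨fun {F G} u v h => ?_⟩
  have h' : Mod.comapMap (sb σ) u.hom.hom = Mod.comapMap (sb σ) v.hom.hom := congrArg (fun z => z.hom) h
  have h2 : (comapQ (jb σ)).map u.hom = (comapQ (jb σ)).map v.hom := by
    apply InducedCategory.hom_ext
    apply Mod.hom_ext
    intro t
    have h3 : (Mod.comapMap (sb σ) u.hom.hom).app t = (Mod.comapMap (sb σ) v.hom.hom).app t := by rw [h']
    exact h3
  apply InducedCategory.hom_ext
  have := comapQ_faithful H.locJ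
  exact (comapQ (jb σ)).map_injective h2

theorem map_jb {F : Mod 𝒳} (hF : ∀ ξ, TwAt F ι χ d ξ) {t' t : (PP σ).obj} (φ : t' ⟶ t) :
    (Mod.comap (jb σ) F).map φ rfl = sm (X := sch (PP σ) t') (Y := sch (PP σ) t) (sca χ d (σ.obj t') (aE H φ))
      ((Mod.comap (sb σ) F).map (ξ' := t') (ξ := t) (hE H φ) (bmap_hE H φ)) := by
  rw [comap_jb_map, comap_sb_map]
  have e1 := dec_eq H φ
  have e0 : bmap 𝒳 ((ι.hom (σ.obj t') (aE H φ)).hom.1 ≫ σ.map (hE H φ)) = bmap (PP σ) φ := by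
    rw [← e1]
    rfl
  have h1 := F.map_congr e1 (g := bmap (PP σ) φ) rfl
  refine h1.trans ?_
  exact tw_map (hF (σ.obj t')) (aE H φ) (σ.map (hE H φ)) (bmap_hE H φ) e0

theorem full : ((TwSh.isTwistedQ 𝒳 ι χ d).ι ⋙ comapQ (sb σ)).Full := by
  refine ⟨fun {F G} w => ?_⟩
  have hF := isTwisted_iff.1 F.property
  have hG := isTwisted_iff.1 G.property
  let W : Mod.comap (jb σ) F.obj.obj ⟶ Mod.comap (jb σ) G.obj.obj := ⟨fun t => w.hom.app t, by
    intro t' t φ g hg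
    subst hg
    have h1 := map_jb H hF φ
    have h2 := map_jb H hG φ
    have h3 := w.hom.comm (ξ' := t') (ξ := t) (hE H φ) (bmap_hE H φ)
    change post ((Mod.comap (jb σ) F.obj.obj).map φ rfl) (w.hom.app t') =
      (show Arr (bmap (PP σ) φ) _ _ from w.hom.app t ≫ (Mod.comap (jb σ) G.obj.obj).map φ rfl)
    rw [h1, h2]
    refine (post_sm _ _ _).trans (Eq.trans ?_ (pre_sm _ _ _).symm)
    exact congrArg (sm (X := sch (PP σ) t') (Y := sch (PP σ) t) (sca χ d (σ.obj t') (aE H φ))) h3⟩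
  have := comapQ_full H.locJ
  obtain ⟨u, hu⟩ := (comapQ (jb σ)).map_surjective (ObjectProperty.homMk W : (comapQ (jb σ)).obj F.obj ⟶
    (comapQ (jb σ)).obj G.obj)
  refine ⟨ObjectProperty.homMk u, ?_⟩
  apply InducedCategory.hom_ext
  apply Mod.hom_ext
  intro t
  have h4 : Mod.comapMap (jb σ) u.hom = W := congrArg (fun z => z.hom) hu
  have h3 : (Mod.comapMap (jb σ) u.hom).app t = W.app t := by rw [h4]
  exact h3

theorem essSurj : ((TwSh.isTwistedQ 𝒳 ι χ d).ι ⋙ comapQ (sb σ)).EssSurj := by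
  have := H.fibX
  refine ⟨fun G => ?_⟩
  let P : QCoh (PP σ) := ⟨twMod H χ d G.obj, isQCoh_twMod H χ d G.property⟩
  have hT : ∀ y, Triv (jb σ) P.obj y := by
    intro y t' t φ φ' α h g hg hg'
    have h1 : φ = φ' := by
      apply InducedCategory.hom_ext
      have hb : 𝒳.p.map φ.hom = 𝒳.p.map φ'.hom := by
        ext
        exact hg.trans hg'.symm
      exact fac_unique (𝒳 := 𝒳) α _ _ hb h
    subst h1
    rfl
  obtain ⟨F, ⟨e⟩⟩ := exists_descend H.locJ P hT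
  let E : ∀ t : C, (show (sch (PP σ) t).Modules from G.obj.obj t) ≅
      (show (sch (PP σ) t).Modules from F.obj.obj (σ.obj t)) :=
    fun t => ⟨e.hom.hom.app t, e.inv.hom.app t, by
      have h : e.hom ≫ e.inv = 𝟙 _ := e.hom_inv_id
      exact congrArg (fun z => Mod.Hom.app z t) (congrArg (fun z => z.hom) h), by
      have h : e.inv ≫ e.hom = 𝟙 _ := e.inv_hom_id
      exact congrArg (fun z => Mod.Hom.app z t) (congrArg (fun z => z.hom) h)⟩
  have hmap : ∀ {t' t : (PP σ).obj} (φ : t' ⟶ t), post (twMap H χ d G.obj φ) (E t').hom =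
      (show Arr (bmap (PP σ) φ) _ _ from (E t).hom ≫ F.obj.map (ξ' := σ.obj t') (ξ := σ.obj t) φ.hom rfl) := by
    intro t' t φ
    have h1 := post_map e.hom.hom φ rfl
    exact (h1.trans (congrArg (fun z => (E t).hom ≫ z) (comap_jb_map σ F.obj φ rfl)))
  have htw : ∀ t, TwAt F.obj ι χ d (σ.obj t) := by
    intro t a U s
    let φ : @Quiver.Hom (PP σ).obj _ t t := InducedCategory.homMk (ι.hom (σ.obj t) a).hom.1
    have hφ : φ.hom = (ι.hom (σ.obj t) a).hom.1 ≫ σ.map (𝟙 t) := by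
      rw [σ.map_id]
      exact (Category.comp_id _).symm
    have hb0 : bmap (PP σ) φ = 𝟙 _ := TwSh.bmap_autO (σ.obj t) _
    have hb : bmap (TT σ) (ξ' := t) (ξ := t) (𝟙 t) = bmap (PP σ) φ :=
      (bmap_id (𝒳 := TT σ) t).trans hb0.symm
    have h1 := hmap φ
    rw [twMap_eq H χ d G.obj φ a (𝟙 t) hφ hb] at h1
    have hle : U ≤ bmap (PP σ) φ ⁻¹ᵁ U := by
      rw [hb0]
      exact le_rfl
    obtain ⟨s', rfl⟩ : ∃ s', ap (E t).hom U s' = s := ⟨ap (E t).inv U s, by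
      rw [← ap_comp, Iso.inv_hom_id, ap_id]⟩
    have h2 := av_congr h1 hle s'
    rw [av_post, av_sm, ap_smul] at h2
    have h3 := av_map_id (σ := σ) G.obj t _ hb hle s'
    rw [h3] at h2
    refine Eq.trans ?_ h2.symm
    exact av_map_congr F.obj φ.hom _ _ _ _ _
  have htw' : ∀ ξ, TwAt F.obj ι χ d ξ := by
    intro ξ
    obtain ⟨x, α, hα⟩ := (H.locJ ξ).cov
    have hbs : ∀ i, bs (jb σ) (α i) = bmap 𝒳 (α i) := by
      intro i
      refine (bs_eq (jb σ) (α i)).trans ?_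
      rw [eqToHom_refl]
      exact Category.id_comp _
    have hcov : IsCov (fun i => bmap 𝒳 (ξ' := σ.obj (x i)) (ξ := ξ) (α i)) := by
      have h2 : (fun i => bs (jb σ) (α i)) = (fun i => bmap 𝒳 (ξ' := σ.obj (x i)) (ξ := ξ) (α i)) := funext hbs
      rw [← h2]
      exact hα
    exact twAt_of_cover F.property.1 F.property.2 (fun i => σ.obj (x i)) α hcov (fun i => htw (x i))
  refine ⟨⟨F, isTwisted_iff.2 htw'⟩, ⟨((isQCoh (TT σ)).isoMk (Mod.isoMk (fun t => E t) ?_)).symm⟩⟩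
  intro t' t h g hg
  subst hg
  let φ : @Quiver.Hom (PP σ).obj _ t' t := InducedCategory.homMk (σ.map h)
  have hφ : φ.hom = (ι.hom (σ.obj t') 1).hom.1 ≫ σ.map h := by
    rw [band_one]
    exact (Category.id_comp _).symm
  have h1 := hmap φ
  rw [twMap_eq H χ d G.obj φ 1 h hφ rfl, sca_one, sm_one] at h1
  exact h1.trans (congrArg (fun z => (E t).hom ≫ z) (comap_sb_map σ F.obj (t' := t') (t := t) h rfl)).symm

end

end K799.Sect
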