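import Groth.Agent.TwSh.K799.ZObj
import Groth.Agent.TwSh.K799.SectMain
import Groth.Agent.TwSh.K799.PushA

/-!
# Push forward of modules along an affine base change
-/

set_option autoImplicit false
set_option backward.isDefEq.respectTransparency false
set_option backward.isDefEq.respectTransparency.types false

universe t v' w' v w u

open CategoryTheory CategoryTheory.Limits AlgebraicGeometry Opposite TopologicalSpace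
open Groth.Agent.Desc.QD
open StMod K799.Arr K799.StM K799.Cover

namespace K799.StM

theorem av_map_id {S : Scheme.{u}} {𝒳 : BasedCategory.{v, w} (Over S)} (F : Mod 𝒳) {ξ : 𝒳.obj} (θ : ξ ⟶ ξ)
    (hθ : θ = 𝟙 ξ) {g : sch 𝒳 ξ ⟶ sch 𝒳 ξ} (hg : bmap 𝒳 θ = g) {U : (sch 𝒳 ξ).Opens} (e : U ≤ g ⁻¹ᵁ U)
    (s : Γ(F.obj ξ, U)) : av (F.map θ hg) e s = s := by
  subst hθ
  obtain rfl : 𝟙 _ = g := by rw [← hg]; exact (bmap_id ξ).symm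
  refine (av_congr (map_id_eq F ξ hg) e s).trans ?_
  rw [av_idA]
  exact rs_refl _ _ _

theorem av_map_comp {S : Scheme.{u}} {𝒳 : BasedCategory.{v, w} (Over S)} (F : Mod 𝒳) {ξ'' ξ' ξ : 𝒳.obj}
    (ψ : ξ'' ⟶ ξ') (φ : ξ' ⟶ ξ) (θ : ξ'' ⟶ ξ) (hθ : θ = ψ ≫ φ) {U : (sch 𝒳 ξ).Opens} {V : (sch 𝒳 ξ').Opens}
    {W : (sch 𝒳 ξ'').Opens} (e : V ≤ bmap 𝒳 φ ⁻¹ᵁ U) (e' : W ≤ bmap 𝒳 ψ ⁻¹ᵁ V) (e'' : W ≤ bmap 𝒳 θ ⁻¹ᵁ U)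
    (s : Γ(F.obj ξ, U)) : av (F.map ψ rfl) e' (av (F.map φ rfl) e s) = av (F.map θ rfl) e'' s := by
  subst hθ
  have h1 := comp_map F ψ φ rfl rfl (bmap 𝒳 (ψ ≫ φ)) (bmap_comp ψ φ).symm rfl
  have h2 := av_comp (F.map φ rfl) (F.map ψ rfl) (bmap 𝒳 (ψ ≫ φ)) (bmap_comp ψ φ).symm e e' e'' s
  exact h2.symm.trans (av_congr h1 e'' s)

theorem av_map_congr' {S : Scheme.{u}} {𝒳 : BasedCategory.{v, w} (Over S)} (F : Mod 𝒳) {ξ' ξ : 𝒳.obj} {φ φ' : ξ' ⟶ ξ}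
    (h : φ = φ') {g g' : sch 𝒳 ξ' ⟶ sch 𝒳 ξ} (hg : bmap 𝒳 φ = g) (hg' : bmap 𝒳 φ' = g') {U : (sch 𝒳 ξ).Opens}
    {V : (sch 𝒳 ξ').Opens} (e : V ≤ g ⁻¹ᵁ U) (e' : V ≤ g' ⁻¹ᵁ U) (s : Γ(F.obj ξ, U)) :
    av (F.map φ hg) e s = av (F.map φ' hg') e' s := by
  subst h; subst hg; subst hg'; rfl

end K799.StM

namespace K799.PushTw

open K799.ZObj

variable {S : Scheme.{u}} {X : Over S} {𝒳 : BasedCategory.{v, w} (Over S)} (π : 𝒳 ⥤ᵇ AlgSt.ofSch X)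
  (η : (AlgSt.ofSch X).obj) (hX : FibCat.IsFibGrpd 𝒳.p)

theorem sq {ξ' ξ : 𝒳.obj} (φ : ξ' ⟶ ξ) : bmap 𝒳 (zm π η hX φ).left ≫ bmap 𝒳 (c π η hX ξ) =
    bmap 𝒳 (c π η hX ξ') ≫ bmap 𝒳 φ := (isPullback_zm π η hX φ).w

/-- The value of the push forward. -/
noncomputable def pobj (L : Mod (fibCat π η)) (ξ : 𝒳.obj) : (sch 𝒳 ξ).Modules :=
  PF (bmap 𝒳 (c π η hX ξ)) (L.obj (z π η hX ξ))

/-- The comparison arrows of the push forward. -/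
noncomputable def pmap (L : Mod (fibCat π η)) {ξ' ξ : 𝒳.obj} (φ : ξ' ⟶ ξ) :
    Arr (bmap 𝒳 φ) (pobj π η hX L ξ) (pobj π η hX L ξ') :=
  pushA (sq π η hX φ) (L.map (zm π η hX φ) rfl)

theorem le_sq {ξ' ξ : 𝒳.obj} (φ : ξ' ⟶ ξ) {V : (sch 𝒳 ξ).Opens} {V' : (sch 𝒳 ξ').Opens}
    (e : V' ≤ bmap 𝒳 φ ⁻¹ᵁ V) : bmap 𝒳 (c π η hX ξ') ⁻¹ᵁ V' ≤
      bmap 𝒳 (zm π η hX φ).left ⁻¹ᵁ (bmap 𝒳 (c π η hX ξ) ⁻¹ᵁ V) :=
  Groth.Agent.CohqA.AffineBaseChange.preimage_le (sq π η hX φ) V V' e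

theorem av_pmap (L : Mod (fibCat π η)) {ξ' ξ : 𝒳.obj} (φ : ξ' ⟶ ξ) {V : (sch 𝒳 ξ).Opens}
    {V' : (sch 𝒳 ξ').Opens} (e : V' ≤ bmap 𝒳 φ ⁻¹ᵁ V) (x : Γ(L.obj (z π η hX ξ), bmap 𝒳 (c π η hX ξ) ⁻¹ᵁ V)) :
    av (pmap π η hX L φ) e (show Γ(pobj π η hX L ξ, V) from x) =
      (show Γ(pobj π η hX L ξ', V') from av (L.map (zm π η hX φ) rfl) (le_sq π η hX φ e) x) :=
  av_pushA (sq π η hX φ) (L.map (zm π η hX φ) rfl) e (le_sq π η hX φ e) x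

/-- The push forward of a module. -/
noncomputable def push (L : Mod (fibCat π η)) : Mod 𝒳 :=
  mkMod (fun ξ => pobj π η hX L ξ) (fun φ => pmap π η hX L φ) (by
    intro ξ U s e
    refine (av_pmap π η hX L (𝟙 ξ) e s).trans ?_
    exact av_map_id L (zm π η hX (𝟙 ξ)) (zm_id π η hX ξ) rfl _ s) (by
    intro ξ'' ξ' ξ ψ φ w
    apply ext
    intro U s
    have h1 := av_comp (pmap π η hX L φ) (pmap π η hX L ψ) (bmap 𝒳 (ψ ≫ φ)) w (le_refl (bmap 𝒳 φ ⁻¹ᵁ U))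
      (le_pre w U) (le_refl (bmap 𝒳 (ψ ≫ φ) ⁻¹ᵁ U)) s
    refine h1.trans ?_
    have h2 := av_pmap π η hX L φ (le_refl (bmap 𝒳 φ ⁻¹ᵁ U)) s
    have h3 := av_pmap π η hX L ψ (le_pre w U) (av (L.map (zm π η hX φ) rfl)
      (le_sq π η hX φ (le_refl (bmap 𝒳 φ ⁻¹ᵁ U))) s)
    have h4 := av_pmap π η hX L (ψ ≫ φ) (le_refl (bmap 𝒳 (ψ ≫ φ) ⁻¹ᵁ U)) s
    refine (congrArg _ h2).trans (h3.trans (Eq.trans ?_ h4.symm))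
    exact av_map_comp L (zm π η hX ψ) (zm π η hX φ) (zm π η hX (ψ ≫ φ)) (zm_comp π η hX ψ φ) _ _ _ s)

theorem isAffineHom_c [IsAffineHom η.sec.down.left] (ξ : 𝒳.obj) : IsAffineHom (bmap 𝒳 (c π η hX ξ)) :=
  MorphismProperty.of_isPullback (isPullback_z π η hX ξ).flip ‹_›

theorem isQCoh_push [IsAffineHom η.sec.down.left] {L : Mod (fibCat π η)} (hL : isQCoh _ L) :
    isQCoh 𝒳 (push π η hX L) := by
  have haff : ∀ ξ, IsAffineHom (bmap 𝒳 (c π η hX ξ)) := isAffineHom_c π η hX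
  refine ⟨isCartesian_of (fun {ξ' ξ} φ => ?_), fun ξ => ?_⟩
  · exact isCart_pushA (isPullback_zm π η hX φ) (hL.2 _) (isCart_map hL.1 (zm π η hX φ) rfl)
  · have hM := hL.2 (z π η hX ξ)
    exact Groth.Agent.Ega1.QcqsPush.isQCoh_pushforward (bmap 𝒳 (c π η hX ξ)) (L.obj (z π η hX ξ)) hM

section Tw

variable {A : (Over S)ᵒᵖ ⥤ GrpCat.{u}} (ι : TwSh.BandHom 𝒳 A) (χ : A ⟶ TwSh.GmPsh S) (d : ℤ)
  (hι : ∀ (ξ : 𝒳.obj) (a : A.obj (op (𝒳.p.obj ξ))), π.map (ι.hom ξ a).hom.1 = 𝟙 _)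

theorem zm_band (ξ : 𝒳.obj) (a : A.obj (op (𝒳.p.obj ξ))) :
    zm π η hX (ι.hom ξ a).hom.1 =
      ((TwSh.BandHom.fib π η ι hι).hom (z π η hX ξ) (A.map (𝒳.p.map (c π η hX ξ)).op a)).hom.1 := by
  apply zlift_unique
  rw [zm_c]
  exact (ι.natural (c π η hX ξ) a).symm

theorem twAt_push {L : Mod (fibCat π η)} (hL : ∀ w, TwAt L (TwSh.BandHom.fib π η ι hι) χ d w) (ξ : 𝒳.obj) :
    TwAt (push π η hX L) ι χ d ξ := by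
  intro a U s
  set a' := A.map (𝒳.p.map (c π η hX ξ)).op a with ha'
  have hb : bmap 𝒳 (ι.hom ξ a).hom.1 = 𝟙 _ := TwSh.bmap_autO ξ _
  have e0 : U ≤ bmap 𝒳 (ι.hom ξ a).hom.1 ⁻¹ᵁ U := by rw [hb]; exact le_rfl
  have h1 : av ((push π η hX L).map (ι.hom ξ a).hom.1 (TwSh.bmap_autO ξ _)) (V := U) (U := U) le_rfl s =
      av ((push π η hX L).map (ι.hom ξ a).hom.1 rfl) e0 s := Sect.av_map_congr _ _ _ _ _ _ _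
  have h2 := av_pmap π η hX L (ι.hom ξ a).hom.1 e0 s
  have h3 : av (L.map (zm π η hX (ι.hom ξ a).hom.1) rfl) (le_sq π η hX (ι.hom ξ a).hom.1 e0) s =
      av (L.map ((TwSh.BandHom.fib π η ι hι).hom (z π η hX ξ) a').hom.1 (TwSh.bmap_autO (𝒳 := fibCat π η) _ _))
        (V := bmap 𝒳 (c π η hX ξ) ⁻¹ᵁ U) (U := bmap 𝒳 (c π η hX ξ) ⁻¹ᵁ U) le_rfl s :=
    av_map_congr' L (zm_band π η hX ι hι ξ a) _ _ _ _ _
  have h4 := hL (z π η hX ξ) a' (bmap 𝒳 (c π η hX ξ) ⁻¹ᵁ U) s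
  have h5 : sca (𝒳 := fibCat π η) χ d (z π η hX ξ) a' = (bmap 𝒳 (c π η hX ξ)).appTop (sca χ d ξ a) :=
    sca_map (c π η hX ξ) a
  have h6 := appLE_resTop (bmap 𝒳 (c π η hX ξ)) U (bmap 𝒳 (c π η hX ξ) ⁻¹ᵁ U) le_rfl (sca χ d ξ a)
  rw [Scheme.Hom.appLE_eq_app] at h6
  refine h1.trans (h2.trans (h3.trans (h4.trans ?_)))
  rw [h5]
  exact (congrArg (fun r => r • (show Γ(L.obj (z π η hX ξ), bmap 𝒳 (c π η hX ξ) ⁻¹ᵁ U) from s)) h6).symm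

end Tw

end K799.PushTw
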