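import Groth.Agent.TwSh.K799.TwLoc

/-!
# Twisted modules on a gerbe with a section

`main_iso`: for `σ : C ⥤ 𝒳.obj` (a functor over `(Sch/S)` with the induced structure functor) which is locally surjective
on objects and such that every morphism between its values is, uniquely, an element of the band followed by the image
of a morphism, inverse image along `σ` is an equivalence from twisted quasi-coherent modules to quasi-coherent modules.
-/

set_option autoImplicit false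
set_option backward.isDefEq.respectTransparency false
set_option backward.isDefEq.respectTransparency.types false

universe t v' w' v w u

open CategoryTheory CategoryTheory.Limits AlgebraicGeometry Opposite TopologicalSpace
open Groth.Agent.Desc.QD
open StMod K799.Arr K799.StM K799.Cover

namespace K799.Arr

section Sm

variable {X Y Z : Scheme.{u}} {g : X ⟶ Y} {M : Y.Modules} {N : X.Modules}

theorem ap_scalarEnd (N : X.Modules) (r : Γ(X, ⊤)) (V : X.Opens) (s : Γ(N, V)) :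
    ap (TwSh.scalarEnd N r) V s = TwSh.resTop X V r • s := TwSh.scalarEnd_app_apply N r V s

/-- Multiply an arrow by a global function of the source scheme. -/
noncomputable def sm (r : Γ(X, ⊤)) (m : Arr g M N) : Arr g M N := post m (TwSh.scalarEnd N r)

theorem av_sm (r : Γ(X, ⊤)) (m : Arr g M N) {U : Y.Opens} {V : X.Opens} (e : V ≤ g ⁻¹ᵁ U) (s : Γ(M, U)) :
    av (sm r m) e s = TwSh.resTop X V r • av m e s := by
  rw [sm, av_post, ap_scalarEnd]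

theorem comp_sm_right {h : Z ⟶ X} {P : Z.Modules} (m : Arr g M N) (r : Γ(Z, ⊤)) (n : Arr h N P) (k : Z ⟶ Y)
    (w : h ≫ g = k) : comp m (sm r n) k w = sm r (comp m n k w) := (post_comp _ _ _ _).symm

theorem comp_sm_left {h : Z ⟶ X} {P : Z.Modules} (r : Γ(X, ⊤)) (m : Arr g M N) (n : Arr h N P) (k : Z ⟶ Y)
    (w : h ≫ g = k) : comp (sm r m) n k w = sm (h.appTop r) (comp m n k w) := by
  apply ext
  intro U s
  have h1 := av_comp (sm r m) n k w (le_refl (g ⁻¹ᵁ U)) (le_pre w U) (le_refl (k ⁻¹ᵁ U)) s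
  have h2 := av_comp m n k w (le_refl (g ⁻¹ᵁ U)) (le_pre w U) (le_refl (k ⁻¹ᵁ U)) s
  rw [av_sm, h1, h2, av_sm, av_smul, appLE_resTop]

theorem sm_sm (r r' : Γ(X, ⊤)) (m : Arr g M N) : sm r (sm r' m) = sm (r * r') m := by
  apply ext
  intro U s
  rw [av_sm, av_sm, av_sm, smul_smul, map_mul]

theorem sm_one (m : Arr g M N) : sm 1 m = m := by
  rw [sm, scalarEnd_one, post_id]

theorem scalarEnd_comp (N : X.Modules) (r r' : Γ(X, ⊤)) :
    TwSh.scalarEnd N r ≫ TwSh.scalarEnd N r' = TwSh.scalarEnd N (r' * r) := by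
  apply ap_ext
  intro U s
  rw [ap_comp, ap_scalarEnd, ap_scalarEnd, ap_scalarEnd, smul_smul, map_mul]

theorem isIso_scalarEnd (N : X.Modules) (r : (Γ(X, ⊤))ˣ) : IsIso (TwSh.scalarEnd N r.val) :=
  ⟨TwSh.scalarEnd N r⁻¹.val, by rw [scalarEnd_comp, Units.inv_mul, scalarEnd_one], by
    rw [scalarEnd_comp, Units.mul_inv, scalarEnd_one]⟩

theorem isCart_sm {m : Arr g M N} (hm : IsCart m) (r : (Γ(X, ⊤))ˣ) : IsCart (sm r.val m) := by
  have := isIso_scalarEnd N r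
  exact isCart_post hm _

/-- Morphisms of modules are linear over global functions. -/
theorem scalarEnd_naturality {N N' : X.Modules} (φ : N ⟶ N') (r : Γ(X, ⊤)) :
    TwSh.scalarEnd N r ≫ φ = φ ≫ TwSh.scalarEnd N' r := by
  apply ap_ext
  intro U s
  rw [ap_comp, ap_comp, ap_scalarEnd, ap_scalarEnd, ap_smul]

theorem post_sm {N' : X.Modules} (r : Γ(X, ⊤)) (m : Arr g M N) (φ : N ⟶ N') :
    post (sm r m) φ = sm r (post m φ) := by
  rw [sm, sm, post_post, post_post, scalarEnd_naturality]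

theorem pre_sm {M' : Y.Modules} (r : Γ(X, ⊤)) (m : Arr g M N) (φ : M' ⟶ M) :
    (show Arr g M' N from φ ≫ sm r m) = sm r (show Arr g M' N from φ ≫ m) := by
  apply ext
  intro U s
  rw [av_sm]
  exact av_sm r m _ (ap φ U s)

end Sm

end K799.Arr

namespace K799.Sect

variable {S : Scheme.{u}} {𝒳 : BasedCategory.{v, w} (Over S)} {C : Type w'} [Category.{v'} C] (σ : C ⥤ 𝒳.obj)

/-- `C` over `(Sch/S)` through `σ`. -/
abbrev TT : BasedCategory.{v', w'} (Over S) := BasedCategory.ofFunctor (σ ⋙ 𝒳.p)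

/-- `σ` as a based functor. -/
abbrev sb : TT σ ⥤ᵇ 𝒳 where
  toFunctor := σ
  w := rfl

/-- The full image of `σ`. -/
abbrev PP : BasedCategory.{v, w'} (Over S) := BasedCategory.ofFunctor (inducedFunctor σ.obj ⋙ 𝒳.p)

/-- The inclusion of the full image. -/
abbrev jb : PP σ ⥤ᵇ 𝒳 where
  toFunctor := inducedFunctor σ.obj
  w := rfl

/-- The functor to the full image. -/
def tf : C ⥤ InducedCategory 𝒳.obj σ.obj where
  obj t := t
  map h := InducedCategory.homMk (σ.map h)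

/-- The functor to the full image. -/
abbrev tb : TT σ ⥤ᵇ PP σ where
  toFunctor := tf σ
  w := rfl

theorem comap_sb_obj (F : Mod 𝒳) (t : C) : (Mod.comap (sb σ) F).obj t = F.obj (σ.obj t) := rfl

theorem comap_sb_map (F : Mod 𝒳) {t' t : (TT σ).obj} (φ : t' ⟶ t) {g : sch (TT σ) t' ⟶ sch (TT σ) t}
    (hg : bmap (TT σ) φ = g) :
    (Mod.comap (sb σ) F).map φ hg = F.map (ξ' := σ.obj t') (ξ := σ.obj t) (σ.map φ) hg := by
  rw [Mod.comap_map, castMap_rfl, Mod.map_comp_pushforwardCongr]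

theorem comap_jb_map (F : Mod 𝒳) {t' t : (PP σ).obj} (φ : t' ⟶ t) {g : sch (PP σ) t' ⟶ sch (PP σ) t}
    (hg : bmap (PP σ) φ = g) :
    (Mod.comap (jb σ) F).map φ hg = F.map (ξ' := σ.obj t') (ξ := σ.obj t) φ.hom hg := by
  rw [Mod.comap_map, castMap_rfl, Mod.map_comp_pushforwardCongr]
  rfl

theorem comap_tb_map (F : Mod (PP σ)) {t' t : (TT σ).obj} (φ : t' ⟶ t) {g : sch (TT σ) t' ⟶ sch (TT σ) t}
    (hg : bmap (TT σ) φ = g) :
    (Mod.comap (tb σ) F).map φ hg = F.map (ξ' := t') (ξ := t) (InducedCategory.homMk (σ.map φ)) hg := by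
  rw [Mod.comap_map, castMap_rfl, Mod.map_comp_pushforwardCongr]
  rfl

/-- A constructor for categories fibred in groupoids. -/
theorem isFibGrpd_mk {D : Type w'} [Category.{v'} D] {p : D ⥤ Over S}
    (h1 : ∀ {x : D} {V : Over S} (f : V ⟶ p.obj x), ∃ (y : D) (φ : y ⟶ x), p.IsHomLift f φ)
    (h2 : ∀ {x y z : D} (φ : x ⟶ y) (ψ : z ⟶ y) (g : p.obj z ⟶ p.obj x), g ≫ p.map φ = p.map ψ →
      ∃! χ : z ⟶ x, p.map χ = g ∧ χ ≫ φ = ψ) : FibCat.IsFibGrpd p where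
  exists_lift := h1
  isStronglyCartesian := fun {y x} φ =>
    { universal_property' := fun {a'} g φ' hφ' => by
        have hw : g ≫ p.map φ = p.map φ' := by
          simpa using (IsHomLift.fac' p (g ≫ p.map φ) φ').symm
        obtain ⟨χ, ⟨hχ1, hχ2⟩, hu⟩ := h2 φ φ' g hw
        refine ⟨χ, ⟨by rw [← hχ1]; exact IsHomLift.map p χ, hχ2⟩, ?_⟩
        rintro χ' ⟨h3, h4⟩
        exact hu χ' ⟨by simpa using IsHomLift.fac' p g χ', h4⟩ }

variable {A : (Over S)ᵒᵖ ⥤ GrpCat.{u}}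

/-- The standing hypotheses on a section. -/
structure Hyp (ι : TwSh.BandHom 𝒳 A) (σ : C ⥤ 𝒳.obj) : Prop where
  fibX : FibCat.IsFibGrpd 𝒳.p
  fibC : FibCat.IsFibGrpd (σ ⋙ 𝒳.p)
  faith : ∀ {t' t : C} (h h' : t' ⟶ t), 𝒳.p.map (σ.map h) = 𝒳.p.map (σ.map h') → h = h'
  surj : Gerb.LocSurjObj (Cover.J S) (sb σ)
  dec : ∀ {t' t : C} (φ : σ.obj t' ⟶ σ.obj t), ∃ (a : A.obj (op (𝒳.p.obj (σ.obj t')))) (h : t' ⟶ t),
    φ = (ι.hom (σ.obj t') a).hom.1 ≫ σ.map h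
  inj : ∀ t, Function.Injective (ι.hom (σ.obj t))

namespace Hyp

variable {ι : TwSh.BandHom 𝒳 A} {σ} (H : Hyp ι σ)

include H

theorem fibP : FibCat.IsFibGrpd (PP σ).p := by
  refine isFibGrpd_mk (fun {x} {V} f => ?_) (fun {x y z} φ ψ g w => ?_)
  · obtain ⟨y, φ, hφ⟩ := H.fibC.exists_lift (x := (x : C)) f
    refine ⟨y, InducedCategory.homMk (σ.map φ), ?_⟩
    have e : 𝒳.p.obj (σ.obj y) = V := IsHomLift.domain_eq (σ ⋙ 𝒳.p) f φ
    have h1 := map_eq_of_isHomLift (𝒳 := TT σ) f φ hφ e rfl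
    exact isHomLift_of_map_eq (𝒳 := PP σ) f _ e rfl h1
  · have := H.fibX
    obtain ⟨χ, ⟨h1, h2⟩, hu⟩ := existsUnique_fac (𝒳 := 𝒳) φ.hom ψ.hom g w
    refine ⟨InducedCategory.homMk χ, ⟨h1, InducedCategory.hom_ext h2⟩, ?_⟩
    rintro χ' ⟨h3, h4⟩
    apply InducedCategory.hom_ext
    exact hu χ'.hom ⟨h3, congrArg (fun z => z.hom) h4⟩

theorem locJ (ξ : 𝒳.obj) : Loc (jb σ) ξ := by
  refine loc_of_gerbe H.fibP H.fibX ⟨H.surj, ?_⟩ ξ
  intro x x' b hb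
  refine ⟨⊤, GrothendieckTopology.top_mem _ _, fun V f _ => ?_⟩
  obtain ⟨x₀, φ, hφ⟩ := H.fibP.exists_lift (x := x) f
  refine ⟨x₀, φ, φ ≫ InducedCategory.homMk b, hφ, ?_, rfl⟩
  have e : (PP σ).p.obj x₀ = V := IsHomLift.domain_eq (PP σ).p f φ
  have h1 := map_eq_of_isHomLift (𝒳 := PP σ) f φ hφ e rfl
  have e' : 𝒳.p.obj (σ.obj x) = 𝒳.p.obj (σ.obj x') :=
    (@IsHomLift.codomain_eq _ _ _ _ 𝒳.p _ _ _ _ (𝟙 (𝒳.p.obj (σ.obj x))) b hb).symm
  have h2 : 𝒳.p.map b = eqToHom rfl ≫ 𝟙 _ ≫ eqToHom e' := map_eq_of_isHomLift (𝒳 := 𝒳) (𝟙 _) b hb rfl e'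
  have h3 : (PP σ).p.map (InducedCategory.homMk b : x ⟶ x') = eqToHom e' := by
    refine Eq.trans h2 ?_
    simp
  refine isHomLift_of_map_eq (𝒳 := PP σ) f _ e e' ?_
  rw [Functor.map_comp, h1, h3]
  simp

theorem uniq {t' t : C} {a a' : A.obj (op (𝒳.p.obj (σ.obj t')))} {h h' : t' ⟶ t}
    (e : (ι.hom (σ.obj t') a).hom.1 ≫ σ.map h = (ι.hom (σ.obj t') a').hom.1 ≫ σ.map h') : a = a' ∧ h = h' := by
  have := H.fibX
  have h1 := congrArg 𝒳.p.map e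
  rw [Functor.map_comp, Functor.map_comp, TwSh.map_autO_hom, TwSh.map_autO_hom, Category.id_comp,
    Category.id_comp] at h1
  have h2 := H.faith h h' h1
  subst h2
  refine ⟨H.inj t' ?_, rfl⟩
  apply Aut.ext
  apply Functor.Fiber.hom_ext
  exact fac_unique (𝒳 := 𝒳) (σ.map h) _ _
    ((TwSh.map_autO_hom _ (ι.hom _ a)).trans (TwSh.map_autO_hom _ (ι.hom _ a')).symm) e

end Hyp

section Dec

variable {ι : TwSh.BandHom 𝒳 A} {σ} (H : Hyp ι σ)

/-- The band component of a morphism. -/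
noncomputable def aE {t' t : (PP σ).obj} (φ : t' ⟶ t) : A.obj (op (𝒳.p.obj (σ.obj t'))) := (H.dec φ.hom).choose

/-- The base component of a morphism. -/
noncomputable def hE {t' t : (PP σ).obj} (φ : t' ⟶ t) : @Quiver.Hom C _ t' t :=
  (H.dec φ.hom).choose_spec.choose

theorem dec_eq {t' t : (PP σ).obj} (φ : t' ⟶ t) :
    φ.hom = (ι.hom (σ.obj t') (aE H φ)).hom.1 ≫ σ.map (hE H φ) := (H.dec φ.hom).choose_spec.choose_spec

theorem comps_eq {t' t : (PP σ).obj} (φ : t' ⟶ t) (a : A.obj (op (𝒳.p.obj (σ.obj t'))))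
    (h : @Quiver.Hom C _ t' t) (e : φ.hom = (ι.hom (σ.obj t') a).hom.1 ≫ σ.map h) :
    aE H φ = a ∧ hE H φ = h := H.uniq ((dec_eq H φ).symm.trans e)

theorem bmap_hE {t' t : (PP σ).obj} (φ : t' ⟶ t) :
    bmap (TT σ) (ξ' := t') (ξ := t) (hE H φ) = bmap (PP σ) φ := by
  have h1 := congrArg 𝒳.p.map (dec_eq H φ)
  rw [Functor.map_comp, TwSh.map_autO_hom, Category.id_comp] at h1
  exact (congrArg (fun z => z.left) h1).symm

theorem band_mul (ξ : 𝒳.obj) (a b : A.obj (op (𝒳.p.obj ξ))) :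
    (ι.hom ξ (a * b)).hom.1 = (ι.hom ξ b).hom.1 ≫ (ι.hom ξ a).hom.1 := by
  rw [map_mul]
  rfl

theorem band_one (ξ : 𝒳.obj) : (ι.hom ξ 1).hom.1 = 𝟙 ξ := by
  rw [map_one]
  rfl

theorem comps_id (t : (PP σ).obj) : aE H (𝟙 t) = 1 ∧ hE H (𝟙 t) = 𝟙 _ :=
  comps_eq H (𝟙 t) 1 (𝟙 _) (by
    rw [band_one, σ.map_id]
    exact (Category.comp_id _).symm)

theorem comps_comp {t'' t' t : (PP σ).obj} (ψ : t'' ⟶ t') (φ : t' ⟶ t) :
    aE H (ψ ≫ φ) = A.map (𝒳.p.map (σ.map (hE H ψ))).op (aE H φ) * aE H ψ ∧ hE H (ψ ≫ φ) = hE H ψ ≫ hE H φ := by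
  apply comps_eq
  have h1 : (ψ ≫ φ).hom = ψ.hom ≫ φ.hom := rfl
  have h2 := ι.natural (σ.map (hE H ψ)) (aE H φ)
  rw [h1, dec_eq H ψ, dec_eq H φ, band_mul, Functor.map_comp, Category.assoc, Category.assoc,
    ← Category.assoc (σ.map (hE H ψ)), ← h2, Category.assoc]

theorem sca_mul {χ : A ⟶ TwSh.GmPsh S} {d : ℤ} (ξ : 𝒳.obj) (a b : A.obj (op (𝒳.p.obj ξ))) :
    sca χ d ξ (a * b) = sca χ d ξ a * sca χ d ξ b := by
  have h1 : TwSh.charUnit χ ξ (a * b) = TwSh.charUnit χ ξ a * TwSh.charUnit χ ξ b :=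
    map_mul (χ.app (op (𝒳.p.obj ξ))).hom a b
  rw [sca, h1, mul_zpow, mul_inv]
  rfl

theorem sca_one {χ : A ⟶ TwSh.GmPsh S} {d : ℤ} (ξ : 𝒳.obj) : sca χ d ξ (1 : A.obj (op (𝒳.p.obj ξ))) = 1 := by
  have h1 : TwSh.charUnit χ ξ (1 : A.obj (op (𝒳.p.obj ξ))) = 1 := map_one (χ.app (op (𝒳.p.obj ξ))).hom
  rw [sca, h1, one_zpow, inv_one]
  rfl

end Dec

section Main

variable {ι : TwSh.BandHom 𝒳 A} {σ} (H : Hyp ι σ) (χ : A ⟶ TwSh.GmPsh S) (d : ℤ)

theorem comp_map' (G : Mod (TT σ)) {t'' t' t : C} (ψ : t'' ⟶ t') (φ : t' ⟶ t)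
    {h : sch (TT σ) t'' ⟶ sch (TT σ) t'} {g : sch (TT σ) t' ⟶ sch (TT σ) t}
    (hh : bmap (TT σ) (ξ' := t'') (ξ := t') ψ = h) (hg : bmap (TT σ) (ξ' := t') (ξ := t) φ = g)
    (k : sch (TT σ) t'' ⟶ sch (TT σ) t) (w : h ≫ g = k) (e : bmap (TT σ) (ξ' := t'') (ξ := t) (ψ ≫ φ) = k) :
    comp (G.map (ξ' := t') (ξ := t) φ hg) (G.map (ξ' := t'') (ξ := t') ψ hh) k w =
      G.map (ξ' := t'') (ξ := t) (ψ ≫ φ) e := comp_map (𝒳 := TT σ) G (ξ'' := t'') (ξ' := t') (ξ := t) ψ φ hh hg k w e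

theorem av_map_id (G : Mod (TT σ)) (t : C) (g : sch (TT σ) t ⟶ sch (TT σ) t)
    (hg : bmap (TT σ) (ξ' := t) (ξ := t) (𝟙 t) = g) {U : (sch (TT σ) t).Opens} (e : U ≤ g ⁻¹ᵁ U) (s : Γ(G.obj t, U)) :
    av (G.map (ξ' := t) (ξ := t) (𝟙 t) hg) e s = s := by
  obtain rfl : 𝟙 _ = g := by rw [← hg]; exact (bmap_id (𝒳 := TT σ) t).symm
  have h1 := map_id_eq (𝒳 := TT σ) G t hg
  refine (av_congr h1 e s).trans ?_
  rw [av_idA]
  exact rs_refl _ _ _

theorem isCart_map' {G : Mod (TT σ)} (hG : G.IsCartesian) {t' t : C} (φ : t' ⟶ t)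
    {g : sch (TT σ) t' ⟶ sch (TT σ) t} (hg : bmap (TT σ) (ξ' := t') (ξ := t) φ = g) :
    IsCart (X := sch (TT σ) t') (Y := sch (TT σ) t) (G.map (ξ' := t') (ξ := t) φ hg) :=
  isCart_map (𝒳 := TT σ) hG (ξ' := t') (ξ := t) φ hg

/-- The comparison arrows of the twisted module on the full image attached to a module on the base. -/
noncomputable def twMap (G : Mod (TT σ)) {t' t : (PP σ).obj} (φ : t' ⟶ t) :
    Arr (bmap (PP σ) φ) (show (sch (PP σ) t).Modules from G.obj t) (show (sch (PP σ) t').Modules from G.obj t') :=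
  sm (X := sch (PP σ) t') (Y := sch (PP σ) t) (sca χ d (σ.obj t') (aE H φ))
    (G.map (ξ' := t') (ξ := t) (hE H φ) (bmap_hE H φ))

theorem twMap_eq (G : Mod (TT σ)) {t' t : (PP σ).obj} (φ : t' ⟶ t) (a : A.obj (op (𝒳.p.obj (σ.obj t'))))
    (h : @Quiver.Hom C _ t' t) (e : φ.hom = (ι.hom (σ.obj t') a).hom.1 ≫ σ.map h)
    (hb : bmap (TT σ) (ξ' := t') (ξ := t) h = bmap (PP σ) φ) :
    twMap H χ d G φ = sm (X := sch (PP σ) t') (Y := sch (PP σ) t) (sca χ d (σ.obj t') a)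
      (G.map (ξ' := t') (ξ := t) h hb) := by
  obtain ⟨h1, h2⟩ := comps_eq H φ a h e
  subst h1; subst h2
  rfl

/-- The twisted module on the full image attached to a module on the base. -/
noncomputable def twMod (G : Mod (TT σ)) : Mod (PP σ) :=
  mkMod (fun t => G.obj t) (fun φ => twMap H χ d G φ) (by
    intro t U s e
    have hb : bmap (TT σ) (ξ' := t) (ξ := t) (𝟙 _) = bmap (PP σ) (𝟙 t) := by rw [bmap_id, bmap_id]; rfl
    rw [twMap_eq H χ d G (𝟙 t) 1 (𝟙 _) (by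
      rw [band_one, σ.map_id]
      exact (Category.comp_id _).symm) hb, sca_one, sm_one]
    exact av_map_id G _ _ hb e s) (by
    intro t'' t' t ψ φ w
    obtain ⟨h1, h2⟩ := comps_comp H ψ φ
    have e1 : (bmap (PP σ) ψ).appTop (sca χ d (σ.obj t') (aE H φ)) =
        sca χ d (σ.obj t'') (A.map (𝒳.p.map (σ.map (hE H ψ))).op (aE H φ)) := by
      rw [sca_map, ← bmap_hE H ψ]
      rfl
    have e2 : (ψ ≫ φ).hom = (ι.hom (σ.obj t'') (A.map (𝒳.p.map (σ.map (hE H ψ))).op (aE H φ) * aE H ψ)).hom.1 ≫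
        σ.map (CategoryStruct.comp (obj := C) (hE H ψ) (hE H φ)) := by
      rw [← h1, ← h2]
      exact dec_eq H (ψ ≫ φ)
    have e3 : bmap (TT σ) (ξ' := t'') (ξ := t) (CategoryStruct.comp (obj := C) (hE H ψ) (hE H φ)) = bmap (PP σ) (ψ ≫ φ) := by
      rw [← h2]
      exact bmap_hE H (ψ ≫ φ)
    rw [twMap_eq H χ d G (ψ ≫ φ) _ _ e2 e3, twMap, twMap, comp_sm_right, comp_sm_left, sm_sm, e1, sca_mul, mul_comm]
    congr 1
    exact comp_map' G (hE H ψ) (hE H φ) (bmap_hE H ψ) (bmap_hE H φ) _ w e3)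

theorem twMod_map (G : Mod (TT σ)) {t' t : (PP σ).obj} (φ : t' ⟶ t) :
    (twMod H χ d G).map φ rfl = twMap H χ d G φ := rfl

theorem isQCoh_twMod {G : Mod (TT σ)} (hG : isQCoh _ G) : isQCoh _ (twMod H χ d G) :=
  ⟨isCartesian_of (fun {t' t} φ => isCart_sm (isCart_map' hG.1 (hE H φ) (bmap_hE H φ))
    (TwSh.charUnit χ (σ.obj t') (aE H φ) ^ d)⁻¹), fun t => hG.2 t⟩

end Main

end K799.Sect
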