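import Groth.Prelude.Def_StMod6
import Groth.Agent.TwSh.K799.Loc

/-!
# Modules on a category over `(Sch/S)` in terms of arrows
-/

set_option autoImplicit false
set_option backward.isDefEq.respectTransparency false
set_option backward.isDefEq.respectTransparency.types false

universe t v' w' v w u

open CategoryTheory CategoryTheory.Limits AlgebraicGeometry Opposite TopologicalSpace
open Groth.Agent.Desc.QD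
open StMod K799.Arr

namespace K799.StM

section Cast

variable {X X' T T' Z : Scheme.{u}}

/-- The canonical arrow from a module to its transport along an equality of schemes. -/
noncomputable def cA (h : X = T) (M : X.Modules) (g : T ⟶ X) (_ : g = eqToHom h.symm) : Arr g M (castMod h M) :=
  Arr.congr (by subst h; exact idA M : Arr (eqToHom h.symm) M (castMod h M)) (by assumption : g = eqToHom h.symm).symm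

theorem cA_rfl (M : X.Modules) (e : 𝟙 X = eqToHom rfl) : cA (rfl : X = X) M (𝟙 X) e = idA M := rfl

theorem isCart_cA (h : X = T) (M : X.Modules) (g : T ⟶ X) (hg : g = eqToHom h.symm) : IsCart (cA h M g hg) := by
  subst h; subst hg
  exact isCart_idA M

theorem cA_castMap (hX : X = T) (hX' : X' = T') {g₁ : X' ⟶ X} {g : T' ⟶ T}
    (hg : g₁ ≫ eqToHom hX = eqToHom hX' ≫ g) {M : X.Modules} {N : X'.Modules} (m : Arr g₁ M N)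
    (c : T ⟶ X) (hc : c = eqToHom hX.symm) (c' : T' ⟶ X') (hc' : c' = eqToHom hX'.symm)
    (k : T' ⟶ X) (w : g ≫ c = k) (w' : c' ≫ g₁ = k) :
    comp (cA hX M c hc) (castMap hX hX' hg m) k w = comp m (cA hX' N c' hc') k w' := by
  subst hX; subst hX'; subst hc; subst hc'
  obtain rfl : g₁ = g := by simpa using hg
  obtain rfl : g₁ = k := by simpa using w
  rw [castMap_rfl_self]
  exact (idA_comp m w).trans (comp_idA m w').symm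

theorem cA_castHom (h : X = T) {M N : X.Modules} (a : M ⟶ N) (g : T ⟶ X) (hg : g = eqToHom h.symm) :
    post (cA h M g hg) (castHom h a) = (show Arr g M (castMod h N) from a ≫ cA h N g hg) := by
  subst h; subst hg
  apply ext
  intro U s
  rw [av_post]
  change ap a _ (rs M _ s) = rs N _ (ap a U s)
  rw [ap_rs]

theorem isQCoh_castMod (h : X = T) (M : X.Modules) (hM : Coh.IsQCoh M) : Coh.IsQCoh (castMod h M) := by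
  subst h; exact hM

end Cast

theorem isQCoh_of_isCart {X Y : Scheme.{u}} {g : X ⟶ Y} {M : Y.Modules} {N : X.Modules} {m : Arr g M N}
    (hm : IsCart m) (hM : Coh.IsQCoh M) : Coh.IsQCoh N := by
  have h1 : Coh.IsQCoh (PB g M) := Groth.Agent.VarietyB.PullSec.isQCoh_pullback g M hM
  have h2 : IsIso (adjS m) := hm
  exact (SheafOfModules.isQuasicoherent X.ringCatSheaf).prop_of_iso (asIso (adjS m)) h1

variable {S : Scheme.{u}} {𝒳 : BasedCategory.{v, w} (Over S)} {𝒴 : BasedCategory.{v', w'} (Over S)}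

section Mod

theorem comp_map (F : Mod 𝒳) {ξ'' ξ' ξ : 𝒳.obj} (ψ : ξ'' ⟶ ξ') (φ : ξ' ⟶ ξ)
    {h : sch 𝒳 ξ'' ⟶ sch 𝒳 ξ'} {g : sch 𝒳 ξ' ⟶ sch 𝒳 ξ} (hh : bmap 𝒳 ψ = h) (hg : bmap 𝒳 φ = g)
    (k : sch 𝒳 ξ'' ⟶ sch 𝒳 ξ) (w : h ≫ g = k) (e : bmap 𝒳 (ψ ≫ φ) = k) :
    comp (F.map φ hg) (F.map ψ hh) k w = F.map (ψ ≫ φ) e := by
  subst w
  apply ext
  intro U s
  have h1 := av_comp (F.map φ hg) (F.map ψ hh) (h ≫ g) rfl (le_refl (g ⁻¹ᵁ U)) (le_refl (h ⁻¹ᵁ (g ⁻¹ᵁ U)))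
    (le_refl ((h ≫ g) ⁻¹ᵁ U)) s
  refine h1.trans ?_
  rw [av_refl, av_refl, av_refl]
  have e := congrArg (fun f => (ConcreteCategory.hom f) s) (F.map_comp_app ψ φ hh hg U)
  exact e.symm

theorem map_id_eq (F : Mod 𝒳) (ξ : 𝒳.obj) (e : bmap 𝒳 (𝟙 ξ) = 𝟙 _) : F.map (𝟙 ξ) e = idA (F.obj ξ) := by
  apply ext
  intro U s
  rw [av_refl]
  have e := congrArg (fun f => (ConcreteCategory.hom f) s) (F.map_id_app ξ U)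
  refine Eq.trans e ?_
  exact (rs_refl (F.obj ξ) (le_refl U) s).symm

theorem isCart_map {F : Mod 𝒳} (hF : F.IsCartesian) {ξ' ξ : 𝒳.obj} (φ : ξ' ⟶ ξ) {g : sch 𝒳 ξ' ⟶ sch 𝒳 ξ}
    (hg : bmap 𝒳 φ = g) : IsCart (X := sch 𝒳 ξ') (Y := sch 𝒳 ξ) (F.map φ hg) := hF φ hg

theorem isCartesian_of {F : Mod 𝒳} (h : ∀ {ξ' ξ : 𝒳.obj} (φ : ξ' ⟶ ξ), IsCart (X := sch 𝒳 ξ') (Y := sch 𝒳 ξ)
    (F.map φ rfl)) : F.IsCartesian := by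
  intro ξ' ξ φ g hg
  subst hg
  exact h φ

theorem post_map {F G : Mod 𝒳} (u : F ⟶ G) {ξ' ξ : 𝒳.obj} (φ : ξ' ⟶ ξ) {g : sch 𝒳 ξ' ⟶ sch 𝒳 ξ}
    (hg : bmap 𝒳 φ = g) :
    post (F.map φ hg) (u.app ξ') = (show Arr g (F.obj ξ) (G.obj ξ') from u.app ξ ≫ G.map φ hg) :=
  u.comm φ hg

/-- A module from arrows. -/
noncomputable def mkMod (obj : ∀ ξ : 𝒳.obj, (sch 𝒳 ξ).Modules)
    (map : ∀ {ξ' ξ : 𝒳.obj} (φ : ξ' ⟶ ξ), Arr (bmap 𝒳 φ) (obj ξ) (obj ξ'))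
    (hid : ∀ (ξ : 𝒳.obj) (U : (sch 𝒳 ξ).Opens) (s : Γ(obj ξ, U)) (e : U ≤ bmap 𝒳 (𝟙 ξ) ⁻¹ᵁ U),
      av (map (𝟙 ξ)) e s = s)
    (hcomp : ∀ {ξ'' ξ' ξ : 𝒳.obj} (ψ : ξ'' ⟶ ξ') (φ : ξ' ⟶ ξ) (w : bmap 𝒳 ψ ≫ bmap 𝒳 φ = bmap 𝒳 (ψ ≫ φ)),
      comp (map φ) (map ψ) (bmap 𝒳 (ψ ≫ φ)) w = map (ψ ≫ φ)) : Mod 𝒳 where
  obj := obj
  map φ _ hg := Arr.congr (map φ) hg
  map_id ξ := by
    have h1 : Arr.congr (map (𝟙 ξ)) (bmap_id ξ) = idA (obj ξ) := by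
      apply ext
      intro U s
      rw [av_congrA]
      refine (hid ξ U s _).trans ?_
      exact (rs_refl (obj ξ) (le_refl U) s).symm
    rw [h1]
    exact (Scheme.Modules.pushforwardId (sch 𝒳 ξ)).inv_hom_id_app (obj ξ)
  map_comp {ξ'' ξ' ξ} ψ φ h g hh hg := by
    subst hh; subst hg
    have h0 : bmap 𝒳 ψ ≫ bmap 𝒳 φ = bmap 𝒳 (ψ ≫ φ) := (bmap_comp ψ φ).symm
    apply ext (g := bmap 𝒳 ψ ≫ bmap 𝒳 φ) (M := obj ξ) (N := obj ξ'')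
    intro U s
    rw [av_congrA, ← hcomp ψ φ h0]
    have h1 := av_comp (map φ) (map ψ) (bmap 𝒳 (ψ ≫ φ)) h0 (le_refl ((bmap 𝒳 φ) ⁻¹ᵁ U))
      (le_refl ((bmap 𝒳 ψ) ⁻¹ᵁ ((bmap 𝒳 φ) ⁻¹ᵁ U))) (pre_le h0 U) s
    refine h1.trans ?_
    rw [av_refl, av_refl, av_refl]
    rfl

@[simp] theorem mkMod_obj (obj : ∀ ξ : 𝒳.obj, (sch 𝒳 ξ).Modules)
    (map : ∀ {ξ' ξ : 𝒳.obj} (φ : ξ' ⟶ ξ), Arr (bmap 𝒳 φ) (obj ξ) (obj ξ')) (hid) (hcomp) (ξ : 𝒳.obj) :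
    (mkMod obj map hid hcomp).obj ξ = obj ξ := rfl

theorem mkMod_map (obj : ∀ ξ : 𝒳.obj, (sch 𝒳 ξ).Modules)
    (map : ∀ {ξ' ξ : 𝒳.obj} (φ : ξ' ⟶ ξ), Arr (bmap 𝒳 φ) (obj ξ) (obj ξ')) (hid) (hcomp) {ξ' ξ : 𝒳.obj}
    (φ : ξ' ⟶ ξ) : (mkMod obj map hid hcomp).map φ rfl = map φ := rfl

end Mod

section Bs

/-- The morphism of schemes under `α : j x ⟶ y`. -/
abbrev bs (j : 𝒳 ⥤ᵇ 𝒴) {x : 𝒳.obj} {y : 𝒴.obj} (α : j.obj x ⟶ y) : sch 𝒳 x ⟶ sch 𝒴 y := (baseOver j x α).left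

theorem bmap_comp_bs (j : 𝒳 ⥤ᵇ 𝒴) {x' x : 𝒳.obj} (φ : x' ⟶ x) {y : 𝒴.obj} (α : j.obj x ⟶ y) :
    bmap 𝒳 φ ≫ bs j α = bs j (j.map φ ≫ α) := bmap_comp_baseOver_left j φ α

theorem bs_comp (j : 𝒳 ⥤ᵇ 𝒴) {x : 𝒳.obj} {y y' : 𝒴.obj} (α : j.obj x ⟶ y) (ζ : y ⟶ y') :
    bs j (α ≫ ζ) = bs j α ≫ bmap 𝒴 ζ := by
  rw [bs, baseOver_comp]
  rfl

theorem bs_eq (j : 𝒳 ⥤ᵇ 𝒴) {x : 𝒳.obj} {y : 𝒴.obj} (α : j.obj x ⟶ y) :
    bs j α = eqToHom (sch_obj_eq j x).symm ≫ bmap 𝒴 α := by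
  simp only [bs, baseOver, Over.comp_left]
  rw [Over.eqToHom_left]

/-- The arrow from `F y` to the inverse image at `x`, for `α : j x ⟶ y`. -/
noncomputable def trA (j : 𝒳 ⥤ᵇ 𝒴) (F : Mod 𝒴) {x : 𝒳.obj} {y : 𝒴.obj} (α : j.obj x ⟶ y) (g : sch 𝒳 x ⟶ sch 𝒴 y)
    (hg : bs j α = g) : Arr g (F.obj y) ((Mod.comap j F).obj x) :=
  comp (F.map α rfl) (cA (sch_obj_eq j x) (F.obj (j.obj x)) _ rfl) g (by rw [← hg, bs_eq])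

theorem trA_congr (j : 𝒳 ⥤ᵇ 𝒴) (F : Mod 𝒴) {x : 𝒳.obj} {y : 𝒴.obj} {α α' : j.obj x ⟶ y} (h : α = α')
    (g : sch 𝒳 x ⟶ sch 𝒴 y) (hg : bs j α = g) : trA j F α g hg = trA j F α' g (h ▸ hg) := by
  subst h; rfl

theorem isCart_trA (j : 𝒳 ⥤ᵇ 𝒴) {F : Mod 𝒴} (hF : F.IsCartesian) {x : 𝒳.obj} {y : 𝒴.obj} (α : j.obj x ⟶ y)
    (g : sch 𝒳 x ⟶ sch 𝒴 y) (hg : bs j α = g) : IsCart (trA j F α g hg) :=
  isCart_comp (isCart_map hF α rfl) (isCart_cA _ _ _ _) _ _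

theorem comp_trA (j : 𝒳 ⥤ᵇ 𝒴) (F : Mod 𝒴) {x : 𝒳.obj} {y y' : 𝒴.obj} (α : j.obj x ⟶ y) (ζ : y ⟶ y')
    (g : sch 𝒳 x ⟶ sch 𝒴 y) (hg : bs j α = g) (h : sch 𝒴 y ⟶ sch 𝒴 y') (hh : bmap 𝒴 ζ = h)
    (k : sch 𝒳 x ⟶ sch 𝒴 y') (w : g ≫ h = k) (e : bs j (α ≫ ζ) = k) :
    comp (F.map ζ hh) (trA j F α g hg) k w = trA j F (α ≫ ζ) k e := by
  subst hh
  rw [trA, trA, ← comp_assoc (F.map ζ rfl) (F.map α rfl) _ (bmap 𝒴 (α ≫ ζ)) (bmap_comp α ζ).symm k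
    (by rw [← e, bs_eq]), comp_map F α ζ rfl rfl _ _ rfl]

theorem trA_map (j : 𝒳 ⥤ᵇ 𝒴) (F : Mod 𝒴) {x' x : 𝒳.obj} {y : 𝒴.obj} (α : j.obj x ⟶ y) (φ : x' ⟶ x)
    (g : sch 𝒳 x ⟶ sch 𝒴 y) (hg : bs j α = g) (h : sch 𝒳 x' ⟶ sch 𝒳 x) (hh : bmap 𝒳 φ = h)
    (k : sch 𝒳 x' ⟶ sch 𝒴 y) (w : h ≫ g = k) (e : bs j (j.map φ ≫ α) = k) :
    comp (trA j F α g hg) ((Mod.comap j F).map φ hh) k w = trA j F (j.map φ ≫ α) k e := by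
  subst hh
  have hb := bmap_map_comm j φ (rfl : bmap 𝒳 φ = bmap 𝒳 φ)
  have e1 : bmap 𝒳 φ ≫ eqToHom (sch_obj_eq j x).symm =
      eqToHom (sch_obj_eq j x').symm ≫ bmap 𝒴 (j.map φ) := by
    rw [← cancel_mono (eqToHom (sch_obj_eq j x)), Category.assoc, Category.assoc, hb]
    simp
  have e2 : (bmap 𝒳 φ ≫ eqToHom (sch_obj_eq j x).symm) ≫ bmap 𝒴 α = k := by
    rw [← w, ← hg, bs_eq, Category.assoc]
  rw [trA, comp_assoc (F.map α rfl) _ _ _ _ k w (bmap 𝒳 φ ≫ eqToHom (sch_obj_eq j x).symm) rfl e2,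
    Mod.comap_map, cA_castMap (sch_obj_eq j x) (sch_obj_eq j x') hb (F.map (j.map φ) rfl) _ rfl _ rfl _ rfl e1.symm,
    ← comp_assoc (F.map α rfl) (F.map (j.map φ) rfl) _ (bmap 𝒴 (j.map φ ≫ α)) (bmap_comp _ _).symm k
      (by rw [← e, bs_eq]), comp_map F (j.map φ) α rfl rfl _ _ rfl, trA]

theorem post_trA (j : 𝒳 ⥤ᵇ 𝒴) {F G : Mod 𝒴} (u : F ⟶ G) {x : 𝒳.obj} {y : 𝒴.obj} (α : j.obj x ⟶ y)
    (g : sch 𝒳 x ⟶ sch 𝒴 y) (hg : bs j α = g) :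
    post (trA j F α g hg) ((Mod.comapMap j u).app x) =
      (show Arr g (F.obj y) ((Mod.comap j G).obj x) from u.app y ≫ trA j G α g hg) := by
  rw [trA, trA, post_comp, Mod.comapMap_app, cA_castHom, comp_pre, post_map, pre_comp]

end Bs

end K799.StM
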