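import Groth.Agent.TwSh.K799.Gerbe

/-!
# Being twisted is local
-/

set_option autoImplicit false
set_option backward.isDefEq.respectTransparency false
set_option backward.isDefEq.respectTransparency.types false

universe t v' w' v w u

open CategoryTheory CategoryTheory.Limits AlgebraicGeometry Opposite TopologicalSpace
open Groth.Agent.Desc.QD
open StMod K799.Arr K799.StM K799.Cover

namespace K799.StM

variable {S : Scheme.{u}} {𝒳 : BasedCategory.{v, w} (Over S)} {A : (Over S)ᵒᵖ ⥤ GrpCat.{u}}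
  {F : Mod 𝒳} {ι : TwSh.BandHom 𝒳 A} {χ : A ⟶ TwSh.GmPsh S} {d : ℤ}

/-- The scalar through which `a` should act. -/
noncomputable abbrev sca (χ : A ⟶ TwSh.GmPsh S) (d : ℤ) (ξ : 𝒳.obj) (a : A.obj (op (𝒳.p.obj ξ))) :
    Γ(sch 𝒳 ξ, ⊤) := ((TwSh.charUnit χ ξ a ^ d)⁻¹).val

/-- Twistedness at one object. -/
def TwAt (F : Mod 𝒳) (ι : TwSh.BandHom 𝒳 A) (χ : A ⟶ TwSh.GmPsh S) (d : ℤ) (ξ : 𝒳.obj) : Prop :=
  ∀ (a : A.obj (op (𝒳.p.obj ξ))) (U : (sch 𝒳 ξ).Opens) (s : Γ(F.obj ξ, U)),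
    av (F.map (ι.hom ξ a).hom.1 (TwSh.bmap_autO ξ _)) (V := U) (U := U) le_rfl s =
      TwSh.resTop (sch 𝒳 ξ) U (sca χ d ξ a) • s

theorem isTwisted_iff : TwSh.IsTwisted F ι χ d ↔ ∀ ξ, TwAt F ι χ d ξ := by
  have key : ∀ (ξ : 𝒳.obj) (a : A.obj (op (𝒳.p.obj ξ))) (U : (sch 𝒳 ξ).Opens) (s : Γ(F.obj ξ, U)),
      av (F.map (ι.hom ξ a).hom.1 (TwSh.bmap_autO ξ _)) (V := U) (U := U) le_rfl s =
        (TwSh.inert F ξ (ι.hom ξ a)).app U s := by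
    intro ξ a U s
    exact (ap_toHom _ U s).symm
  constructor
  · intro h ξ a U s
    rw [key]
    exact h ξ a U s
  · intro h ξ a U s
    rw [← key]
    exact h ξ a U s

theorem appLE_resTop {X Y : Scheme.{u}} (f : X ⟶ Y) (U : Y.Opens) (V : X.Opens) (e : V ≤ f ⁻¹ᵁ U) (r : Γ(Y, ⊤)) :
    f.appLE U V e (TwSh.resTop Y U r) = TwSh.resTop X V (f.appTop r) := by
  have h1 : Y.presheaf.map (homOfLE (le_top : U ≤ ⊤)).op ≫ f.appLE U V e = f.appLE ⊤ V (le_top) := by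
    rw [Scheme.Hom.map_appLE]
  have h2 : f.appTop ≫ X.presheaf.map (homOfLE (le_top : V ≤ ⊤)).op = f.appLE ⊤ V le_top := by
    rw [Scheme.Hom.appLE]
  have h3 := congrArg (fun φ => φ.hom r) (h1.trans h2.symm)
  exact h3

theorem charUnit_map {ξ' ξ : 𝒳.obj} (φ : ξ' ⟶ ξ) (a : A.obj (op (𝒳.p.obj ξ))) :
    TwSh.charUnit χ ξ' (A.map (𝒳.p.map φ).op a) =
      Units.map ((bmap 𝒳 φ).appTop.hom.toMonoidHom) (TwSh.charUnit χ ξ a) := by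
  have h := congrArg (fun g => g.hom a) (χ.naturality (𝒳.p.map φ).op)
  exact h

theorem sca_map {ξ' ξ : 𝒳.obj} (φ : ξ' ⟶ ξ) (a : A.obj (op (𝒳.p.obj ξ))) :
    sca χ d ξ' (A.map (𝒳.p.map φ).op a) = (bmap 𝒳 φ).appTop (sca χ d ξ a) := by
  rw [sca, charUnit_map, ← map_zpow, ← map_inv]
  rfl

theorem twAt_of_cover (hF : F.IsCartesian) (hQ : F.IsLocQCoh) {ξ : 𝒳.obj} {I : Type t} (x : I → 𝒳.obj)
    (φ : ∀ i, x i ⟶ ξ) (hc : IsCov (fun i => bmap 𝒳 (φ i))) (h : ∀ i, TwAt F ι χ d (x i)) : TwAt F ι χ d ξ := by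
  intro a U s
  apply sec_ext' (fun i => bmap 𝒳 (φ i)) hc.mem (hQ ξ) (fun i => F.map (φ i) rfl) (fun i => isCart_map hF _ _)
  intro i
  have hb : bmap 𝒳 (ι.hom ξ a).hom.1 = 𝟙 _ := TwSh.bmap_autO ξ _
  have hb' : bmap 𝒳 (ι.hom (x i) (A.map (𝒳.p.map (φ i)).op a)).hom.1 = 𝟙 _ := TwSh.bmap_autO (x i) _
  have hn := ι.natural (φ i) a
  have e1 : bmap 𝒳 (φ i ≫ (ι.hom ξ a).hom.1) = bmap 𝒳 (φ i) := by rw [bmap_comp, hb, Category.comp_id]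
  have e2 : bmap 𝒳 ((ι.hom (x i) (A.map (𝒳.p.map (φ i)).op a)).hom.1 ≫ φ i) = bmap 𝒳 (φ i) := by
    rw [bmap_comp, hb', Category.id_comp]
  have c1 := comp_map F (φ i) (ι.hom ξ a).hom.1 rfl hb (bmap 𝒳 (φ i)) (Category.comp_id _) e1
  have c2 := comp_map F (ι.hom (x i) (A.map (𝒳.p.map (φ i)).op a)).hom.1 (φ i) hb' rfl (bmap 𝒳 (φ i))
    (Category.id_comp _) e2
  have c3 : F.map (φ i ≫ (ι.hom ξ a).hom.1) e1 =
    F.map ((ι.hom (x i) (A.map (𝒳.p.map (φ i)).op a)).hom.1 ≫ φ i) e2 := F.map_congr hn.symm _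
  rw [← c1, ← c2] at c3
  have d1 := av_comp (F.map (ι.hom ξ a).hom.1 hb) (F.map (φ i) rfl) (bmap 𝒳 (φ i)) (Category.comp_id _)
    (U := U) (V := U) (V' := bmap 𝒳 (φ i) ⁻¹ᵁ U) le_rfl le_rfl le_rfl s
  have d2 := av_comp (F.map (φ i) rfl) (F.map (ι.hom (x i) (A.map (𝒳.p.map (φ i)).op a)).hom.1 hb')
    (bmap 𝒳 (φ i)) (Category.id_comp _) (U := U) (V := bmap 𝒳 (φ i) ⁻¹ᵁ U) (V' := bmap 𝒳 (φ i) ⁻¹ᵁ U)
    le_rfl le_rfl le_rfl s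
  rw [av_smul, appLE_resTop, ← sca_map, ← h i (A.map (𝒳.p.map (φ i)).op a) (bmap 𝒳 (φ i) ⁻¹ᵁ U)]
  rw [← d1, ← d2]
  exact av_congr c3 _ _

end K799.StM
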