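import Groth.Agent.TwSh.K799.Eff

/-!
# Existence of vertices: objects descend along locally surjective functors

`exists_vert`: for `j` locally surjective at `y` and `F` quasi-coherent on the source with `F.map φ = F.map φ'`
whenever `φ`, `φ'` become equal over `y`, there is a vertex.
-/

set_option autoImplicit false
set_option backward.isDefEq.respectTransparency false
set_option backward.isDefEq.respectTransparency.types false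

universe t v' w' v w u

open CategoryTheory CategoryTheory.Limits AlgebraicGeometry Opposite TopologicalSpace
open Groth.Agent.Desc.QD
open StMod K799.Arr K799.StM K799.Cover

namespace K799.StM

variable {S : Scheme.{u}} {𝒬 : BasedCategory.{v, w} (Over S)} {𝒴 : BasedCategory.{v', w'} (Over S)}
  {j : 𝒬 ⥤ᵇ 𝒴} {y : 𝒴.obj}

/-- Two objects over `y` and a common test scheme are locally dominated; refinement for covers of an arbitrary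
scheme over `y` by objects over `y`. -/
theorem Loc.exists_refine' (h : Loc j y) {Z : Scheme.{u}} (t : Z ⟶ sch 𝒴 y) {ι : Type t} (z : ι → 𝒬.obj)
    (β : ∀ i, j.obj (z i) ⟶ y) (q : ∀ i, sch 𝒬 (z i) ⟶ Z) (hq : IsCov q) (hqt : ∀ i, q i ≫ t = bs j (β i))
    {x₀ : 𝒬.obj} (β₀ : j.obj x₀ ⟶ y) (q₀ : sch 𝒬 x₀ ⟶ Z) (hq₀ : q₀ ≫ t = bs j β₀) :
    ∃ (z' : sch 𝒬 x₀ → 𝒬.obj) (a : ∀ p, z' p ⟶ x₀) (i : sch 𝒬 x₀ → ι) (b : ∀ p, z' p ⟶ z (i p)),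
      IsCov (fun p => bmap 𝒬 (a p)) ∧ ∀ p, j.map (a p) ≫ β₀ = j.map (b p) ≫ β (i p) ∧
        bmap 𝒬 (a p) ≫ q₀ = bmap 𝒬 (b p) ≫ q (i p) := by
  have key : ∀ p : sch 𝒬 x₀, ∃ (z' : 𝒬.obj) (a : z' ⟶ x₀) (i : ι) (b : z' ⟶ z i), FP (bmap 𝒬 a) ∧
      p ∈ Set.range (bmap 𝒬 a).base ∧ j.map a ≫ β₀ = j.map b ≫ β i ∧ bmap 𝒬 a ≫ q₀ = bmap 𝒬 b ≫ q i := by
    intro p
    obtain ⟨i, r₀, hr₀⟩ := hq.surj (q₀.base p)
    obtain ⟨r, hr1, hr2⟩ := Scheme.Pullback.exists_preimage_pullback (f := q₀) (g := q i) p r₀ hr₀.symm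
    obtain ⟨z', r', φ, ψ, hr', hz⟩ := h.loc x₀ (z i) β₀ (β i) (pullback q₀ (q i)) (pullback.fst _ _)
      (pullback.snd _ _) (by rw [← hq₀, ← hqt, pullback.condition_assoc])
    obtain ⟨k, s, hs⟩ := hr'.surj r
    refine ⟨z' k, φ k, i, ψ k, ?_, ⟨s, ?_⟩, (hz k).2.2, ?_⟩
    · rw [(hz k).1]
      exact (hr'.fp k).comp (FP.fst _ _ (hq.fp i))
    · rw [(hz k).1, Scheme.Hom.comp_base, TopCat.comp_app, hs]
      exact hr1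
    · rw [(hz k).1, (hz k).2.1, Category.assoc, Category.assoc, pullback.condition]
  choose z' a i b h1 h2 h3 using key
  exact ⟨z', a, i, b, ⟨h1, fun p => ⟨p, h2 p⟩⟩, h3⟩

/-- `F` is compatible with `j` at `y`: morphisms equal over `y` have equal comparison arrows. -/
def Triv (j : 𝒬 ⥤ᵇ 𝒴) (F : Mod 𝒬) (y : 𝒴.obj) : Prop :=
  ∀ {x' x : 𝒬.obj} (φ φ' : x' ⟶ x) (α : j.obj x ⟶ y), j.map φ ≫ α = j.map φ' ≫ α →
    ∀ (g : sch 𝒬 x' ⟶ sch 𝒬 x) (hg : bmap 𝒬 φ = g) (hg' : bmap 𝒬 φ' = g), F.map φ hg = F.map φ' hg'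

section G

variable {F : Mod 𝒬} (hF : F.IsCartesian) (hQ : F.IsLocQCoh) (hT : Triv j F y) (hL : Loc j y)

/-- The arrow to `F z` through a cartesian arrow out of `F x`. -/
noncomputable abbrev el (F : Mod 𝒬) {x : 𝒬.obj} {Z : Scheme.{u}} {f : Z ⟶ sch 𝒬 x} {N : Z.Modules} (c : Arr f (F.obj x) N)
    (hc : IsCart c) {z : 𝒬.obj} (q : sch 𝒬 z ⟶ Z) (φ : z ⟶ x) (h : bmap 𝒬 φ = q ≫ f) : Arr q N (F.obj z) :=
  lift c hc (F.map φ h) rfl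

theorem el_comp {x : 𝒬.obj} {Z : Scheme.{u}} {f : Z ⟶ sch 𝒬 x} {N : Z.Modules} (c : Arr f (F.obj x) N)
    (hc : IsCart c) {z z' : 𝒬.obj} (q : sch 𝒬 z ⟶ Z) (φ : z ⟶ x) (h : bmap 𝒬 φ = q ≫ f) (a : z' ⟶ z)
    (q' : sch 𝒬 z' ⟶ Z) (w : bmap 𝒬 a ≫ q = q') :
    comp (el F c hc q φ h) (F.map a rfl) q' w = el F c hc q' (a ≫ φ) (by rw [bmap_comp, h, ← w, Category.assoc]) := by
  apply comp_cancel hc (w := (rfl : q' ≫ f = q' ≫ f))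
  rw [el, el, comp_lift, ← comp_assoc c _ _ (q ≫ f) rfl (q' ≫ f) (by rw [← w, Category.assoc]) q' w rfl, comp_lift,
    comp_map F a φ rfl h]

include hT in
theorem el_congr {x₀ x : 𝒬.obj} {Z : Scheme.{u}} {f : Z ⟶ sch 𝒬 x} {N : Z.Modules} (c : Arr f (F.obj x) N)
    (hc : IsCart c) (q q' : sch 𝒬 x₀ ⟶ Z) (hqq : q = q') (φ φ' : x₀ ⟶ x) (h : bmap 𝒬 φ = q ≫ f)
    (h' : bmap 𝒬 φ' = q' ≫ f) (α : j.obj x ⟶ y) (e : j.map φ ≫ α = j.map φ' ≫ α) {Y : Scheme.{u}} {M : Y.Modules}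
    {k : Z ⟶ Y} (m : Arr k M N) (l : sch 𝒬 x₀ ⟶ Y) (w : q ≫ k = l) (w' : q' ≫ k = l) :
    comp m (el F c hc q φ h) l w = comp m (el F c hc q' φ' h') l w' := by
  subst hqq
  have : F.map φ h = F.map φ' h' := hT φ φ' α e _ _ _
  rw [el, el, this]

theorem isCart_el (hF : F.IsCartesian) {x : 𝒬.obj} {Z : Scheme.{u}} {f : Z ⟶ sch 𝒬 x} {N : Z.Modules}
    (c : Arr f (F.obj x) N) (hc : IsCart c) {z : 𝒬.obj} (q : sch 𝒬 z ⟶ Z) (φ : z ⟶ x) (h : bmap 𝒬 φ = q ≫ f) :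
    IsCart (el F c hc q φ h) :=
  isCart_lift _ _ (isCart_map hF _ _) _

include hF hQ hT hL in
/-- **Gluing lemma**: an arrow into a restriction of `F` from local data. -/
theorem exists_glue {x : 𝒬.obj} (α : j.obj x ⟶ y) {Z : Scheme.{u}} {f : Z ⟶ sch 𝒬 x} {N : Z.Modules}
    (c : Arr f (F.obj x) N) (hc : IsCart c) {Y : Scheme.{u}} {M : Y.Modules} (h : Z ⟶ Y) {I : Type t} (z : I → 𝒬.obj)
    (q : ∀ i, sch 𝒬 (z i) ⟶ Z) (φ : ∀ i, z i ⟶ x) (hφ : ∀ i, bmap 𝒬 (φ i) = q i ≫ f)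
    (k : ∀ i, sch 𝒬 (z i) ⟶ Y) (hk : ∀ i, q i ≫ h = k i) (n : ∀ i, Arr (k i) M (F.obj (z i)))
    (cov : ∀ p : Z, ∃ i, FP (q i) ∧ p ∈ Set.range (q i).base)
    (compat : ∀ (i i' : I) (z'' : 𝒬.obj) (a : z'' ⟶ z i) (b : z'' ⟶ z i'),
      bmap 𝒬 a ≫ q i = bmap 𝒬 b ≫ q i' → j.map (a ≫ φ i) ≫ α = j.map (b ≫ φ i') ≫ α →
      ∀ (l : sch 𝒬 z'' ⟶ Y) (w : bmap 𝒬 a ≫ k i = l) (w' : bmap 𝒬 b ≫ k i' = l),
      comp (n i) (F.map a rfl) l w = comp (n i') (F.map b rfl) l w') :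
    ∃ Θ : Arr h M N, ∀ i, comp Θ (el F c hc (q i) (φ i) (hφ i)) (k i) (hk i) = n i := by
  choose i hi using cov
  have hcov : IsCov (fun p => q (i p)) := ⟨fun p => (hi p).1, fun p => ⟨p, (hi p).2⟩⟩
  have hN : Coh.IsQCoh N := isQCoh_of_isCart hc (hQ x)
  have hbs : ∀ i, q i ≫ (f ≫ bs j α) = bs j (j.map (φ i) ≫ α) := by
    intro i
    rw [← bmap_comp_bs, hφ, Category.assoc]
  obtain ⟨Θ, hΘ⟩ := glue_arr_loc (fun p => q (i p)) hcov.mem hN (fun p => el F c hc (q (i p)) (φ (i p)) (hφ (i p)))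
    (fun p => k (i p)) (fun p => hk (i p)) (fun p => n (i p)) (by
      intro p p' Z' gi gj c' wi wj
      obtain ⟨z', r, a, b, hr, hz⟩ := hL.loc (z (i p)) (z (i p')) (j.map (φ (i p)) ≫ α) (j.map (φ (i p')) ≫ α) Z' gi gj
        (by rw [← hbs, ← hbs, ← Category.assoc, wi, ← wj, Category.assoc])
      have e1 : ∀ s, bmap 𝒬 (b s) ≫ q (i p') = bmap 𝒬 (a s) ≫ q (i p) := by
        intro s
        rw [(hz s).1, (hz s).2.1, Category.assoc, Category.assoc, wi, wj]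
      have e2 : ∀ s, j.map (a s ≫ φ (i p)) ≫ α = j.map (b s ≫ φ (i p')) ≫ α := by
        intro s
        have := (hz s).2.2
        simpa only [Functor.map_comp, Category.assoc] using this
      have e3 : ∀ s, bmap 𝒬 (b s) ≫ k (i p') = bmap 𝒬 (a s) ≫ k (i p) := by
        intro s
        rw [← hk, ← hk, ← Category.assoc, e1, Category.assoc]
      refine ⟨Z', fun s => sch 𝒬 (z' s), r, hr.mem, fun s => ⟨F.obj (z' s), bmap 𝒬 (a s), (hz s).1.symm,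
        bmap 𝒬 (b s), (hz s).2.1.symm, F.map (a s) rfl, F.map (b s) rfl, bmap 𝒬 (a s) ≫ q (i p), rfl, e1 s,
        bmap 𝒬 (a s) ≫ k (i p), rfl, e3 s, ?_, ?_, ?_⟩⟩
      · exact isCart_comp (isCart_el hF c hc _ _ _) (isCart_map hF _ _) _ _
      · rw [el_comp c hc (q (i p)) (φ (i p)) (hφ (i p)) (a s) _ rfl,
          el_comp c hc (q (i p')) (φ (i p')) (hφ (i p')) (b s) _ (e1 s)]
        have : F.map (a s ≫ φ (i p)) (by rw [bmap_comp, hφ, Category.assoc] :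
            bmap 𝒬 (a s ≫ φ (i p)) = (bmap 𝒬 (a s) ≫ q (i p)) ≫ f) =
          F.map (b s ≫ φ (i p')) (by rw [bmap_comp, hφ, ← Category.assoc, e1] :
            bmap 𝒬 (b s ≫ φ (i p')) = (bmap 𝒬 (a s) ≫ q (i p)) ≫ f) := hT _ _ α (e2 s) _ _ _
        rw [el, el, this]
      · exact compat (i p) (i p') (z' s) (a s) (b s) (e1 s).symm (e2 s) _ _ _)
    (fun p => isCart_el hF c hc _ _ _)
  refine ⟨Θ, fun i₀ => ?_⟩
  obtain ⟨z', a, r, b, hcv, hz⟩ := hL.exists_refine' (f ≫ bs j α) (fun p => z (i p)) (fun p => j.map (φ (i p)) ≫ α)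
    (fun p => q (i p)) hcov (fun p => hbs (i p)) (j.map (φ i₀) ≫ α) (q i₀) (hbs i₀)
  have e2 : ∀ s, j.map (a s ≫ φ i₀) ≫ α = j.map (b s ≫ φ (i (r s))) ≫ α := by
    intro s
    have := (hz s).1
    simpa only [Functor.map_comp, Category.assoc] using this
  have e3 : ∀ s, bmap 𝒬 (b s) ≫ k (i (r s)) = bmap 𝒬 (a s) ≫ k i₀ := by
    intro s
    rw [← hk, ← hk, ← Category.assoc, ← (hz s).2, Category.assoc]
  refine arr_ext' (fun p => bmap 𝒬 (a p)) hcv.mem (hQ _) (fun p => F.map (a p) rfl)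
    (fun p => isCart_map hF _ _) (fun p => bmap 𝒬 (a p) ≫ k i₀) (fun p => rfl) fun p => ?_
  rw [compat i₀ (i (r p)) (z' p) (a p) (b p) (hz p).2 (e2 p) _ rfl (e3 p), ← hΘ (r p),
    comp_assoc Θ _ (F.map (a p) rfl) (k i₀) (hk i₀) _ rfl (bmap 𝒬 (a p) ≫ q i₀) rfl (by rw [Category.assoc, hk]),
    comp_assoc Θ _ (F.map (b p) rfl) _ _ _ (e3 p) (bmap 𝒬 (b p) ≫ q (i (r p))) rfl (by rw [Category.assoc, hk, e3]),
    el_comp c hc (q i₀) (φ i₀) (hφ i₀) (a p) _ rfl,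
    el_comp c hc (q (i (r p))) (φ (i (r p))) (hφ _) (b p) _ rfl]
  exact el_congr hT c hc _ _ (hz p).2 _ _ _ _ α (e2 p) _ _ _ _

end G

section Theta

variable {F : Mod 𝒬} {x₁ x₂ : 𝒬.obj}

/-- The characterisation of the descent isomorphism in arrow form. -/
def IsTh (F : Mod 𝒬) (α₁ : j.obj x₁ ⟶ y) (α₂ : j.obj x₂ ⟶ y) {Z : Scheme.{u}} (f₁ : Z ⟶ sch 𝒬 x₁) (f₂ : Z ⟶ sch 𝒬 x₂)
    (Θ : Arr f₁ (F.obj x₁) (PB f₂ (F.obj x₂))) : Prop :=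
  ∀ (z : 𝒬.obj) (q : sch 𝒬 z ⟶ Z) (φ₁ : z ⟶ x₁) (φ₂ : z ⟶ x₂) (k : sch 𝒬 z ⟶ sch 𝒬 x₁) (hk : q ≫ f₁ = k)
    (h₁ : bmap 𝒬 φ₁ = k) (h₂ : bmap 𝒬 φ₂ = q ≫ f₂), j.map φ₁ ≫ α₁ = j.map φ₂ ≫ α₂ →
    comp Θ (el F (pb f₂ (F.obj x₂)) (isCart_pb _ _) q φ₂ h₂) k hk = F.map φ₁ h₁

/-- Test objects. -/
structure TI (α₁ : j.obj x₁ ⟶ y) (α₂ : j.obj x₂ ⟶ y) {Z : Scheme.{u}} (f₁ : Z ⟶ sch 𝒬 x₁) (f₂ : Z ⟶ sch 𝒬 x₂) where
  z : 𝒬.obj
  q : sch 𝒬 z ⟶ Z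
  φ₁ : z ⟶ x₁
  φ₂ : z ⟶ x₂
  h₁ : bmap 𝒬 φ₁ = q ≫ f₁
  h₂ : bmap 𝒬 φ₂ = q ≫ f₂
  e : j.map φ₁ ≫ α₁ = j.map φ₂ ≫ α₂

variable (hF : F.IsCartesian) (hQ : F.IsLocQCoh) (hT : Triv j F y) (hL : Loc j y)
  {α₁ : j.obj x₁ ⟶ y} {α₂ : j.obj x₂ ⟶ y} {Z : Scheme.{u}} {f₁ : Z ⟶ sch 𝒬 x₁} {f₂ : Z ⟶ sch 𝒬 x₂}
  (w : f₁ ≫ bs j α₁ = f₂ ≫ bs j α₂)

include hF hQ hL w in
theorem ext_Th {Θ Θ' : Arr f₁ (F.obj x₁) (PB f₂ (F.obj x₂))}
    (H : ∀ (z : 𝒬.obj) (q : sch 𝒬 z ⟶ Z) (φ₁ : z ⟶ x₁) (φ₂ : z ⟶ x₂) (_ : bmap 𝒬 φ₁ = q ≫ f₁)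
      (h₂ : bmap 𝒬 φ₂ = q ≫ f₂), j.map φ₁ ≫ α₁ = j.map φ₂ ≫ α₂ →
      comp Θ (el F (pb f₂ (F.obj x₂)) (isCart_pb _ _) q φ₂ h₂) (q ≫ f₁) rfl =
        comp Θ' (el F (pb f₂ (F.obj x₂)) (isCart_pb _ _) q φ₂ h₂) (q ≫ f₁) rfl) : Θ = Θ' := by
  obtain ⟨z, q, φ, ψ, hq, hz⟩ := hL.loc x₁ x₂ α₁ α₂ Z f₁ f₂ w
  exact arr_ext' q hq.mem (isQCoh_of_isCart (isCart_pb f₂ (F.obj x₂)) (hQ x₂))
    (fun i => el F (pb f₂ (F.obj x₂)) (isCart_pb _ _) (q i) (ψ i) (hz i).2.1) (fun i => isCart_el hF _ _ _ _ _)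
    (fun i => q i ≫ f₁) (fun i => rfl) (fun i => H (z i) (q i) (φ i) (ψ i) (hz i).1 (hz i).2.1 (hz i).2.2)

include hF hQ hL w in
theorem IsTh.unique {Θ Θ' : Arr f₁ (F.obj x₁) (PB f₂ (F.obj x₂))} (h : IsTh F α₁ α₂ f₁ f₂ Θ)
    (h' : IsTh F α₁ α₂ f₁ f₂ Θ') : Θ = Θ' :=
  ext_Th hF hQ hL w (fun z q φ₁ φ₂ h₁ h₂ e => (h z q φ₁ φ₂ _ rfl h₁ h₂ e).trans (h' z q φ₁ φ₂ _ rfl h₁ h₂ e).symm)

include hF hQ hT hL w in
theorem exists_Th : ∃ Θ : Arr f₁ (F.obj x₁) (PB f₂ (F.obj x₂)), IsTh F α₁ α₂ f₁ f₂ Θ := by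
  obtain ⟨Θ, hΘ⟩ := exists_glue hF hQ hT hL α₂ (pb f₂ (F.obj x₂)) (isCart_pb _ _) f₁ (I := TI α₁ α₂ f₁ f₂)
    (fun i => i.z) (fun i => i.q) (fun i => i.φ₂) (fun i => i.h₂) (fun i => i.q ≫ f₁) (fun i => rfl)
    (fun i => F.map i.φ₁ i.h₁) (by
      intro p
      obtain ⟨z, q, φ, ψ, hq, hz⟩ := hL.loc x₁ x₂ α₁ α₂ Z f₁ f₂ w
      obtain ⟨k, hk⟩ := hq.surj p
      exact ⟨⟨z k, q k, φ k, ψ k, (hz k).1, (hz k).2.1, (hz k).2.2⟩, hq.fp k, hk⟩) (by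
      intro i i' z'' a b h1 h2 l wl wl'
      have e1 : bmap 𝒬 (a ≫ i.φ₁) = l := by rw [bmap_comp, i.h₁, wl]
      have e2 : bmap 𝒬 (b ≫ i'.φ₁) = l := by rw [bmap_comp, i'.h₁, wl']
      rw [comp_map F a i.φ₁ rfl i.h₁ l wl e1, comp_map F b i'.φ₁ rfl i'.h₁ l wl' e2]
      apply hT _ _ α₁
      have e3 := i.e
      have e4 := i'.e
      rw [Functor.map_comp, Functor.map_comp, Category.assoc, Category.assoc] at h2
      rw [Functor.map_comp, Functor.map_comp, Category.assoc, Category.assoc, e3, e4, h2])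
  refine ⟨Θ, fun z q φ₁ φ₂ k hk h₁ h₂ e => ?_⟩
  subst hk
  exact hΘ ⟨z, q, φ₁, φ₂, h₁, h₂, e⟩

end Theta

section Exist

variable {F : Mod 𝒬}

theorem map_name (F : Mod 𝒬) {z x : 𝒬.obj} (a : z ⟶ x) {g : sch 𝒬 z ⟶ sch 𝒬 x} (h : bmap 𝒬 a = g) :
    F.map a h = Arr.congr (F.map a rfl) h := by subst h; rfl

theorem comp_congr_right {X₀ X₁ X₂ : Scheme.{u}} {g₁ : X₁ ⟶ X₀} {g₂ g₂' : X₂ ⟶ X₁} {M₀ : X₀.Modules} {M₁ : X₁.Modules}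
    {M₂ : X₂.Modules} (a : Arr g₁ M₀ M₁) (b : Arr g₂ M₁ M₂) (h : g₂ = g₂') (k : X₂ ⟶ X₀) (w : g₂' ≫ g₁ = k) :
    comp a (Arr.congr b h) k w = comp a b k (by rw [h, w]) := by subst h; rfl

theorem idA_comp' {X Y : Scheme.{u}} {g : X ⟶ Y} {M : Y.Modules} {N : X.Modules} (m : Arr g M N) (k : X ⟶ Y)
    (w : g ≫ 𝟙 Y = k) : comp (idA M) m k w = Arr.congr m (by rw [← w, Category.comp_id]) := by
  obtain rfl : g = k := by rw [← w, Category.comp_id]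
  exact idA_comp m w

/-- **Objects descend**: existence of the vertex. -/
theorem exists_vert (hF : F.IsCartesian) (hQ : F.IsLocQCoh) (hT : Triv j F y) (hL : Loc j y) :
    Nonempty (Vert j F y) := by
  obtain ⟨x, α, hα⟩ := hL.cov
  have hex : ∀ (Z : Scheme.{u}) (i i' : sch 𝒴 y) (gi : Z ⟶ sch 𝒬 (x i)) (gj : Z ⟶ sch 𝒬 (x i'))
      (w : gi ≫ bs j (α i) = gj ≫ bs j (α i')), ∃ Θ, IsTh F (α i) (α i') gi gj Θ :=
    fun Z i i' gi gj w => exists_Th hF hQ hT hL w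
  choose Θ hΘ using hex
  obtain ⟨N₀, b, hN₀, hb, hbΘ⟩ := exists_of_descent (fun i => bs j (α i)) hα.mem (fun i => F.obj (x i))
    (fun i => hQ _) Θ (by
      -- H1
      intro Z Z' g i i' gi gj w w'
      refine IsTh.unique hF hQ hL (by simpa only [Category.assoc] using congrArg (g ≫ ·) w) ?_ (hΘ _ _ _ _ _ w')
      intro z q φ₁ φ₂ k hk h₁ h₂ e
      have h₂' : bmap 𝒬 φ₂ = (q ≫ g) ≫ gj := by rw [h₂, Category.assoc]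
      have e1 : comp (lift (pb gj (F.obj (x i'))) (isCart_pb _ _) (pb (g ≫ gj) (F.obj (x i'))) rfl)
          (el F (pb (g ≫ gj) (F.obj (x i'))) (isCart_pb _ _) q φ₂ h₂) (q ≫ g) rfl =
            el F (pb gj (F.obj (x i'))) (isCart_pb _ _) (q ≫ g) φ₂ h₂' := by
        apply comp_cancel (isCart_pb gj (F.obj (x i'))) (w := (rfl : (q ≫ g) ≫ gj = (q ≫ g) ≫ gj))
        rw [← comp_assoc (pb gj (F.obj (x i'))) _ _ (g ≫ gj) rfl ((q ≫ g) ≫ gj) (by rw [Category.assoc]) (q ≫ g) rfl rfl,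
          comp_lift, el, el, comp_lift]
        have gen : ∀ (l : sch 𝒬 z ⟶ sch 𝒬 (x i')) (h : bmap 𝒬 φ₂ = l) (w : q ≫ (g ≫ gj) = l),
            comp (pb (g ≫ gj) (F.obj (x i'))) (lift (pb (g ≫ gj) (F.obj (x i'))) (isCart_pb _ _) (F.map φ₂ h₂) rfl)
              l w = F.map φ₂ h := by
          intro l h w
          subst w
          rw [comp_lift]
        exact gen _ _ _
      rw [comp_assoc (Θ Z i i' gi gj w) _ _ _ _ k hk (q ≫ g) rfl (by rw [Category.assoc, hk]), e1]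
      exact hΘ Z i i' gi gj w z (q ≫ g) φ₁ φ₂ k _ h₁ h₂' e) (by
      -- H2
      intro Z i gi
      refine IsTh.unique hF hQ hL rfl (hΘ _ _ _ _ _ rfl) ?_
      intro z q φ₁ φ₂ k hk h₁ h₂ e
      subst hk
      rw [el, comp_lift]
      exact (hT φ₁ φ₂ (α i) e _ _ _).symm) (by
      -- H3
      intro Z i i₂ i₃ g₁ g₂ g₃ w w'
      refine ext_Th hF hQ hL (w.trans w') ?_
      intro z q φ₁ φ₃ h₁ h₃ e
      rw [hΘ Z i i₃ g₁ g₃ (w.trans w') z q φ₁ φ₃ _ rfl h₁ h₃ e]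
      have hbs : 𝟙 _ ≫ bs j (j.map φ₁ ≫ α i) = (q ≫ g₂) ≫ bs j (α i₂) := by
        rw [Category.id_comp, ← bmap_comp_bs, h₁, Category.assoc, Category.assoc, w]
      obtain ⟨z', r, a, φ₂, hr, hz⟩ := hL.loc z (x i₂) (j.map φ₁ ≫ α i) (α i₂) (sch 𝒬 z) (𝟙 _) (q ≫ g₂) hbs
      have hr' : ∀ s, bmap 𝒬 (a s) = r s := fun s => by rw [(hz s).1, Category.comp_id]
      refine arr_ext' r hr.mem (hQ z) (fun s => F.map (a s) (hr' s)) (fun s => isCart_map hF _ _)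
        (fun s => r s ≫ (q ≫ g₁)) (fun s => rfl) fun s => ?_
      -- the composites
      have hs₂ : bmap 𝒬 (φ₂ s) = (r s ≫ q) ≫ g₂ := by rw [(hz s).2.1, Category.assoc]
      have hs₃ : bmap 𝒬 (a s ≫ φ₃) = (r s ≫ q) ≫ g₃ := by rw [bmap_comp, hr', h₃, Category.assoc]
      have hs₁ : bmap 𝒬 (a s ≫ φ₁) = (r s ≫ q) ≫ g₁ := by rw [bmap_comp, hr', h₁, Category.assoc]
      have e12 : j.map (a s ≫ φ₁) ≫ α i = j.map (φ₂ s) ≫ α i₂ := by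
        rw [Functor.map_comp, Category.assoc]; exact (hz s).2.2
      have e23 : j.map (φ₂ s) ≫ α i₂ = j.map (a s ≫ φ₃) ≫ α i₃ := by
        rw [← e12, Functor.map_comp, Category.assoc, Functor.map_comp, Category.assoc, e]
      have k1 : comp (el F (pb g₃ (F.obj (x i₃))) (isCart_pb _ _) q φ₃ h₃) (F.map (a s) (hr' s)) (r s ≫ q) rfl =
          el F (pb g₃ (F.obj (x i₃))) (isCart_pb _ _) (r s ≫ q) (a s ≫ φ₃) hs₃ := by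
        apply comp_cancel (isCart_pb g₃ (F.obj (x i₃))) (w := (rfl : (r s ≫ q) ≫ g₃ = (r s ≫ q) ≫ g₃))
        rw [← comp_assoc (pb g₃ (F.obj (x i₃))) _ _ (q ≫ g₃) rfl ((r s ≫ q) ≫ g₃) (by rw [Category.assoc]) (r s ≫ q)
          rfl rfl, el, el, comp_lift, comp_lift, comp_map F (a s) φ₃ (hr' s) h₃]
      have k2 : (show Arr (r s ≫ q) (PB g₂ (F.obj (x i₂))) (F.obj (z' s)) from
          adjS (Θ Z i₂ i₃ g₂ g₃ w') ≫ el F (pb g₃ (F.obj (x i₃))) (isCart_pb _ _) (r s ≫ q) (a s ≫ φ₃) hs₃) =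
          el F (pb g₂ (F.obj (x i₂))) (isCart_pb _ _) (r s ≫ q) (φ₂ s) hs₂ := by
        apply comp_cancel (isCart_pb g₂ (F.obj (x i₂))) (w := (rfl : (r s ≫ q) ≫ g₂ = (r s ≫ q) ≫ g₂))
        rw [comp_pre, comp_lift]
        have k3 : post (pb g₂ (F.obj (x i₂))) (adjS (Θ Z i₂ i₃ g₂ g₃ w')) = Θ Z i₂ i₃ g₂ g₃ w' := by
          apply adjS_inj
          rw [adjS_post, adjS_pb, Category.id_comp]
        rw [k3]
        exact hΘ Z i₂ i₃ g₂ g₃ w' (z' s) (r s ≫ q) (φ₂ s) (a s ≫ φ₃) _ rfl hs₂ hs₃ e23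
      rw [comp_assoc _ (el F (pb g₃ (F.obj (x i₃))) (isCart_pb _ _) q φ₃ h₃) (F.map (a s) (hr' s)) (q ≫ g₁) rfl
        (r s ≫ (q ≫ g₁)) rfl (r s ≫ q) rfl (by rw [Category.assoc]), k1, ← comp_pre, k2,
        comp_map F (a s) φ₁ (hr' s) h₁ _ _ (by rw [hs₁, Category.assoc])]
      exact hΘ Z i i₂ g₁ g₂ w (z' s) (r s ≫ q) (a s ≫ φ₁) (φ₂ s) _ _ _ hs₂ e12)
  -- compatibility of the `b i`
  have hstar : ∀ (z : 𝒬.obj) (i i' : sch 𝒴 y) (c : z ⟶ x i) (c' : z ⟶ x i') (_ : j.map c ≫ α i = j.map c' ≫ α i')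
      (k : sch 𝒬 z ⟶ sch 𝒴 y) (w : bmap 𝒬 c ≫ bs j (α i) = k) (w' : bmap 𝒬 c' ≫ bs j (α i') = k),
      comp (b i) (F.map c rfl) k w = comp (b i') (F.map c' rfl) k w' := by
    intro z i i' c c' e k w w'
    have h1 := hbΘ (sch 𝒬 z) i i' (bmap 𝒬 c) (bmap 𝒬 c') k w w' (w.trans w'.symm)
    have h2 : bmap 𝒬 c' = 𝟙 (sch 𝒬 z) ≫ bmap 𝒬 c' := (Category.id_comp _).symm
    have h3 : comp (comp (b i) (Θ (sch 𝒬 z) i i' (bmap 𝒬 c) (bmap 𝒬 c') (w.trans w'.symm)) k w)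
        (el F (pb (bmap 𝒬 c') (F.obj (x i'))) (isCart_pb _ _) (𝟙 (sch 𝒬 z)) c' h2) k (Category.id_comp _) =
        comp (comp (b i') (pb (bmap 𝒬 c') (F.obj (x i'))) k w')
        (el F (pb (bmap 𝒬 c') (F.obj (x i'))) (isCart_pb _ _) (𝟙 (sch 𝒬 z)) c' h2) k (Category.id_comp _) := by
      rw [h1]
    rw [comp_assoc (b i) _ _ k w k (Category.id_comp _) (bmap 𝒬 c) (Category.id_comp _) w,
      comp_assoc (b i') _ _ k w' k (Category.id_comp _) (bmap 𝒬 c') (Category.id_comp _) w',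
      hΘ _ _ _ _ _ (w.trans w'.symm) z (𝟙 _) c c' _ _ rfl h2 e] at h3
    rw [h3]
    congr 1
    have gen : ∀ (l : sch 𝒬 z ⟶ sch 𝒬 (x i')) (h : bmap 𝒬 c' = l) (w : 𝟙 _ ≫ bmap 𝒬 c' = l),
        comp (pb (bmap 𝒬 c') (F.obj (x i'))) (el F (pb (bmap 𝒬 c') (F.obj (x i'))) (isCart_pb _ _) (𝟙 (sch 𝒬 z)) c' h2)
          l w = F.map c' h := by
      intro l h w
      subst w
      rw [comp_lift]
    exact gen _ _ _
  -- the arrows for all objects over `y`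
  have hall : ∀ {x₀ : 𝒬.obj} (β : j.obj x₀ ⟶ y), ∃ ρ : Arr (bs j β) N₀ (F.obj x₀),
      ∀ (z : 𝒬.obj) (a : z ⟶ x₀) (i : sch 𝒴 y) (c : z ⟶ x i) (_ : j.map a ≫ β = j.map c ≫ α i)
        (k : sch 𝒬 z ⟶ sch 𝒴 y) (w : bmap 𝒬 a ≫ bs j β = k) (w' : bmap 𝒬 c ≫ bs j (α i) = k),
        comp ρ (F.map a rfl) k w = comp (b i) (F.map c rfl) k w' := by
    intro x₀ β
    obtain ⟨z₁, a₁, i₁, c₁, hcov, hz₁⟩ := hL.exists_refine x α hα β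
    have hel : ∀ {z : 𝒬.obj} (a : z ⟶ x₀) (h : bmap 𝒬 a = bmap 𝒬 a ≫ 𝟙 _),
        el F (idA (F.obj x₀)) (isCart_idA _) (bmap 𝒬 a) a h = F.map a rfl := by
      intro z a h
      apply comp_cancel (isCart_idA (F.obj x₀)) (w := (rfl : bmap 𝒬 a ≫ 𝟙 _ = bmap 𝒬 a ≫ 𝟙 _))
      rw [comp_lift, idA_comp']
      exact map_name F a h
    obtain ⟨ρ, hρ⟩ := exists_glue hF hQ hT hL β (idA (F.obj x₀)) (isCart_idA _) (bs j β) (M := N₀)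
      (I := Σ' (z : 𝒬.obj) (a : z ⟶ x₀) (i : sch 𝒴 y) (c : z ⟶ x i), j.map a ≫ β = j.map c ≫ α i)
      (fun I => I.1) (fun I => bmap 𝒬 I.2.1) (fun I => I.2.1) (fun I => (Category.comp_id _).symm)
      (fun I => bs j (j.map I.2.1 ≫ β)) (fun I => bmap_comp_bs _ _ _)
      (fun I => comp (b I.2.2.1) (F.map I.2.2.2.1 rfl) (bs j (j.map I.2.1 ≫ β))
        ((bmap_comp_bs _ _ _).trans (congrArg (fun γ => bs j γ) I.2.2.2.2.symm))) (by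
        intro p
        obtain ⟨s, hs⟩ := hcov.surj p
        exact ⟨⟨z₁ s, a₁ s, i₁ s, c₁ s, hz₁ s⟩, hcov.fp s, hs⟩) (by
        rintro ⟨z, a, i, c, e⟩ ⟨z', a', i', c', e'⟩ z'' d d' h1 h2 l wl wl'
        have h2' : j.map (d ≫ c) ≫ α i = j.map (d' ≫ c') ≫ α i' := by
          rw [Functor.map_comp, Functor.map_comp, Category.assoc, Category.assoc] at h2
          rw [Functor.map_comp, Functor.map_comp, Category.assoc, Category.assoc, ← e, ← e', h2]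
        have w1 : bmap 𝒬 c ≫ bs j (α i) = bs j (j.map a ≫ β) := by rw [e]; exact bmap_comp_bs _ _ _
        have w2 : bmap 𝒬 c' ≫ bs j (α i') = bs j (j.map a' ≫ β) := by rw [e']; exact bmap_comp_bs _ _ _
        have w1' : bmap 𝒬 (d ≫ c) ≫ bs j (α i) = l := by rw [bmap_comp, Category.assoc, w1]; exact wl
        have w2' : bmap 𝒬 (d' ≫ c') ≫ bs j (α i') = l := by rw [bmap_comp, Category.assoc, w2]; exact wl'
        change comp (comp (b i) (F.map c rfl) (bs j (j.map a ≫ β)) w1) (F.map d rfl) l wl =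
          comp (comp (b i') (F.map c' rfl) (bs j (j.map a' ≫ β)) w2) (F.map d' rfl) l wl'
        rw [comp_assoc (b i) (F.map c rfl) (F.map d rfl) _ _ l wl (bmap 𝒬 (d ≫ c)) (bmap_comp _ _).symm w1',
          comp_assoc (b i') (F.map c' rfl) (F.map d' rfl) _ _ l wl' (bmap 𝒬 (d' ≫ c')) (bmap_comp _ _).symm w2',
          comp_map F d c rfl rfl _ _ rfl, comp_map F d' c' rfl rfl _ _ rfl]
        exact hstar z'' i i' (d ≫ c) (d' ≫ c') h2' l w1' w2')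
    refine ⟨ρ, fun z a i c e k w w' => ?_⟩
    have h1 := hρ ⟨z, a, i, c, e⟩
    have h2 : k = bs j (j.map a ≫ β) := by rw [← w, bmap_comp_bs]
    subst h2
    rw [hel] at h1
    exact h1
  choose ρ hρ using @hall
  have hcartρ : ∀ {x₀ : 𝒬.obj} (β : j.obj x₀ ⟶ y), IsCart (ρ β) := by
    intro x₀ β
    obtain ⟨z₁, a₁, i₁, c₁, hcov, hz₁⟩ := hL.exists_refine x α hα β
    refine isCart_of_fpqc (fun p => bmap 𝒬 (a₁ p)) hcov.mem hN₀ (hQ x₀) (fun p => F.map (a₁ p) rfl)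
      (fun p => isCart_map hF _ _) (ρ β) (fun p => bs j (j.map (a₁ p) ≫ β)) (fun p => bmap_comp_bs _ _ _) fun p => ?_
    have w' : bmap 𝒬 (c₁ p) ≫ bs j (α (i₁ p)) = bs j (j.map (a₁ p) ≫ β) := by
      rw [hz₁ p]; exact bmap_comp_bs _ _ _
    rw [hρ β (z₁ p) (a₁ p) (i₁ p) (c₁ p) (hz₁ p) _ _ w']
    exact isCart_comp (hb _) (isCart_map hF _ _) _ _
  have hcommρ : ∀ {x' x₀ : 𝒬.obj} (φ : x' ⟶ x₀) (β : j.obj x₀ ⟶ y) (k : sch 𝒬 x' ⟶ sch 𝒴 y)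
      (w : bmap 𝒬 φ ≫ bs j β = k) (e : bs j (j.map φ ≫ β) = k),
      comp (ρ β) (F.map φ rfl) k w = Arr.congr (ρ (j.map φ ≫ β)) e := by
    intro x' x₀ φ β k w e
    subst e
    change _ = ρ (j.map φ ≫ β)
    obtain ⟨z₁, a₁, i₁, c₁, hcov, hz₁⟩ := hL.exists_refine x α hα (j.map φ ≫ β)
    refine arr_ext' (fun p => bmap 𝒬 (a₁ p)) hcov.mem (hQ x') (fun p => F.map (a₁ p) rfl)
      (fun p => isCart_map hF _ _) (fun p => bs j (j.map (a₁ p) ≫ j.map φ ≫ β)) (fun p => bmap_comp_bs _ _ _) fun p => ?_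
    have w' : bmap 𝒬 (c₁ p) ≫ bs j (α (i₁ p)) = bs j (j.map (a₁ p) ≫ j.map φ ≫ β) := by
      rw [hz₁ p]; exact bmap_comp_bs _ _ _
    have w2 : bmap 𝒬 (a₁ p ≫ φ) ≫ bs j β = bs j (j.map (a₁ p) ≫ j.map φ ≫ β) := by
      rw [bmap_comp, Category.assoc, bmap_comp_bs, bmap_comp_bs]
    rw [hρ _ (z₁ p) (a₁ p) (i₁ p) (c₁ p) (hz₁ p) _ _ w',
      comp_assoc (ρ β) _ _ _ w _ _ (bmap 𝒬 (a₁ p ≫ φ)) (bmap_comp _ _).symm w2, comp_map F (a₁ p) φ rfl rfl _ _ rfl]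
    exact hρ β (z₁ p) (a₁ p ≫ φ) (i₁ p) (c₁ p) (by rw [Functor.map_comp, Category.assoc]; exact hz₁ p) _ _ w'
  refine ⟨{ N := N₀, qc := hN₀, π := fun β g hg => Arr.congr (ρ β) hg, cart := ?_, comm := ?_ }⟩
  · intro x₀ β g hg
    subst hg
    exact hcartρ β
  · intro x' x₀ φ β g hg h hh k w e
    subst hg; subst hh
    exact hcommρ φ β k w e

end Exist

end K799.StM
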