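import Groth.Agent.TwSh.K799.BasePull

/-!
# The objects of the category of `𝒳` over a scheme over `X` obtained by base change
-/

set_option autoImplicit false
set_option backward.isDefEq.respectTransparency false
set_option backward.isDefEq.respectTransparency.types false

universe t v' w' v w u

open CategoryTheory CategoryTheory.Limits AlgebraicGeometry Opposite TopologicalSpace
open Groth.Agent.Desc.QD
open StMod K799.Arr K799.StM K799.Cover

namespace K799.ZObj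

variable {S : Scheme.{u}} {X : Over S} {𝒳 : BasedCategory.{v, w} (Over S)} (π : 𝒳 ⥤ᵇ AlgSt.ofSch X)
  (η : (AlgSt.ofSch X).obj)

/-- The morphism to the scheme under `η`. -/
noncomputable def bE (w : (fibCat π η).obj) : 𝒳.p.obj w.left ⟶ η.base :=
  eqToHom (π.w_obj w.left).symm ≫ w.hom.hom

theorem bE_sec (w : (fibCat π η).obj) : bE π η w ≫ η.sec.down = strX π w.left := by
  have h1 : w.hom.hom ≫ η.sec.down = (π.obj w.left).sec.down := congrArg ULift.down w.hom.map_sec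
  rw [bE, Category.assoc, h1, strX]

theorem map_bE {w' w : (fibCat π η).obj} (θ : w' ⟶ w) : 𝒳.p.map θ.left ≫ bE π η w = bE π η w' := by
  have h2 : (π.map θ.left).hom = eqToHom (π.w_obj w'.left) ≫ 𝒳.p.map θ.left ≫ eqToHom (π.w_obj w.left).symm :=
    map_eq_of_isHomLift (𝒳 := AlgSt.ofSch X) (𝒳.p.map θ.left) (π.map θ.left)
      (BasedFunctor.preserves_isHomLift π (𝒳.p.map θ.left) θ.left) (π.w_obj w'.left) (π.w_obj w.left).symm
  have h3 : (π.map θ.left).hom ≫ w.hom.hom = w'.hom.hom := congrArg (fun z => z.hom) (CostructuredArrow.w θ)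
  rw [bE, bE, ← h3, h2]
  simp

/-- A morphism of the fibre category from a morphism of `𝒳` over the scheme. -/
theorem exists_hom {w' w : (fibCat π η).obj} (θ : w'.left ⟶ w.left) (h : 𝒳.p.map θ ≫ bE π η w = bE π η w') :
    ∃ θ' : w' ⟶ w, θ'.left = θ := by
  refine ⟨CostructuredArrow.homMk θ ?_, rfl⟩
  apply Stk.EltObj.hom_ext
  have h2 : (π.map θ).hom = eqToHom (π.w_obj w'.left) ≫ 𝒳.p.map θ ≫ eqToHom (π.w_obj w.left).symm :=
    map_eq_of_isHomLift (𝒳 := AlgSt.ofSch X) (𝒳.p.map θ) (π.map θ)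
      (BasedFunctor.preserves_isHomLift π (𝒳.p.map θ) θ) (π.w_obj w'.left) (π.w_obj w.left).symm
  change (π.map θ).hom ≫ w.hom.hom = w'.hom.hom
  rw [bE, bE] at h
  rw [h2, Category.assoc, Category.assoc, h]
  simp

/-- The base change of an object. -/
theorem exists_z (hX : FibCat.IsFibGrpd 𝒳.p) (ξ : 𝒳.obj) : ∃ (z : (fibCat π η).obj) (c : z.left ⟶ ξ),
    IsPullback (bmap 𝒳 c) (bE π η z).left (strX π ξ).left η.sec.down.left := by
  let W : Over S := Over.mk (pullback.fst (strX π ξ).left η.sec.down.left ≫ (𝒳.p.obj ξ).hom)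
  let f : W ⟶ 𝒳.p.obj ξ := Over.homMk (pullback.fst (strX π ξ).left η.sec.down.left)
  let g : W ⟶ η.base := Over.homMk (pullback.snd (strX π ξ).left η.sec.down.left) (by
    have h1 : η.sec.down.left ≫ X.hom = η.base.hom := Over.w η.sec.down
    have h2 : (strX π ξ).left ≫ X.hom = (𝒳.p.obj ξ).hom := Over.w (strX π ξ)
    change pullback.snd _ _ ≫ η.base.hom = pullback.fst _ _ ≫ (𝒳.p.obj ξ).hom
    rw [← h1, ← h2, ← Category.assoc, ← Category.assoc, pullback.condition])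
  have hfg : f ≫ strX π ξ = g ≫ η.sec.down := by
    ext
    exact pullback.condition
  obtain ⟨x, φ, e, hφ⟩ := exists_lift (𝒳 := 𝒳) f
  have hg : (eqToHom e ≫ g) ≫ η.sec.down = strX π x := by
    rw [Category.assoc, ← hfg, ← Category.assoc, ← hφ, map_strX]
  refine ⟨CostructuredArrow.mk (toEta π x η (eqToHom e ≫ g) hg), φ, ?_⟩
  have hb : bE π η (CostructuredArrow.mk (toEta π x η (eqToHom e ≫ g) hg)) = eqToHom e ≫ g := by
    change eqToHom _ ≫ eqToHom _ ≫ eqToHom e ≫ g = _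
    simp
  rw [hb]
  have key : ∀ {P : Over S} (e : P = W), IsPullback (eqToHom e ≫ f).left (eqToHom e ≫ g).left
      (strX π ξ).left η.sec.down.left := by
    intro P e
    subst e
    simp only [eqToHom_refl, Category.id_comp]
    exact IsPullback.of_hasPullback _ _
  have h := key e
  rw [← hφ] at h
  exact h

variable (hX : FibCat.IsFibGrpd 𝒳.p)

/-- The base change of an object. -/
noncomputable def z (ξ : 𝒳.obj) : (fibCat π η).obj := (exists_z π η hX ξ).choose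

/-- The projection of the base change of an object. -/
noncomputable def c (ξ : 𝒳.obj) : (z π η hX ξ).left ⟶ ξ := (exists_z π η hX ξ).choose_spec.choose

theorem isPullback_z (ξ : 𝒳.obj) :
    IsPullback (bmap 𝒳 (c π η hX ξ)) (bE π η (z π η hX ξ)).left (strX π ξ).left η.sec.down.left :=
  (exists_z π η hX ξ).choose_spec.choose_spec

theorem exists_zlift {ξ : 𝒳.obj} (w : (fibCat π η).obj) (ψ : w.left ⟶ ξ) :
    ∃ θ : w ⟶ z π η hX ξ, θ.left ≫ c π η hX ξ = ψ := by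
  have h := isPullback_z π η hX ξ
  have hs : bmap 𝒳 ψ ≫ (strX π ξ).left = (bE π η w).left ≫ η.sec.down.left := by
    have h1 : 𝒳.p.map ψ ≫ strX π ξ = bE π η w ≫ η.sec.down := by rw [map_strX, bE_sec]
    exact congrArg (fun z => z.left) h1
  let g₀ := h.lift (bmap 𝒳 ψ) (bE π η w).left hs
  have hg₀ : g₀ ≫ bmap 𝒳 (c π η hX ξ) = bmap 𝒳 ψ := h.lift_fst _ _ _
  have hg₁ : g₀ ≫ (bE π η (z π η hX ξ)).left = (bE π η w).left := h.lift_snd _ _ _
  let g : 𝒳.p.obj w.left ⟶ 𝒳.p.obj (z π η hX ξ).left := Over.homMk g₀ (by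
    have h1 : bmap 𝒳 (c π η hX ξ) ≫ (𝒳.p.obj ξ).hom = (𝒳.p.obj (z π η hX ξ).left).hom := Over.w _
    have h2 : bmap 𝒳 ψ ≫ (𝒳.p.obj ξ).hom = (𝒳.p.obj w.left).hom := Over.w _
    rw [← h1, ← h2, ← hg₀, Category.assoc])
  have e1 : g ≫ 𝒳.p.map (c π η hX ξ) = 𝒳.p.map ψ := by
    ext
    exact hg₀
  have e2 : g ≫ bE π η (z π η hX ξ) = bE π η w := by
    ext
    exact hg₁
  obtain ⟨χ, h1, h2⟩ := exists_fac (𝒳 := 𝒳) (c π η hX ξ) ψ g e1
  obtain ⟨θ, hθ⟩ := exists_hom π η (w' := w) (w := z π η hX ξ) χ (by rw [h1, e2])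
  exact ⟨θ, by rw [hθ, h2]⟩

theorem zlift_unique {ξ : 𝒳.obj} {w : (fibCat π η).obj} {θ θ' : w ⟶ z π η hX ξ}
    (h : θ.left ≫ c π η hX ξ = θ'.left ≫ c π η hX ξ) : θ = θ' := by
  apply CostructuredArrow.hom_ext
  refine fac_unique (𝒳 := 𝒳) (c π η hX ξ) θ.left θ'.left ?_ h
  ext
  apply (isPullback_z π η hX ξ).hom_ext
  · have h1 := congrArg (fun k => 𝒳.p.map k) h
    rw [Functor.map_comp, Functor.map_comp] at h1
    exact congrArg (fun k => k.left) h1
  · have h1 := (map_bE π η θ).trans (map_bE π η θ').symm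
    exact congrArg (fun k => k.left) h1

/-- Functoriality of the base change. -/
noncomputable def zm {ξ' ξ : 𝒳.obj} (φ : ξ' ⟶ ξ) : z π η hX ξ' ⟶ z π η hX ξ :=
  (exists_zlift π η hX (z π η hX ξ') (c π η hX ξ' ≫ φ)).choose

theorem zm_c {ξ' ξ : 𝒳.obj} (φ : ξ' ⟶ ξ) : (zm π η hX φ).left ≫ c π η hX ξ = c π η hX ξ' ≫ φ :=
  (exists_zlift π η hX (z π η hX ξ') (c π η hX ξ' ≫ φ)).choose_spec

theorem zm_id (ξ : 𝒳.obj) : zm π η hX (𝟙 ξ) = 𝟙 _ := by
  apply zlift_unique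
  rw [zm_c, Category.comp_id]
  exact (Category.id_comp _).symm

theorem zm_comp {ξ'' ξ' ξ : 𝒳.obj} (ψ : ξ'' ⟶ ξ') (φ : ξ' ⟶ ξ) :
    zm π η hX (ψ ≫ φ) = zm π η hX ψ ≫ zm π η hX φ := by
  apply zlift_unique
  have h1 := zm_c π η hX ψ
  have h2 := zm_c π η hX φ
  have h3 : (zm π η hX ψ ≫ zm π η hX φ).left = (zm π η hX ψ).left ≫ (zm π η hX φ).left := rfl
  rw [zm_c, h3, Category.assoc, h2, ← Category.assoc, ← Category.assoc, h1]

theorem isPullback_zm {ξ' ξ : 𝒳.obj} (φ : ξ' ⟶ ξ) :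
    IsPullback (bmap 𝒳 (zm π η hX φ).left) (bmap 𝒳 (c π η hX ξ')) (bmap 𝒳 (c π η hX ξ)) (bmap 𝒳 φ) := by
  have h1 := (isPullback_z π η hX ξ).flip
  have h2 := (isPullback_z π η hX ξ').flip
  have e1 : bmap 𝒳 (zm π η hX φ).left ≫ (bE π η (z π η hX ξ)).left = (bE π η (z π η hX ξ')).left :=
    congrArg (fun k => k.left) (map_bE π η (zm π η hX φ))
  have e2 : bmap 𝒳 φ ≫ (strX π ξ).left = (strX π ξ').left := congrArg (fun k => k.left) (map_strX π φ)
  have e3 : bmap 𝒳 (zm π η hX φ).left ≫ bmap 𝒳 (c π η hX ξ) = bmap 𝒳 (c π η hX ξ') ≫ bmap 𝒳 φ := by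
    rw [← bmap_comp, ← bmap_comp, zm_c]
  rw [← e1, ← e2] at h2
  exact (IsPullback.of_right h2 e3 h1)

end K799.ZObj
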